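import Mathlib
import Cfsg.Agent.Lib.Transfer.Fusion

/-!
# A transfer retraction onto a centralised subgroup of an abelian Sylow `2`-subgroup

Owner: helper99.
-/

set_option autoImplicit false

namespace Cfsg.Agent.Lib.HallJanko.Retract

/-- The transfer fixes an element of order two of an abelian Sylow `2`-subgroup centralised by the normalizer. -/
theorem transfer_eq {M V : Type*} [Group M] [Finite M] [CommGroup V] (S : Sylow 2 M)
    (hS : IsMulCommutative (S : Subgroup M)) (φ : (S : Subgroup M) →* V) (x : (S : Subgroup M))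
    (hx : (x : M) * x = 1) (hc : ∀ n ∈ Subgroup.normalizer ((S : Subgroup M) : Set M), Commute n (x : M)) :
    MonoidHom.transfer φ (x : M) = φ x := by
  haveI : Fact (Nat.Prime 2) := ⟨Nat.prime_two⟩
  have key : ∀ (k : ℕ) (g₀ : M), g₀⁻¹ * (x : M) ^ k * g₀ ∈ (S : Subgroup M) →
      g₀⁻¹ * (x : M) ^ k * g₀ = (x : M) ^ k := by
    intro k g₀ hg
    obtain ⟨n, hn, hne⟩ := Cfsg.Agent.Lib.Transfer.Fusion.controls_of_isMulCommutative S hS
      ((x : M) ^ k) (pow_mem x.2 k) g₀⁻¹ (by rw [inv_inv]; exact hg)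
    rw [inv_inv] at hne
    rw [← hne]
    exact mul_inv_eq_iff_eq_mul.2 ((hc n hn).pow_right k).eq
  rw [MonoidHom.transfer_eq_pow φ _ key]
  congr 1
  refine Subtype.ext ?_
  show (x : M) ^ (S : Subgroup M).index = x
  obtain ⟨j, hj⟩ : Odd (S : Subgroup M).index :=
    Nat.odd_iff.2 (Nat.two_dvd_ne_zero.1 S.not_dvd_index)
  rw [hj, pow_succ, pow_mul, pow_two, hx, one_pow, one_mul]

/-- Projection of an abelian group to a factor. -/
theorem exists_proj {G : Type*} [Group G] [Finite G] (A V W : Subgroup G) (hVA : V ≤ A) (hWA : W ≤ A)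
    (hA : ∀ a ∈ A, ∀ b ∈ A, Commute a b) (hdisj : ∀ x ∈ V, x ∈ W → x = 1)
    (hcard : Nat.card V * Nat.card W = Nat.card A) :
    ∃ φ : A →* V, ∀ v : V, φ ⟨v, hVA v.2⟩ = v := by
  let f : V × W →* A :=
    MonoidHom.mk' (fun p => ⟨p.1.1 * p.2.1, mul_mem (hVA p.1.2) (hWA p.2.2)⟩) (fun p q => Subtype.ext (by
      show p.1.1 * q.1.1 * (p.2.1 * q.2.1) = p.1.1 * p.2.1 * (q.1.1 * q.2.1)
      rw [mul_assoc, mul_assoc, ← mul_assoc q.1.1, (hA _ (hVA q.1.2) _ (hWA p.2.2)).eq, mul_assoc]))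
  have hinj : Function.Injective f := by
    rw [injective_iff_map_eq_one]
    rintro ⟨v, w⟩ hvw
    have h1 : v.1 * w.1 = 1 := congrArg Subtype.val hvw
    have hv : v.1 = 1 := hdisj v.1 v.2 (by rw [eq_inv_of_mul_eq_one_left h1]; exact inv_mem w.2)
    rw [hv, one_mul] at h1
    exact Prod.ext (Subtype.ext hv) (Subtype.ext h1)
  let e : V × W ≃* A := MulEquiv.ofBijective f
    ((Nat.bijective_iff_injective_and_card f).2 ⟨hinj, by rw [Nat.card_prod, hcard]⟩)
  refine ⟨(MonoidHom.fst V W).comp e.symm.toMonoidHom, fun v => ?_⟩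
  have h2 : e (v, 1) = (⟨v, hVA v.2⟩ : A) := Subtype.ext (mul_one _)
  show (e.symm ⟨v, hVA v.2⟩).1 = v
  rw [← h2, MulEquiv.symm_apply_apply]

end Cfsg.Agent.Lib.HallJanko.Retract
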