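import Mathlib

/-!
# Finite facts about `A₅` acting on the even vectors of `𝔽₂⁵`

The model of `C(z) / Q` acting on `Q / Z(Q)` for a group of Hall-Janko type.

Owner: helper99.
-/

set_option autoImplicit false

namespace Cfsg.Agent.Lib.HallJanko.Model

/-- The vectors. -/
abbrev Vec : Type := Fin 5 → ZMod 2

/-- Even weight. -/
def Even5 (v : Vec) : Prop := v 0 + v 1 + v 2 + v 3 + v 4 = 0

instance (v : Vec) : Decidable (Even5 v) := by unfold Even5; infer_instance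

/-- All coordinates but the `j`-th. -/
def allBut (j : Fin 5) : Vec := fun i => if i = j then 0 else 1

/-- `v` is fixed by the permutation `σ`. -/
def IsFix (σ : Equiv.Perm (Fin 5)) (v : Vec) : Prop := ∀ i, v (σ i) = v i

instance (σ : Equiv.Perm (Fin 5)) (v : Vec) : Decidable (IsFix σ v) := by unfold IsFix; infer_instance

theorem even_allBut : ∀ j, Even5 (allBut j) := by decide +kernel

theorem allBut_injective : ∀ i j, allBut i = allBut j → i = j := by decide +kernel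

theorem span_four : ∀ v : Vec, Even5 v → ∃ a b c d : ZMod 2,
    ∀ k, v k = a * allBut 0 k + b * allBut 1 k + c * allBut 2 k + d * allBut 3 k := by decide +kernel

theorem vec_cases : ∀ v : Vec, Even5 v → v = 0 ∨ (∃ i, v = allBut i) ∨
    ∃ i j, i ≠ j ∧ v = allBut i + allBut j := by decide +kernel

theorem card_even : Fintype.card {v : Vec // Even5 v} = 16 := by decide +kernel

theorem allBut_sum : allBut 0 + allBut 1 + allBut 2 + allBut 3 = allBut 4 := by decide +kernel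

/-- Facts about an involution `σ` of `A₅`. -/
theorem invol_facts : ∀ σ : Equiv.Perm (Fin 5), Equiv.Perm.sign σ = 1 → σ * σ = 1 → σ ≠ 1 →
    Fintype.card {v : Vec // Even5 v ∧ IsFix σ v} = 4 ∧
    ∃ i a b : Fin 5, σ i = i ∧ (∀ j, σ j = j → j = i) ∧ σ a ≠ a ∧ σ b ≠ b ∧ b ≠ a ∧ b ≠ σ a ∧
      allBut a + allBut (σ a) + (allBut b + allBut (σ b)) = allBut i := by decide +kernel

-- Two commuting involutions of `A₅`: what is needed to make lifts commute.
set_option synthInstance.maxSize 2000 in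
set_option synthInstance.maxHeartbeats 200000 in
theorem pair_facts : ∀ σ τ : Equiv.Perm (Fin 5), Equiv.Perm.sign σ = 1 → σ * σ = 1 → σ ≠ 1 →
    Equiv.Perm.sign τ = 1 → τ * τ = 1 → τ ≠ 1 → τ ≠ σ → σ * τ = τ * σ →
    ∀ i, σ i = i → τ i = i ∧
      (∀ v : Vec, Even5 v → IsFix σ v → IsFix τ v → v = 0 ∨ v = allBut i) ∧
      ∃ w : Vec, Even5 w ∧ IsFix τ w ∧ ∀ k, w k + w (σ k) = allBut i k := by decide +kernel

theorem cent_invol : ∀ σ : Equiv.Perm (Fin 5), Equiv.Perm.sign σ = 1 → σ * σ = 1 → σ ≠ 1 →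
    Fintype.card {τ : Equiv.Perm (Fin 5) // Equiv.Perm.sign τ = 1 ∧ σ * τ = τ * σ} = 4 ∧
    ∀ τ : Equiv.Perm (Fin 5), Equiv.Perm.sign τ = 1 → σ * τ = τ * σ → τ * τ = 1 := by decide +kernel

theorem three_facts : ∀ σ : Equiv.Perm (Fin 5), σ * σ * σ = 1 → σ ≠ 1 →
    Fintype.card {τ : Equiv.Perm (Fin 5) // Equiv.Perm.sign τ = 1 ∧ σ * τ = τ * σ} = 3 ∧
    Fintype.card {v : Vec // Even5 v ∧ IsFix σ v} = 4 ∧
    ∃ a b : Fin 5, a ≠ b ∧ σ a = a ∧ σ b = b := by decide +kernel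

theorem five_facts : ∀ σ : Equiv.Perm (Fin 5), σ * σ * σ * σ * σ = 1 → σ ≠ 1 →
    Fintype.card {τ : Equiv.Perm (Fin 5) // Equiv.Perm.sign τ = 1 ∧ σ * τ = τ * σ} = 5 ∧
    Fintype.card {v : Vec // Even5 v ∧ IsFix σ v} = 1 := by decide +kernel

theorem invol_conj : ∀ τ : Equiv.Perm (Fin 5), Equiv.Perm.sign τ = 1 → τ * τ = 1 → τ ≠ 1 →
    ∃ g : Equiv.Perm (Fin 5), Equiv.Perm.sign g = 1 ∧
      g * (Equiv.swap 0 1 * Equiv.swap 2 3) = τ * g := by decide +kernel

theorem card_invol : Fintype.card {σ : Equiv.Perm (Fin 5) // Equiv.Perm.sign σ = 1 ∧ σ * σ = 1 ∧ σ ≠ 1} = 15 := by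
  decide +kernel

theorem transitive_fix : ∀ i j : Fin 5, ∃ g : Equiv.Perm (Fin 5), Equiv.Perm.sign g = 1 ∧ g i = j := by
  decide +kernel

theorem three_inverted : ∀ σ : Equiv.Perm (Fin 5), σ * σ * σ = 1 → σ ≠ 1 →
    ∃ τ : Equiv.Perm (Fin 5), Equiv.Perm.sign τ = 1 ∧ τ * σ = σ⁻¹ * τ := by decide +kernel

end Cfsg.Agent.Lib.HallJanko.Model
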