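import Mathlib
import Cfsg.Agent.Lib.LargeExtraspecial.Basic
import Cfsg.Agent.Lib.HallJanko.Model

/-!
# Hall-Janko type: the five singular points of `Q / Z(Q)`

`Q` is extraspecial of order `32` with centre `⟨z⟩`, normalised by `C(z)` of order `1920`, contains its
centralizer and a conjugate of `z` other than `z`. Then `Q` has five pairwise non-commuting classes
`{u i, u i z}` of non-central involutions, and `C(z) / Q ≅ A₅` acts on them.

Owner: helper99.
-/

set_option autoImplicit false
set_option linter.style.haveILetI false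

namespace Cfsg.Agent.Lib.HallJanko

open Cfsg.Agent.Lib.LargeExtraspecial.Basic Cfsg.Agent.Lib.HallJanko.Model

variable {G : Type*} [Group G]

/-- The hypotheses on `z` and `Q`. -/
structure Base (z : G) (Q : Subgroup G) : Prop where
  ord : orderOf z = 2
  es : ES Q z
  card : Nat.card Q = 32
  cent : Nat.card (Subgroup.centralizer ({z} : Set G)) = 1920
  norm : ∀ c : G, Commute c z → ∀ q ∈ Q, c * q * c⁻¹ ∈ Q
  self : ∀ c : G, (∀ q ∈ Q, Commute c q) → c = 1 ∨ c = z
  fus : ∃ g : G, g * z * g⁻¹ ∈ Q ∧ g * z * g⁻¹ ≠ z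

/-- Representatives of the five classes of non-central involutions of `Q`. -/
structure Five (z : G) (Q : Subgroup G) (u : Fin 5 → G) : Prop extends Base z Q where
  mem : ∀ i, u i ∈ Q
  sq : ∀ i, u i * u i = 1
  anti : ∀ i j, i ≠ j → chi (u i) (u j) = 1
  isConj : ∀ i, IsConj z (u i)

namespace Base

variable {z : G} {Q : Subgroup G}

theorem z_mem_centralizer (h : Base z Q) : Q ≤ Subgroup.centralizer ({z} : Set G) := fun q hq =>
  Subgroup.mem_centralizer_singleton_iff.2 (h.es.comm q hq)

theorem commute_of_mem_centralizer (_h : Base z Q) {c : G}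
    (hc : c ∈ Subgroup.centralizer ({z} : Set G)) : Commute c z :=
  Subgroup.mem_centralizer_singleton_iff.1 hc

theorem conj_cases (h : Base z Q) {c q : G} (hc : Commute c z) (hq : q = 1 ∨ q = z) :
    c * q * c⁻¹ = q := by
  rcases hq with rfl | rfl
  · simp
  · exact mul_inv_eq_iff_eq_mul.2 hc

theorem mul_z_mul_z (h : Base z Q) (a : G) : a * z * z = a := by rw [mul_assoc, h.es.sq, mul_one]

/-- An element of order prime to `2` normalizing `Q` and fixing a coset of `Z(Q)` fixes the element. -/
theorem conj_eq_of_odd (h : Base z Q) {f q : G} (hf : Odd (orderOf f)) (hfz : Commute f z)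
    (hq : f * q * f⁻¹ = q ∨ f * q * f⁻¹ = q * z) : f * q * f⁻¹ = q := by
  refine hq.resolve_right fun he => ?_
  have key : ∀ k : ℕ, f ^ k * q * (f ^ k)⁻¹ = q * z ^ k := by
    intro k
    induction k with
    | zero => simp
    | succ k ih =>
      calc f ^ (k + 1) * q * (f ^ (k + 1))⁻¹ = f * (f ^ k * q * (f ^ k)⁻¹) * f⁻¹ := by
            rw [pow_succ']; group
        _ = f * q * f⁻¹ * (f * z ^ k * f⁻¹) := by rw [ih]; group
        _ = q * z * z ^ k := by rw [he, mul_inv_eq_iff_eq_mul.2 (hfz.pow_right k)]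
        _ = q * z ^ (k + 1) := by rw [mul_assoc, ← pow_succ']
  have h1 := key (orderOf f)
  rw [pow_orderOf_eq_one, one_mul, inv_one, mul_one] at h1
  obtain ⟨m, hm⟩ := hf
  rw [hm, pow_succ, pow_mul, pow_two, h.es.sq, one_pow, one_mul] at h1
  exact h.es.ne (mul_eq_left.1 h1.symm)

/-- An element `q` of `Q` commutes or anticommutes with `v`. -/
theorem chi_one (h : Base z Q) {q v : G} (hq : q ∈ Q) (hv : v ∈ Q) (hc : chi q v = 1) :
    q * v * q⁻¹ = v * z := by
  refine (h.es.conj q hq v hv).resolve_left fun he => ?_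
  rw [chi, if_pos he] at hc
  exact zero_ne_one hc

theorem exists_five [Finite G] (h : Base z Q) : ∃ u : Fin 5 → G, Five z Q u := by
  haveI : Fact (Nat.Prime 5) := ⟨by norm_num⟩
  obtain ⟨g, hgQ, hgz⟩ := h.fus
  set v := g * z * g⁻¹ with hv
  have hv1 : v ≠ 1 := fun e => h.es.ne (by simpa [hv] using e)
  have hv2 : v * v = 1 := by
    rw [hv, show g * z * g⁻¹ * (g * z * g⁻¹) = g * (z * z) * g⁻¹ by group, h.es.sq]; group
  obtain ⟨f', hf'⟩ := exists_prime_orderOf_dvd_card' (G := Subgroup.centralizer ({z} : Set G)) 5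
    (by rw [h.cent]; norm_num)
  set f : G := f'.1 with hfdef
  have hf : orderOf f = 5 := by rw [hfdef, Subgroup.orderOf_coe]; exact hf'
  have hfz : Commute f z := h.commute_of_mem_centralizer f'.2
  have hfQ : ∀ q ∈ Q, f * q * f⁻¹ ∈ Q := h.norm f hfz
  -- `f` fixes nothing but the centre
  set Q₀ := Q ⊓ Subgroup.centralizer ({f} : Set G) with hQ₀
  have hdiv : 5 ∣ Nat.card Q - Nat.card Q₀ := by
    let φ : Q → Q := fun q => ⟨f * q * f⁻¹, hfQ q q.2⟩
    let σ : Equiv.Perm Q := Equiv.ofBijective φ (Finite.injective_iff_bijective.1 fun a b hab =>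
      Subtype.ext (mul_left_cancel (mul_right_cancel (congrArg Subtype.val hab))))
    have hσ : ∀ (k : ℕ) (q : Q), ((σ ^ k) q : G) = f ^ k * q * (f ^ k)⁻¹ := by
      intro k
      induction k with
      | zero => intro q; simp
      | succ k ih =>
        intro q
        rw [pow_succ', Equiv.Perm.mul_apply]
        show f * ((σ ^ k) q : G) * f⁻¹ = _
        rw [ih, pow_succ']; group
    have hσ5 : σ ^ 5 = 1 := Equiv.ext fun q => Subtype.ext (by
      rw [hσ, ← hf, pow_orderOf_eq_one]; simp)
    classical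
    haveI : Fintype Q := Fintype.ofFinite _
    have hmod := Equiv.Perm.card_compl_support_modEq (p := 5) (n := 1) (σ := σ) (by rw [pow_one]; exact hσ5)
    have hfix : (σ.supportᶜ).card = Nat.card Q₀ := by
      rw [← Fintype.card_coe, ← Nat.card_eq_fintype_card]
      refine Nat.card_congr
        { toFun := fun q => ⟨q.1.1, q.1.2, Subgroup.mem_centralizer_singleton_iff.2 ?_⟩
          invFun := fun q => ⟨⟨q.1, q.2.1⟩, ?_⟩
          left_inv := fun q => rfl
          right_inv := fun q => rfl }
      · have h1 := q.2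
        rw [Finset.mem_compl, Equiv.Perm.notMem_support] at h1
        exact (mul_inv_eq_iff_eq_mul.1 (congrArg Subtype.val h1)).symm
      · rw [Finset.mem_compl, Equiv.Perm.notMem_support]
        exact Subtype.ext (mul_inv_eq_iff_eq_mul.2 (Subgroup.mem_centralizer_singleton_iff.1 q.2.2).symm)
    rw [hfix, ← Nat.card_eq_fintype_card] at hmod
    exact (Nat.modEq_iff_dvd' (Subgroup.card_le_of_le inf_le_left)).1 hmod
  have hzQ₀ : z ∈ Q₀ := ⟨h.es.mem, Subgroup.mem_centralizer_singleton_iff.2 hfz.eq.symm⟩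
  have hQ₀card : Nat.card Q₀ = 2 := by
    have h2 : 2 ∣ Nat.card Q₀ := by
      have := Subgroup.orderOf_dvd_natCard _ hzQ₀
      rwa [h.ord] at this
    have hle : Q₀ ≠ Q := by
      intro he
      rcases h.self f (fun q hq => ((Subgroup.mem_centralizer_singleton_iff.1
        (he.symm ▸ hq : q ∈ Q₀).2)).symm) with e | e
      · rw [e, orderOf_one] at hf; omega
      · rw [e, h.ord] at hf; omega
    have hdvd : Nat.card Q₀ ∣ 32 := h.card ▸ Subgroup.card_dvd_of_le inf_le_left
    have hne : Nat.card Q₀ ≠ 32 := fun e =>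
      hle (Subgroup.eq_of_le_of_card_ge inf_le_left (by rw [h.card, e]))
    rw [h.card] at hdiv
    have hle32 := Nat.le_of_dvd (by norm_num) hdvd
    generalize Nat.card Q₀ = n at h2 hdvd hne hdiv hle32 ⊢
    interval_cases n <;> omega
  have hQ₀eq : ∀ q ∈ Q₀, q = 1 ∨ q = z := by
    intro q hq
    have he : Subgroup.zpowers z = Q₀ := Subgroup.eq_of_le_of_card_ge (Subgroup.zpowers_le.2 hzQ₀)
      (by rw [hQ₀card, Nat.card_zpowers, h.ord])
    rw [← he] at hq
    obtain ⟨k, rfl⟩ := Subgroup.mem_zpowers_iff.1 hq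
    rcases Int.even_or_odd k with ⟨m, rfl⟩ | ⟨m, rfl⟩
    · left; rw [← two_mul, zpow_mul, zpow_two, h.es.sq, one_zpow]
    · right; rw [zpow_add, zpow_mul, zpow_two, h.es.sq, one_zpow, zpow_one, one_mul]
  let w : ℕ → G := fun k => f ^ k * v * (f ^ k)⁻¹
  have hfk : ∀ k : ℕ, Commute (f ^ k) z := fun k => hfz.pow_left k
  have hwQ : ∀ k, w k ∈ Q := fun k => h.norm _ (hfk k) v hgQ
  have hwsq : ∀ k, w k * w k = 1 := fun k => by
    show f ^ k * v * (f ^ k)⁻¹ * (f ^ k * v * (f ^ k)⁻¹) = 1
    rw [show f ^ k * v * (f ^ k)⁻¹ * (f ^ k * v * (f ^ k)⁻¹) = f ^ k * (v * v) * (f ^ k)⁻¹ by group,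
      hv2]; group
  have hshift : ∀ i j : ℕ, chi (w (i + 1)) (w (j + 1)) = chi (w i) (w j) := by
    intro i j
    have e : ∀ k, w (k + 1) = f * w k * f⁻¹ := fun k => by
      show f ^ (k + 1) * v * (f ^ (k + 1))⁻¹ = f * (f ^ k * v * (f ^ k)⁻¹) * f⁻¹
      rw [pow_succ']; group
    rw [e, e, chi_conj]
  have hw5 : ∀ k, w (k + 5) = w k := fun k => by
    show f ^ (k + 5) * v * (f ^ (k + 5))⁻¹ = _
    rw [pow_add, ← hf, pow_orderOf_eq_one, mul_one]
  -- the product of the five is fixed by `f`
  set P := w 0 * w 1 * w 2 * w 3 * w 4 with hP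
  have hPQ : P ∈ Q := mul_mem (mul_mem (mul_mem (mul_mem (hwQ 0) (hwQ 1)) (hwQ 2)) (hwQ 3)) (hwQ 4)
  have hPfix : f * P * f⁻¹ = P := by
    refine h.conj_eq_of_odd (by rw [hf]; decide) hfz ?_
    have e : f * P * f⁻¹ = (w 0)⁻¹ * P * w 0 := by
      have e1 : ∀ k, f * w k * f⁻¹ = w (k + 1) := fun k => by
        show f * (f ^ k * v * (f ^ k)⁻¹) * f⁻¹ = f ^ (k + 1) * v * (f ^ (k + 1))⁻¹
        rw [pow_succ']; group
      calc f * P * f⁻¹ = (f * w 0 * f⁻¹) * (f * w 1 * f⁻¹) * (f * w 2 * f⁻¹) * (f * w 3 * f⁻¹) *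
            (f * w 4 * f⁻¹) := by rw [hP]; group
        _ = w 1 * w 2 * w 3 * w 4 * w (0 + 5) := by rw [e1, e1, e1, e1, e1]
        _ = (w 0)⁻¹ * P * w 0 := by rw [hw5, hP]; group
    rw [e]
    rcases h.es.conj _ (inv_mem (hwQ 0)) P hPQ with h1 | h1
    · left; rw [inv_inv] at h1; exact h1
    · right; rw [inv_inv] at h1; exact h1
  have hPz : P = 1 ∨ P = z := hQ₀eq P ⟨hPQ, Subgroup.mem_centralizer_singleton_iff.2
    (mul_inv_eq_iff_eq_mul.1 hPfix).symm⟩
  have hwz : ∀ i, 1 ≤ i → i ≤ 4 → w i = v → False := fun i hi hi' he => by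
    have hcop : Nat.Coprime (orderOf f) i := by
      rw [hf]; interval_cases i <;> decide
    obtain ⟨m, hm⟩ := exists_pow_eq_self_of_coprime hcop.symm
    have hc : Commute (f ^ i) v := mul_inv_eq_iff_eq_mul.1 he
    have hc' : Commute f v := hm ▸ hc.pow_left m
    rcases hQ₀eq v ⟨hgQ, Subgroup.mem_centralizer_singleton_iff.2 hc'.eq.symm⟩ with e | e
    · exact hv1 e
    · exact hgz e
  have hbit : ∀ i j, chi (w i) (w j) = 0 ∨ chi (w i) (w j) = 1 := fun i j => by
    generalize chi (w i) (w j) = a; revert a; decide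
  have hcomm : ∀ {i j}, chi (w i) (w j) = 0 → w i * w j = w j * w i := fun h0 => (chi_eq_zero.1 h0).eq
  have hanti : ∀ {i j}, chi (w i) (w j) = 1 → w i * w j = w j * w i * z := fun {i j} h1 => by
    have h2 := mul_inv_eq_iff_eq_mul.1 (h.chi_one (hwQ i) (hwQ j) h1)
    rw [h2, mul_assoc, ← (h.es.comm _ (hwQ i)).eq, ← mul_assoc]
  have hzc : ∀ k, z * w k = w k * z := fun k => ((h.es.comm _ (hwQ k)).eq).symm
  have key : chi (w 0) (w 1) = 1 ∧ chi (w 0) (w 2) = 1 := by
    have s1 : ∀ k, chi (w k) (w (k + 1)) = chi (w 0) (w 1) := by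
      intro k; induction k with
      | zero => rfl
      | succ k ih => rw [hshift, ih]
    have s2 : ∀ k, chi (w k) (w (k + 2)) = chi (w 0) (w 2) := by
      intro k; induction k with
      | zero => rfl
      | succ k ih => rw [show k + 1 + 2 = k + 2 + 1 by omega, hshift, ih]
    have p01 := s1 0; have p12 := s1 1; have p23 := s1 2; have p34 := s1 3
    have p40 : chi (w 4) (w 0) = chi (w 0) (w 1) := (congrArg (chi (w 4)) (hw5 0)).symm.trans (s1 4)
    have p02 := s2 0; have p13 := s2 1; have p24 := s2 2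
    have p30 : chi (w 3) (w 0) = chi (w 0) (w 2) := (congrArg (chi (w 3)) (hw5 0)).symm.trans (s2 3)
    have p41 : chi (w 4) (w 1) = chi (w 0) (w 2) := (congrArg (chi (w 4)) (hw5 1)).symm.trans (s2 4)
    have hP2 : P * P = 1 := by rcases hPz with e | e <;> rw [e] <;> simp [h.es.sq]
    rcases hbit 0 1 with a1 | a1 <;> rcases hbit 0 2 with a2 | a2
    · -- all commute: `Q` would be abelian
      exfalso
      rw [a1] at p12 p23 p34 p40; rw [a2] at p13 p24 p30 p41
      let S := Subgroup.closure ({z, w 0, w 1, w 2, w 3, w 4} : Set G)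
      have hSQ : S ≤ Q := by
        rw [Subgroup.closure_le]
        rintro x (rfl | rfl | rfl | rfl | rfl | rfl)
        exacts [h.es.mem, hwQ 0, hwQ 1, hwQ 2, hwQ 3, hwQ 4]
      have hSab : ∀ x ∈ S, ∀ y ∈ S, Commute x y := by
        have hgen : ∀ x ∈ ({z, w 0, w 1, w 2, w 3, w 4} : Set G),
            ∀ y ∈ ({z, w 0, w 1, w 2, w 3, w 4} : Set G), Commute x y := by
          have c : ∀ {i j}, chi (w i) (w j) = 0 → Commute (w i) (w j) := fun h0 => chi_eq_zero.1 h0
          have zc : ∀ k, Commute z (w k) := fun k => hzc k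
          rintro x (rfl | rfl | rfl | rfl | rfl | rfl) y (rfl | rfl | rfl | rfl | rfl | rfl) <;>
            first
              | exact Commute.refl _
              | exact zc _
              | exact (zc _).symm
              | exact c (by assumption)
              | exact (c (by assumption)).symm
        intro x hx y hy
        exact Subgroup.closure_induction₂ (p := fun a b _ _ => Commute a b) (fun a b ha hb => hgen a ha b hb)
          (fun _ _ => Commute.one_left _) (fun _ _ => Commute.one_right _)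
          (fun _ _ _ _ _ _ h1 h2 => h1.mul_left h2) (fun _ _ _ _ _ _ h1 h2 => h1.mul_right h2)
          (fun _ _ _ _ h1 => h1.inv_left) (fun _ _ _ _ h1 => h1.inv_right) hx hy
      have hfS : ∀ x ∈ S, f * x * f⁻¹ ∈ S := by
        intro x hx
        induction hx using Subgroup.closure_induction with
        | mem y hy =>
          have e1 : ∀ k, f * w k * f⁻¹ = w (k + 1) := fun k => by
            show f * (f ^ k * v * (f ^ k)⁻¹) * f⁻¹ = f ^ (k + 1) * v * (f ^ (k + 1))⁻¹
            rw [pow_succ']; group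
          rcases hy with rfl | rfl | rfl | rfl | rfl | rfl
          · rw [mul_inv_eq_iff_eq_mul.2 hfz]; exact Subgroup.subset_closure (by simp)
          all_goals rw [e1]; exact Subgroup.subset_closure (by simp [hw5 0, show (4 + 1 : ℕ) = 0 + 5 from rfl])
        | one => simp
        | mul a b _ _ ha hb => rw [show f * (a * b) * f⁻¹ = (f * a * f⁻¹) * (f * b * f⁻¹) by group]; exact mul_mem ha hb
        | inv a _ ha => rw [show f * a⁻¹ * f⁻¹ = (f * a * f⁻¹)⁻¹ by group]; exact inv_mem ha
      -- so `v`, `w 1` commute with everything in the `f`-invariant subgroup `S = Q`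
      have hSne : v ∈ S := by
        have : w 0 = v := by simp [w]
        exact this ▸ Subgroup.subset_closure (by simp)
      have hScard : Nat.card S = 32 := by
        have hS0 : Q₀ ≤ S := fun x hx => by
          rcases hQ₀eq x hx with rfl | rfl
          · exact one_mem _
          · exact Subgroup.subset_closure (by simp)
        have hne : Nat.card S ≠ 2 := fun e => by
          have := Subgroup.eq_of_le_of_card_ge hS0 (by rw [hQ₀card, e])
          rcases hQ₀eq v (this.symm ▸ hSne) with e' | e'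
          · exact hv1 e'
          · exact hgz e'
        have hd : Nat.card S ∣ 32 := h.card ▸ Subgroup.card_dvd_of_le hSQ
        have h2 : 2 ∣ Nat.card S := hQ₀card ▸ Subgroup.card_dvd_of_le hS0
        -- orbits of `f` on `S ∖ Q₀` have length five
        have h5 : 5 ∣ Nat.card S - 2 := by
          let φ : S → S := fun q => ⟨f * q * f⁻¹, hfS q q.2⟩
          let σ : Equiv.Perm S := Equiv.ofBijective φ (Finite.injective_iff_bijective.1 fun a b hab =>
            Subtype.ext (mul_left_cancel (mul_right_cancel (congrArg Subtype.val hab))))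
          have hσ : ∀ (k : ℕ) (q : S), ((σ ^ k) q : G) = f ^ k * q * (f ^ k)⁻¹ := by
            intro k
            induction k with
            | zero => intro q; simp
            | succ k ih =>
              intro q
              rw [pow_succ', Equiv.Perm.mul_apply]
              show f * ((σ ^ k) q : G) * f⁻¹ = _
              rw [ih, pow_succ']; group
          have hσ5 : σ ^ 5 = 1 := Equiv.ext fun q => Subtype.ext (by
            rw [hσ, ← hf, pow_orderOf_eq_one]; simp)
          classical
          haveI : Fintype S := Fintype.ofFinite _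
          have hmod := Equiv.Perm.card_compl_support_modEq (p := 5) (n := 1) (σ := σ)
            (by rw [pow_one]; exact hσ5)
          have hfix : (σ.supportᶜ).card = Nat.card Q₀ := by
            rw [← Fintype.card_coe, ← Nat.card_eq_fintype_card]
            refine Nat.card_congr
              { toFun := fun q => ⟨q.1.1, hSQ q.1.2, Subgroup.mem_centralizer_singleton_iff.2 ?_⟩
                invFun := fun q => ⟨⟨q.1, hS0 q.2⟩, ?_⟩
                left_inv := fun q => rfl
                right_inv := fun q => rfl }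
            · have h1 := q.2
              rw [Finset.mem_compl, Equiv.Perm.notMem_support] at h1
              exact (mul_inv_eq_iff_eq_mul.1 (congrArg Subtype.val h1)).symm
            · rw [Finset.mem_compl, Equiv.Perm.notMem_support]
              exact Subtype.ext
                (mul_inv_eq_iff_eq_mul.2 (Subgroup.mem_centralizer_singleton_iff.1 q.2.2).symm)
          rw [hfix, ← Nat.card_eq_fintype_card, hQ₀card] at hmod
          exact (Nat.modEq_iff_dvd' (hQ₀card ▸ Subgroup.card_le_of_le hS0)).1 hmod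
        have hle32 := Nat.le_of_dvd (by norm_num) hd
        generalize Nat.card S = n at hne hd h2 h5 hle32 ⊢
        interval_cases n <;> omega
      have hSeq : S = Q := Subgroup.eq_of_le_of_card_ge hSQ (by rw [h.card, hScard])
      rcases h.es.center v hgQ (fun p hp => hSab p (hSeq.symm ▸ hp) v hSne) with e | e
      · exact hv1 e
      · exact hgz e
    · -- neighbours commute, the others do not
      exfalso
      rw [a1] at p12 p23 p34 p40; rw [a2] at p13 p24 p30 p41
      have c10 : w 1 * w 0 = w 0 * w 1 := (hcomm a1).symm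
      have hx : w 2 = w 1 * w 0 * P * w 4 * w 3 := by
        rw [hP]; simp only [mul_assoc]
        rw [← mul_assoc (w 4) (w 4), hwsq, one_mul, hwsq, mul_one, ← mul_assoc (w 0) (w 0), hwsq,
          one_mul, ← mul_assoc (w 1) (w 1), hwsq, one_mul]
      have hPc : ∀ k, P * w k = w k * P := fun k => by
        rcases hPz with e | e <;> rw [e]
        · simp
        · exact hzc k
      have hx2 : w 1 * w 0 * (w 4 * w 3) * (w 1 * w 0 * (w 4 * w 3)) = 1 := by
        have h2 := hwsq 2
        rw [hx] at h2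
        have : w 1 * w 0 * P * w 4 * w 3 * (w 1 * w 0 * P * w 4 * w 3) =
            w 1 * w 0 * (w 4 * w 3) * (w 1 * w 0 * (w 4 * w 3)) * (P * P) := by
          have hPx : Commute P (w 4 * w 3) := (Commute.mul_right (hPc 4) (hPc 3))
          have hPy : Commute P (w 1 * w 0 * (w 4 * w 3)) :=
            ((Commute.mul_right (hPc 1) (hPc 0))).mul_right hPx
          calc w 1 * w 0 * P * w 4 * w 3 * (w 1 * w 0 * P * w 4 * w 3)
              = w 1 * w 0 * (P * (w 4 * w 3)) * (w 1 * w 0 * (P * (w 4 * w 3))) := by group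
            _ = (w 1 * w 0 * (w 4 * w 3)) * (P * (w 1 * w 0 * (w 4 * w 3))) * P := by
                rw [hPx.eq]; group
            _ = _ := by rw [hPy.eq]; group
        rw [this, hP2, mul_one] at h2
        exact h2
      -- commute `w 4 * w 3` past `w 1 * w 0`: three anticommuting pairs
      have s41 := hanti (i := 4) (j := 1) p41
      have s31 : w 3 * w 1 = w 1 * w 3 * z := by
        refine hanti ?_
        rw [h.es.chi_comm]; exact p13
      have s30 := hanti (i := 3) (j := 0) p30
      have s40 := hcomm p40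
      have s43 : w 4 * w 3 = w 3 * w 4 := (hcomm p34).symm
      have hswap : w 4 * w 3 * (w 1 * w 0) = w 1 * w 0 * (w 4 * w 3) * z := by
        calc w 4 * w 3 * (w 1 * w 0) = w 4 * (w 3 * w 1) * w 0 := by group
          _ = w 4 * w 1 * w 3 * (z * w 0) := by rw [s31]; group
          _ = (w 4 * w 1) * (w 3 * w 0) * z := by rw [hzc]; group
          _ = (w 1 * w 4 * z) * (w 0 * w 3 * z) * z := by rw [s41, s30]
          _ = w 1 * w 4 * (z * w 0) * w 3 := by
              rw [show w 1 * w 4 * z * (w 0 * w 3 * z) * z = w 1 * w 4 * z * (w 0 * w 3) * z * z by group,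
                h.mul_z_mul_z]
              group
          _ = w 1 * (w 4 * w 0) * (z * w 3) := by rw [hzc]; group
          _ = w 1 * (w 0 * w 4) * (w 3 * z) := by rw [s40, hzc]
          _ = _ := by group
      rw [mul_assoc (w 1 * w 0), ← mul_assoc (w 4 * w 3), hswap] at hx2
      have e : w 1 * w 0 * (w 1 * w 0 * (w 4 * w 3) * z * (w 4 * w 3)) =
          (w 1 * w 0 * (w 1 * w 0)) * (w 4 * w 3 * (z * (w 4 * w 3))) := by group
      rw [e, show z * (w 4 * w 3) = w 4 * w 3 * z by rw [← mul_assoc, hzc, mul_assoc, hzc, ← mul_assoc],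
        show w 1 * w 0 * (w 1 * w 0) = 1 by
          nth_rewrite 2 [c10]; rw [show w 1 * w 0 * (w 0 * w 1) = w 1 * (w 0 * w 0) * w 1 by group, hwsq]; simp [hwsq],
        ← mul_assoc (w 4 * w 3), show w 4 * w 3 * (w 4 * w 3) = 1 by
          nth_rewrite 2 [s43]; rw [show w 4 * w 3 * (w 3 * w 4) = w 4 * (w 3 * w 3) * w 4 by group, hwsq]; simp [hwsq],
        one_mul, one_mul] at hx2
      exact h.es.ne hx2
    · -- the same after relabelling
      exfalso
      rw [a1] at p12 p23 p34 p40; rw [a2] at p13 p24 p30 p41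
      have c02 : w 2 * w 0 = w 0 * w 2 := (hcomm a2).symm
      have c41 : w 4 * w 1 = w 1 * w 4 := hcomm p41
      -- rewrite `P` in the order `w 0, w 2, w 4, w 1, w 3`
      have s12 := hanti (i := 1) (j := 2) p12
      have s34 := hanti (i := 3) (j := 4) p34
      have s14 : w 1 * w 4 = w 4 * w 1 := c41.symm
      have hPre : P = w 0 * w 2 * (w 4 * w 1) * w 3 := by
        calc P = w 0 * (w 1 * w 2) * (w 3 * w 4) := by rw [hP]; group
          _ = w 0 * w 2 * w 1 * (z * w 4) * w 3 * z := by rw [s12, s34]; group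
          _ = w 0 * w 2 * (w 1 * w 4) * (z * w 3) * z := by rw [hzc]; group
          _ = w 0 * w 2 * (w 1 * w 4) * w 3 * (z * z) := by rw [hzc]; group
          _ = _ := by rw [h.es.sq, mul_one, s14]
      have hx : w 3 = w 1 * w 4 * (w 2 * w 0) * P := by
        rw [hPre]; simp only [mul_assoc]
        rw [← mul_assoc (w 0) (w 0), hwsq, one_mul, ← mul_assoc (w 2) (w 2), hwsq, one_mul,
          ← mul_assoc (w 4) (w 4), hwsq, one_mul, ← mul_assoc (w 1) (w 1), hwsq, one_mul]
      have hPc : ∀ k, P * w k = w k * P := fun k => by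
        rcases hPz with e | e <;> rw [e]
        · simp
        · exact hzc k
      have hx2 : w 1 * w 4 * (w 2 * w 0) * (w 1 * w 4 * (w 2 * w 0)) = 1 := by
        have h2 := hwsq 3
        rw [hx] at h2
        have hPy : Commute P (w 1 * w 4 * (w 2 * w 0)) :=
          ((Commute.mul_right (hPc 1) (hPc 4))).mul_right (Commute.mul_right (hPc 2) (hPc 0))
        have e : w 1 * w 4 * (w 2 * w 0) * P * (w 1 * w 4 * (w 2 * w 0) * P) =
            w 1 * w 4 * (w 2 * w 0) * (P * (w 1 * w 4 * (w 2 * w 0))) * P := by group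
        rw [e, hPy.eq, show w 1 * w 4 * (w 2 * w 0) * (w 1 * w 4 * (w 2 * w 0) * P) * P =
          w 1 * w 4 * (w 2 * w 0) * (w 1 * w 4 * (w 2 * w 0)) * (P * P) by group, hP2, mul_one] at h2
        exact h2
      have s21 : w 2 * w 1 = w 1 * w 2 * z := hanti (by rw [h.es.chi_comm]; exact p12)
      have s01 := hanti (i := 0) (j := 1) a1
      have s04 : w 0 * w 4 = w 4 * w 0 * z := hanti (by rw [h.es.chi_comm]; exact p40)
      have s24 := hcomm p24
      have hswap : w 2 * w 0 * (w 1 * w 4) = w 1 * w 4 * (w 2 * w 0) * z := by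
        calc w 2 * w 0 * (w 1 * w 4) = w 2 * (w 0 * w 1) * w 4 := by group
          _ = w 2 * w 1 * w 0 * (z * w 4) := by rw [s01]; group
          _ = (w 2 * w 1) * (w 0 * w 4) * z := by rw [hzc]; group
          _ = (w 1 * w 2 * z) * (w 4 * w 0 * z) * z := by rw [s21, s04]
          _ = w 1 * w 2 * (z * w 4) * w 0 := by
              rw [show w 1 * w 2 * z * (w 4 * w 0 * z) * z = w 1 * w 2 * z * (w 4 * w 0) * z * z by group,
                h.mul_z_mul_z]
              group
          _ = w 1 * (w 2 * w 4) * (z * w 0) := by rw [hzc]; group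
          _ = w 1 * (w 4 * w 2) * (w 0 * z) := by rw [s24, hzc]
          _ = _ := by group
      rw [mul_assoc (w 1 * w 4), ← mul_assoc (w 2 * w 0), hswap] at hx2
      have e : w 1 * w 4 * (w 1 * w 4 * (w 2 * w 0) * z * (w 2 * w 0)) =
          (w 1 * w 4 * (w 1 * w 4)) * (w 2 * w 0 * (z * (w 2 * w 0))) := by group
      rw [e, show z * (w 2 * w 0) = w 2 * w 0 * z by rw [← mul_assoc, hzc, mul_assoc, hzc, ← mul_assoc],
        show w 1 * w 4 * (w 1 * w 4) = 1 by
          nth_rewrite 2 [s14]; rw [show w 1 * w 4 * (w 4 * w 1) = w 1 * (w 4 * w 4) * w 1 by group, hwsq]; simp [hwsq],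
        ← mul_assoc (w 2 * w 0), show w 2 * w 0 * (w 2 * w 0) = 1 by
          nth_rewrite 2 [c02]; rw [show w 2 * w 0 * (w 0 * w 2) = w 2 * (w 0 * w 0) * w 2 by group, hwsq]; simp [hwsq],
        one_mul, one_mul] at hx2
      exact h.es.ne hx2
    · exact ⟨a1, a2⟩
  refine ⟨fun i => w i,
    { toBase := h
      mem := fun i => hwQ i
      sq := fun i => hwsq i
      anti := fun i j hij => ?_
      isConj := fun i => ?_ }⟩
  · have hall : ∀ a d : ℕ, (d = 1 ∨ d = 2) → chi (w a) (w (a + d)) = 1 := by
      intro a d hd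
      induction a with
      | zero => rcases hd with rfl | rfl; exacts [key.1, key.2]
      | succ a ih => rw [show a + 1 + d = a + d + 1 by omega, hshift, ih]
    have hlt : ∀ a b : ℕ, a < b → b < 5 → chi (w a) (w b) = 1 := by
      intro a b hab hb
      by_cases h12 : b - a ≤ 2
      · have := hall a (b - a) (by omega)
        rwa [Nat.add_sub_cancel' hab.le] at this
      · rw [h.es.chi_comm, ← hw5 a]
        have := hall b (a + 5 - b) (by omega)
        rwa [Nat.add_sub_cancel' (by omega : b ≤ a + 5)] at this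
    rcases lt_or_gt_of_ne (Fin.val_ne_of_ne hij) with hl | hl
    · exact hlt i j hl j.2
    · rw [h.es.chi_comm]; exact hlt j i hl i.2
  · exact isConj_iff.2 ⟨f ^ (i : ℕ) * g, by show _ = f ^ (i : ℕ) * v * (f ^ (i : ℕ))⁻¹; rw [hv]; group⟩

end Base

end Cfsg.Agent.Lib.HallJanko
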