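import Mathlib
import Cfsg.Agent.Lib.HallJanko.Five

/-!
# Hall-Janko type: `Q / Z(Q)` as the even vectors, `C(z) / Q` as `A₅`

Owner: helper99.
-/

set_option autoImplicit false
set_option linter.style.haveILetI false

namespace Cfsg.Agent.Lib.HallJanko

open Cfsg.Agent.Lib.LargeExtraspecial.Basic Cfsg.Agent.Lib.HallJanko.Model

variable {G : Type*} [Group G] {z : G} {Q : Subgroup G} {u : Fin 5 → G}

/-- The commutation vector. -/
noncomputable def phi (u : Fin 5 → G) (q : G) : Vec := fun i => chi q (u i)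

namespace Five

theorem phi_mul (h : Five z Q u) {q r : G} (hq : q ∈ Q) (hr : r ∈ Q) :
    phi u (q * r) = phi u q + phi u r :=
  funext fun i => h.es.chi_mul_left hq hr (h.mem i)

theorem phi_one (_h : Five z Q u) : phi u (1 : G) = 0 :=
  funext fun i => chi_eq_zero.2 (Commute.one_left _)

theorem phi_z (h : Five z Q u) : phi u z = 0 :=
  funext fun i => chi_eq_zero.2 (h.es.comm _ (h.mem i)).symm

theorem allBut_ne_zero : ∀ j : Fin 5, allBut j ≠ 0 := by decide

theorem phi_u (h : Five z Q u) (j : Fin 5) : phi u (u j) = allBut j := by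
  funext i
  simp only [phi, allBut]
  split_ifs with hij
  · rw [hij]; exact chi_eq_zero.2 (Commute.refl _)
  · exact h.anti j i (Ne.symm hij)

/-- The commutation vector as a homomorphism. -/
noncomputable def phiHom (h : Five z Q u) : Q →* Multiplicative Vec where
  toFun q := Multiplicative.ofAdd (phi u q)
  map_one' := by rw [Subgroup.coe_one, h.phi_one]; rfl
  map_mul' q r := by rw [Subgroup.coe_mul, h.phi_mul q.2 r.2]; rfl

theorem range_card_and_ker [Finite G] (h : Five z Q u) :
    (∀ q ∈ Q, Even5 (phi u q)) ∧ (∀ v, Even5 v → ∃ q ∈ Q, phi u q = v) ∧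
      ∀ q ∈ Q, phi u q = 0 → q = 1 ∨ q = z := by
  classical
  set φ := h.phiHom with hφ
  have hgen : ∀ v, Even5 v → Multiplicative.ofAdd v ∈ φ.range := by
    intro v hv
    obtain ⟨a, b, c, d, habcd⟩ := span_four v hv
    have hmem : ∀ (e : ZMod 2) (j : Fin 5), ∃ q ∈ Q, phi u q = fun k => e * allBut j k := by
      intro e j
      rcases (show e = 0 ∨ e = 1 by revert e; decide) with rfl | rfl
      · exact ⟨1, one_mem _, by rw [h.phi_one]; funext k; simp⟩
      · exact ⟨u j, h.mem j, by rw [h.phi_u]; funext k; simp⟩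
    obtain ⟨qa, ha, ea⟩ := hmem a 0
    obtain ⟨qb, hb, eb⟩ := hmem b 1
    obtain ⟨qc, hc, ec⟩ := hmem c 2
    obtain ⟨qd, hd, ed⟩ := hmem d 3
    refine ⟨⟨qa * qb * qc * qd, mul_mem (mul_mem (mul_mem ha hb) hc) hd⟩, ?_⟩
    show Multiplicative.ofAdd (phi u (qa * qb * qc * qd)) = _
    rw [h.phi_mul (mul_mem (mul_mem ha hb) hc) hd, h.phi_mul (mul_mem ha hb) hc, h.phi_mul ha hb,
      ea, eb, ec, ed]
    exact congrArg Multiplicative.ofAdd (funext fun k => (habcd k).symm)
  have hge : 16 ≤ Nat.card φ.range := by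
    rw [← card_even, ← Nat.card_eq_fintype_card]
    refine Nat.card_le_card_of_injective (fun v => ⟨Multiplicative.ofAdd v.1, hgen v.1 v.2⟩) ?_
    intro v w hvw
    exact Subtype.ext (congrArg (fun x : φ.range => Multiplicative.toAdd x.1) hvw)
  have hzk : (⟨z, h.es.mem⟩ : Q) ∈ φ.ker := by
    show Multiplicative.ofAdd (phi u z) = 1
    rw [h.phi_z]; rfl
  have hkc : Nat.card φ.ker * Nat.card φ.range = 32 := by
    rw [← Subgroup.index_ker, Subgroup.card_mul_index, h.card]
  have hk2 : 2 ∣ Nat.card φ.ker := by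
    have := Subgroup.orderOf_dvd_natCard _ hzk
    rwa [← Subgroup.orderOf_coe, h.ord] at this
  have hk : Nat.card φ.ker = 2 := by
    obtain ⟨m, hm⟩ := hk2
    have h0 : 0 < Nat.card φ.ker := Nat.card_pos
    have h1 : Nat.card φ.ker * 16 ≤ 32 := hkc ▸ Nat.mul_le_mul_left _ hge
    omega
  have hr : Nat.card φ.range = 16 := by rw [hk] at hkc; omega
  refine ⟨fun q hq => ?_, fun v hv => ?_, fun q hq h0 => ?_⟩
  · let i : {v : Vec // Even5 v} → φ.range := fun v => ⟨Multiplicative.ofAdd v.1, hgen v.1 v.2⟩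
    have hb : Function.Bijective i := (Nat.bijective_iff_injective_and_card i).2
      ⟨fun v w hvw => Subtype.ext (congrArg (fun x : φ.range => Multiplicative.toAdd x.1) hvw),
        by rw [hr, Nat.card_eq_fintype_card, card_even]⟩
    obtain ⟨v, hv⟩ := hb.2 ⟨φ ⟨q, hq⟩, ⟨q, hq⟩, rfl⟩
    have : v.1 = phi u q := Multiplicative.ofAdd.injective (congrArg Subtype.val hv)
    exact this ▸ v.2
  · obtain ⟨q, hq⟩ := hgen v hv
    exact ⟨q, q.2, Multiplicative.ofAdd.injective hq⟩
  · have hmem : (⟨q, hq⟩ : Q) ∈ φ.ker := by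
      show Multiplicative.ofAdd (phi u q) = 1
      rw [h0]; rfl
    have hle : Subgroup.zpowers (⟨z, h.es.mem⟩ : Q) = φ.ker :=
      Subgroup.eq_of_le_of_card_ge (Subgroup.zpowers_le.2 hzk)
        (by rw [hk, Nat.card_zpowers, ← Subgroup.orderOf_coe, h.ord])
    rw [← hle] at hmem
    obtain ⟨n, hn⟩ := Subgroup.mem_zpowers_iff.1 hmem
    have hn' : z ^ n = q := by simpa using congrArg Subtype.val hn
    rcases Int.even_or_odd n with ⟨m, rfl⟩ | ⟨m, rfl⟩
    · left; rw [← hn', ← two_mul, zpow_mul, zpow_two, h.es.sq, one_zpow]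
    · right; rw [← hn', zpow_add, zpow_mul, zpow_two, h.es.sq, one_zpow, zpow_one, one_mul]

theorem phi_even [Finite G] (h : Five z Q u) {q : G} (hq : q ∈ Q) : Even5 (phi u q) :=
  h.range_card_and_ker.1 q hq

theorem phi_surj [Finite G] (h : Five z Q u) (v : Vec) (hv : Even5 v) : ∃ q ∈ Q, phi u q = v :=
  h.range_card_and_ker.2.1 v hv

theorem phi_inv (h : Five z Q u) {q : G} (hq : q ∈ Q) : phi u q⁻¹ = phi u q := by
  have h1 := h.phi_mul (inv_mem hq) hq
  rw [inv_mul_cancel, h.phi_one] at h1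
  exact eq_of_sub_eq_zero (by
    funext i
    have : ∀ a b : ZMod 2, 0 = a + b → a - b = 0 := by decide
    exact this _ _ (congrFun h1 i))

theorem phi_eq_iff [Finite G] (h : Five z Q u) {q r : G} (hq : q ∈ Q) (hr : r ∈ Q) :
    phi u q = phi u r ↔ r = q ∨ r = q * z := by
  constructor
  · intro he
    have h0 : phi u (q⁻¹ * r) = 0 := by
      rw [h.phi_mul (inv_mem hq) hr, h.phi_inv hq, he]
      funext i
      exact CharTwo.add_self_eq_zero _
    rcases h.range_card_and_ker.2.2 _ (mul_mem (inv_mem hq) hr) h0 with e | e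
    · exact Or.inl (inv_mul_eq_one.1 e).symm
    · exact Or.inr (inv_mul_eq_iff_eq_mul.1 e)
  · rintro (rfl | rfl)
    · rfl
    · rw [h.phi_mul hq h.es.mem, h.phi_z, add_zero]

theorem anti_mul (h : Five z Q u) {i j : Fin 5} (hij : i ≠ j) : u i * u j = u j * u i * z := by
  have h2 := mul_inv_eq_iff_eq_mul.1 (h.toBase.chi_one (h.mem i) (h.mem j) (h.anti i j hij))
  rw [h2, mul_assoc, ← (h.es.comm _ (h.mem i)).eq, ← mul_assoc]

theorem sq_mul (h : Five z Q u) {i j : Fin 5} (hij : i ≠ j) : u i * u j * (u i * u j) = z := by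
  conv_lhs => rw [h.anti_mul hij]
  calc u j * u i * z * (u j * u i * z) = u j * u i * (z * (u j * u i)) * z := by group
    _ = u j * u i * (u j * u i * z) * z := by
        rw [((h.es.comm _ (mul_mem (h.mem j) (h.mem i))).eq).symm]
    _ = u j * u i * (u j * u i) * z * z := by group
    _ = u j * u i * (u i * u j * z) := by
        rw [mul_assoc (u j * u i * (u j * u i)) z z, h.es.sq, mul_one, h.anti_mul hij,
          h.toBase.mul_z_mul_z]
    _ = u j * (u i * u i) * u j * z := by group
    _ = z := by rw [h.sq, mul_one, h.sq, one_mul]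

/-- The non-central involutions of `Q`. -/
theorem singular [Finite G] (h : Five z Q u) {q : G} (hq : q ∈ Q) (h2 : q * q = 1) :
    q = 1 ∨ q = z ∨ ∃ i, q = u i ∨ q = u i * z := by
  rcases vec_cases _ (h.phi_even hq) with h0 | ⟨i, hi⟩ | ⟨i, j, hij, hv⟩
  · rcases h.range_card_and_ker.2.2 q hq h0 with e | e
    · exact Or.inl e
    · exact Or.inr (Or.inl e)
  · exact Or.inr (Or.inr ⟨i, (h.phi_eq_iff (h.mem i) hq).1 (by rw [h.phi_u, hi])⟩)
  · exfalso
    have hm := mul_mem (h.mem i) (h.mem j)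
    rcases (h.phi_eq_iff hm hq).1 (by rw [h.phi_mul (h.mem i) (h.mem j), h.phi_u, h.phi_u, hv]) with e | e
    · rw [e, h.sq_mul hij] at h2; exact h.es.ne h2
    · rw [e, show u i * u j * z * (u i * u j * z) = u i * u j * (z * (u i * u j)) * z by group,
        ← (h.es.comm _ hm).eq, show u i * u j * (u i * u j * z) * z = u i * u j * (u i * u j) * (z * z) by group,
        h.es.sq, mul_one, h.sq_mul hij] at h2
      exact h.es.ne h2

theorem closure_eq [Finite G] (h : Five z Q u) : Q ≤ Subgroup.closure (insert z (Set.range u)) := by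
  intro q hq
  set S := Subgroup.closure (insert z (Set.range u))
  obtain ⟨a, b, c, d, habcd⟩ := span_four _ (h.phi_even hq)
  have hu : ∀ i, u i ∈ S := fun i => Subgroup.subset_closure (Set.mem_insert_of_mem _ ⟨i, rfl⟩)
  have hz : z ∈ S := Subgroup.subset_closure (Set.mem_insert _ _)
  have hmem : ∀ (e : ZMod 2) (j : Fin 5), ∃ r ∈ Q, r ∈ S ∧ phi u r = fun k => e * allBut j k := by
    intro e j
    rcases (show e = 0 ∨ e = 1 by revert e; decide) with rfl | rfl
    · exact ⟨1, one_mem _, one_mem _, by rw [h.phi_one]; funext k; simp⟩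
    · exact ⟨u j, h.mem j, hu j, by rw [h.phi_u]; funext k; simp⟩
  obtain ⟨qa, ha, sa, ea⟩ := hmem a 0
  obtain ⟨qb, hb, sb, eb⟩ := hmem b 1
  obtain ⟨qc, hc, sc, ec⟩ := hmem c 2
  obtain ⟨qd, hd, sd, ed⟩ := hmem d 3
  have hs : qa * qb * qc * qd ∈ S := mul_mem (mul_mem (mul_mem sa sb) sc) sd
  rcases (h.phi_eq_iff (mul_mem (mul_mem (mul_mem ha hb) hc) hd) hq).1 (by
    rw [h.phi_mul (mul_mem (mul_mem ha hb) hc) hd, h.phi_mul (mul_mem ha hb) hc, h.phi_mul ha hb,
      ea, eb, ec, ed]
    exact funext fun k => (habcd k).symm) with e | e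
  · exact e ▸ hs
  · exact e ▸ mul_mem hs hz

theorem exists_target [Finite G] (h : Five z Q u) (c : Subgroup.centralizer ({z} : Set G)) (i : Fin 5) :
    ∃ j, (c : G) * u i * (c : G)⁻¹ = u j ∨ (c : G) * u i * (c : G)⁻¹ = u j * z := by
  have hcz := h.toBase.commute_of_mem_centralizer c.2
  have hm := h.norm _ hcz _ (h.mem i)
  rcases h.singular hm (by
    rw [show (c : G) * u i * (c : G)⁻¹ * ((c : G) * u i * (c : G)⁻¹) = (c : G) * (u i * u i) * (c : G)⁻¹ by group,
      h.sq]; group) with e | e | e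
  · exfalso
    have : u i = 1 := conj_eq_one_iff.1 e
    have h1 := h.phi_u i
    rw [this, h.phi_one] at h1
    exact allBut_ne_zero i h1.symm
  · exfalso
    have h0 : u i = z := mul_left_cancel (mul_right_cancel (e.trans (mul_inv_eq_iff_eq_mul.2 hcz).symm))
    have h1 := h.phi_u i
    rw [h0, h.phi_z] at h1
    exact allBut_ne_zero i h1.symm
  · exact e

/-- The point to which `c` moves the `i`-th class. -/
noncomputable def target [Finite G] (h : Five z Q u) (c : Subgroup.centralizer ({z} : Set G)) (i : Fin 5) :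
    Fin 5 := (h.exists_target c i).choose

theorem target_spec [Finite G] (h : Five z Q u) (c : Subgroup.centralizer ({z} : Set G)) (i : Fin 5) :
    (c : G) * u i * (c : G)⁻¹ = u (h.target c i) ∨ (c : G) * u i * (c : G)⁻¹ = u (h.target c i) * z :=
  (h.exists_target c i).choose_spec

theorem phi_conj_u [Finite G] (h : Five z Q u) (c : Subgroup.centralizer ({z} : Set G)) (i : Fin 5) :
    phi u ((c : G) * u i * (c : G)⁻¹) = allBut (h.target c i) := by
  rcases h.target_spec c i with e | e <;> rw [e]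
  · exact h.phi_u _
  · rw [h.phi_mul (h.mem _) h.es.mem, h.phi_u, h.phi_z, add_zero]

theorem target_mul [Finite G] (h : Five z Q u) (c d : Subgroup.centralizer ({z} : Set G)) (i : Fin 5) :
    h.target (c * d) i = h.target c (h.target d i) := by
  apply allBut_injective
  rw [← h.phi_conj_u, ← h.phi_conj_u, Subgroup.coe_mul,
    show (c : G) * (d : G) * u i * ((c : G) * (d : G))⁻¹ = (c : G) * ((d : G) * u i * (d : G)⁻¹) * (c : G)⁻¹ by group]
  have hcz := h.toBase.commute_of_mem_centralizer c.2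
  rcases h.target_spec d i with e | e <;> rw [e]
  rw [show (c : G) * (u (h.target d i) * z) * (c : G)⁻¹ =
    ((c : G) * u (h.target d i) * (c : G)⁻¹) * ((c : G) * z * (c : G)⁻¹) by group,
    mul_inv_eq_iff_eq_mul.2 hcz, h.phi_mul (h.norm _ hcz _ (h.mem _)) h.es.mem, h.phi_z, add_zero]

theorem target_one [Finite G] (h : Five z Q u) (i : Fin 5) : h.target 1 i = i := by
  apply allBut_injective
  rw [← h.phi_conj_u, Subgroup.coe_one, one_mul, inv_one, mul_one, h.phi_u]

/-- The action of `C(z)` on the five classes. -/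
noncomputable def perm [Finite G] (h : Five z Q u) :
    Subgroup.centralizer ({z} : Set G) →* Equiv.Perm (Fin 5) where
  toFun c :=
    { toFun := h.target c
      invFun := h.target c⁻¹
      left_inv := fun i => by rw [← h.target_mul, inv_mul_cancel, h.target_one]
      right_inv := fun i => by rw [← h.target_mul, mul_inv_cancel, h.target_one] }
  map_one' := Equiv.ext fun i => h.target_one i
  map_mul' c d := Equiv.ext fun i => h.target_mul c d i

theorem phi_conj [Finite G] (h : Five z Q u) (c : Subgroup.centralizer ({z} : Set G)) {q : G} (hq : q ∈ Q)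
    (i : Fin 5) : phi u ((c : G) * q * (c : G)⁻¹) (h.perm c i) = phi u q i := by
  have hcz := h.toBase.commute_of_mem_centralizer c.2
  have hm := h.norm _ hcz _ hq
  show chi ((c : G) * q * (c : G)⁻¹) (u (h.target c i)) = chi q (u i)
  rcases h.target_spec c i with e | e
  · rw [← e, chi_conj]
  · rw [← chi_conj (c : G) q (u i), e, h.es.chi_mul_right hm (h.mem _) h.es.mem,
      h.es.chi_center_right hm, add_zero]

theorem perm_of_mem [Finite G] (h : Five z Q u) (c : Subgroup.centralizer ({z} : Set G))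
    (hc : (c : G) ∈ Q) : h.perm c = 1 := by
  refine Equiv.ext fun i => allBut_injective _ _ ?_
  show allBut (h.target c i) = allBut i
  rw [← h.phi_conj_u, h.phi_mul (mul_mem hc (h.mem i)) (inv_mem hc), h.phi_mul hc (h.mem i),
    h.phi_inv hc, h.phi_u]
  funext k
  have : ∀ a b : ZMod 2, a + b + a = b := by decide
  exact this _ _

theorem mem_of_perm_eq_one [Finite G] (h : Five z Q u) (c : Subgroup.centralizer ({z} : Set G))
    (hc : h.perm c = 1) : (c : G) ∈ Q := by
  have hcz := h.toBase.commute_of_mem_centralizer c.2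
  have hfix : ∀ q ∈ Q, phi u ((c : G) * q * (c : G)⁻¹) = phi u q := fun q hq => funext fun i => by
    have := h.phi_conj c hq i
    rwa [hc, Equiv.Perm.one_apply] at this
  let η : G → ZMod 2 := fun q => chi (c : G) q
  have hzne : ∀ a : G, a * z ≠ a := fun a => by simpa using h.es.ne
  have hcases : ∀ q ∈ Q, (c : G) * q * (c : G)⁻¹ = q ∨ (c : G) * q * (c : G)⁻¹ = q * z := fun q hq =>
    (h.phi_eq_iff hq (h.norm _ hcz _ hq)).1 (hfix q hq).symm
  have hη : ∀ q ∈ Q, ∀ r ∈ Q, η (q * r) = η q + η r := by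
    intro q hq r hr
    have e : (c : G) * (q * r) * (c : G)⁻¹ = ((c : G) * q * (c : G)⁻¹) * ((c : G) * r * (c : G)⁻¹) := by group
    have e2 : q * z * r = q * r * z := by rw [mul_assoc, ← (h.es.comm _ hr).eq, mul_assoc]
    have e3 : q * (r * z) = q * r * z := (mul_assoc _ _ _).symm
    have e4 : q * z * (r * z) = q * r := by rw [← mul_assoc, e2, h.toBase.mul_z_mul_z]
    have v0 : ∀ x, (c : G) * x * (c : G)⁻¹ = x → η x = 0 := fun x hx => if_pos hx
    have v1 : ∀ x, (c : G) * x * (c : G)⁻¹ = x * z → η x = 1 := fun x hx =>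
      if_neg (by rw [hx]; exact hzne x)
    rcases hcases q hq with h1 | h1 <;> rcases hcases r hr with h2 | h2
    · rw [v0 q h1, v0 r h2, v0 _ (by rw [e, h1, h2]), add_zero]
    · rw [v0 q h1, v1 r h2, v1 _ (by rw [e, h1, h2, e3]), zero_add]
    · rw [v1 q h1, v0 r h2, v1 _ (by rw [e, h1, h2, e2]), add_zero]
    · rw [v1 q h1, v1 r h2, v0 _ (by rw [e, h1, h2, e4])]
      exact (CharTwo.add_self_eq_zero _).symm
  have hη0 : ∀ q, (q = 1 ∨ q = z) → η q = 0 := fun q hq =>
    chi_eq_zero.2 (mul_inv_eq_iff_eq_mul.1 (h.toBase.conj_cases hcz hq))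
  set e : Vec := fun i => η (u i) with he
  have he5 : Even5 e := by
    have hr : phi u (u 0 * u 1 * u 2 * u 3) = phi u (u 4) := by
      rw [h.phi_mul (mul_mem (mul_mem (h.mem 0) (h.mem 1)) (h.mem 2)) (h.mem 3),
        h.phi_mul (mul_mem (h.mem 0) (h.mem 1)) (h.mem 2), h.phi_mul (h.mem 0) (h.mem 1),
        h.phi_u, h.phi_u, h.phi_u, h.phi_u, h.phi_u, allBut_sum]
    have h4 : η (u 0 * u 1 * u 2 * u 3) = η (u 4) := by
      have hm := mul_mem (mul_mem (mul_mem (h.mem 0) (h.mem 1)) (h.mem 2)) (h.mem 3)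
      rcases (h.phi_eq_iff hm (h.mem 4)).1 hr with e' | e'
      · rw [← e']
      · rw [e', hη _ hm _ h.es.mem, hη0 z (Or.inr rfl), add_zero]
    rw [hη _ (mul_mem (mul_mem (h.mem 0) (h.mem 1)) (h.mem 2)) _ (h.mem 3),
      hη _ (mul_mem (h.mem 0) (h.mem 1)) _ (h.mem 2), hη _ (h.mem 0) _ (h.mem 1)] at h4
    show e 0 + e 1 + e 2 + e 3 + e 4 = 0
    simp only [he]
    rw [h4]
    exact CharTwo.add_self_eq_zero _
  obtain ⟨q₀, hq₀, hq₀e⟩ := h.phi_surj e he5
  have hall : ∀ x ∈ Subgroup.closure (insert z (Set.range u)), Commute (q₀⁻¹ * (c : G)) x := by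
    intro x hx
    induction hx using Subgroup.closure_induction with
    | mem y hy =>
      rcases hy with rfl | ⟨i, rfl⟩
      · exact Commute.mul_left (h.es.comm _ (inv_mem hq₀)) hcz
      · have hb : chi q₀ (u i) = η (u i) := congrFun hq₀e i
        have hqc : q₀ * u i * q₀⁻¹ = (c : G) * u i * (c : G)⁻¹ := by
          rcases h.es.conj q₀ hq₀ (u i) (h.mem i) with a | a <;>
            rcases hcases (u i) (h.mem i) with b | b <;> rw [a, b] <;>
            simp only [η, chi, a, b, hzne, if_true, if_false] at hb <;>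
            first | rfl | exact absurd hb (by decide)
        refine mul_inv_eq_iff_eq_mul.1 ?_
        rw [show q₀⁻¹ * (c : G) * u i * (q₀⁻¹ * (c : G))⁻¹ = q₀⁻¹ * ((c : G) * u i * (c : G)⁻¹) * q₀ by group,
          ← hqc]
        group
    | one => exact Commute.one_right _
    | mul a b _ _ ha hb => exact ha.mul_right hb
    | inv a _ ha => exact ha.inv_right
  have hQc : q₀⁻¹ * (c : G) ∈ Q := by
    rcases h.self _ (fun q hq => hall q (h.closure_eq hq)) with e' | e' <;> rw [e']
    · exact one_mem _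
    · exact h.es.mem
  simpa using mul_mem hq₀ hQc

theorem perm_range [Finite G] (h : Five z Q u) : h.perm.range = alternatingGroup (Fin 5) := by
  have hker : h.perm.ker = Q.subgroupOf (Subgroup.centralizer ({z} : Set G)) :=
    SetLike.ext fun c => ⟨fun hc => h.mem_of_perm_eq_one c hc, fun hc => h.perm_of_mem c hc⟩
  have hidx : h.perm.ker.index = 60 := by
    have h1 := Subgroup.card_mul_index h.perm.ker
    have h2 : Nat.card h.perm.ker = 32 := by
      rw [hker, Nat.card_congr (Subgroup.subgroupOfEquivOfLe h.toBase.z_mem_centralizer).toEquiv, h.card]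
    rw [h2, h.cent] at h1
    omega
  refine Equiv.Perm.eq_alternatingGroup_of_index_eq_two ?_
  have h1 := Subgroup.card_mul_index h.perm.range
  rw [← Subgroup.index_ker, hidx, Nat.card_perm, Nat.card_fin] at h1
  have : (5).factorial = 120 := rfl
  omega

end Five

end Cfsg.Agent.Lib.HallJanko
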