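import Mathlib
import Cfsg.Agent.Lib.HallJanko.Action

/-!
# Hall-Janko type: involutions and centralisers inside `C(z)`

Owner: helper99.
-/

set_option autoImplicit false
set_option linter.style.haveILetI false

namespace Cfsg.Agent.Lib.HallJanko

open Cfsg.Agent.Lib.LargeExtraspecial.Basic Cfsg.Agent.Lib.HallJanko.Model

variable {G : Type*} [Group G] [Finite G] {z : G} {Q : Subgroup G} {u : Fin 5 → G}

namespace Five

/-- The permutation of an element of `C(z)` (identity outside). -/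
noncomputable def pr (h : Five z Q u) (c : G) : Equiv.Perm (Fin 5) :=
  letI := Classical.propDecidable (c ∈ Subgroup.centralizer ({z} : Set G))
  if hc : c ∈ Subgroup.centralizer ({z} : Set G) then h.perm ⟨c, hc⟩ else 1

theorem pr_eq (h : Five z Q u) {c : G} (hc : c ∈ Subgroup.centralizer ({z} : Set G)) :
    h.pr c = h.perm ⟨c, hc⟩ := dif_pos hc

theorem pr_mul (h : Five z Q u) {c d : G} (hc : c ∈ Subgroup.centralizer ({z} : Set G))
    (hd : d ∈ Subgroup.centralizer ({z} : Set G)) : h.pr (c * d) = h.pr c * h.pr d := by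
  rw [h.pr_eq hc, h.pr_eq hd, h.pr_eq (mul_mem hc hd), ← map_mul]; rfl

theorem pr_inv (h : Five z Q u) {c : G} (hc : c ∈ Subgroup.centralizer ({z} : Set G)) :
    h.pr c⁻¹ = (h.pr c)⁻¹ := by
  rw [h.pr_eq hc, h.pr_eq (inv_mem hc), ← map_inv]; rfl

theorem pr_of_mem (h : Five z Q u) {c : G} (hc : c ∈ Q) : h.pr c = 1 := by
  rw [h.pr_eq (h.toBase.z_mem_centralizer hc)]; exact h.perm_of_mem _ hc

theorem mem_of_pr (h : Five z Q u) {c : G} (hc : c ∈ Subgroup.centralizer ({z} : Set G))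
    (h1 : h.pr c = 1) : c ∈ Q :=
  h.mem_of_perm_eq_one ⟨c, hc⟩ (by rw [← h.pr_eq hc]; exact h1)

theorem pr_sign (h : Five z Q u) {c : G} (hc : c ∈ Subgroup.centralizer ({z} : Set G)) :
    Equiv.Perm.sign (h.pr c) = 1 := by
  rw [← Equiv.Perm.mem_alternatingGroup, ← h.perm_range, h.pr_eq hc]
  exact ⟨_, rfl⟩

theorem exists_lift (h : Five z Q u) (σ : Equiv.Perm (Fin 5)) (hσ : Equiv.Perm.sign σ = 1) :
    ∃ c ∈ Subgroup.centralizer ({z} : Set G), h.pr c = σ := by
  rw [← Equiv.Perm.mem_alternatingGroup, ← h.perm_range] at hσ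
  obtain ⟨⟨c, hc⟩, rfl⟩ := hσ
  exact ⟨c, hc, h.pr_eq hc⟩

theorem phi_pr (h : Five z Q u) {c q : G} (hc : c ∈ Subgroup.centralizer ({z} : Set G)) (hq : q ∈ Q)
    (i : Fin 5) : phi u (c * q * c⁻¹) (h.pr c i) = phi u q i := by
  rw [h.pr_eq hc]; exact h.phi_conj ⟨c, hc⟩ hq i

theorem conj_u (h : Five z Q u) {c : G} (hc : c ∈ Subgroup.centralizer ({z} : Set G)) (i : Fin 5) :
    c * u i * c⁻¹ = u (h.pr c i) ∨ c * u i * c⁻¹ = u (h.pr c i) * z := by
  rw [h.pr_eq hc]; exact h.target_spec ⟨c, hc⟩ i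

theorem conj_mem (h : Five z Q u) {c q : G} (hc : c ∈ Subgroup.centralizer ({z} : Set G)) (hq : q ∈ Q) :
    c * q * c⁻¹ ∈ Q := h.norm c (h.toBase.commute_of_mem_centralizer hc) q hq

/-- The elements of `Q` whose class modulo the centre is fixed by `σ`. -/
def fixSub (h : Five z Q u) (σ : Equiv.Perm (Fin 5)) : Subgroup G where
  carrier := {q | q ∈ Q ∧ IsFix σ (phi u q)}
  one_mem' := ⟨one_mem _, fun i => by rw [h.phi_one]; rfl⟩
  mul_mem' := fun {a b} ha hb => ⟨mul_mem ha.1 hb.1, fun i => by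
    rw [h.phi_mul ha.1 hb.1, Pi.add_apply, Pi.add_apply, ha.2 i, hb.2 i]⟩
  inv_mem' := fun {a} ha => ⟨inv_mem ha.1, fun i => by rw [h.phi_inv ha.1]; exact ha.2 i⟩

theorem card_fixSub (h : Five z Q u) (σ : Equiv.Perm (Fin 5)) :
    Nat.card (h.fixSub σ) = 2 * Fintype.card {v : Vec // Even5 v ∧ IsFix σ v} := by
  classical
  let φ : h.fixSub σ →* Multiplicative Vec :=
    h.phiHom.comp (Subgroup.inclusion (fun q hq => hq.1))
  have hr : Nat.card φ.range = Fintype.card {v : Vec // Even5 v ∧ IsFix σ v} := by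
    rw [← Nat.card_eq_fintype_card]
    refine Nat.card_congr
      { toFun := fun x => ⟨Multiplicative.toAdd x.1, ?_⟩
        invFun := fun v => ⟨Multiplicative.ofAdd v.1, ?_⟩
        left_inv := fun x => rfl
        right_inv := fun v => rfl }
    · obtain ⟨q, hq⟩ := x.2
      rw [← hq]
      exact ⟨h.phi_even q.2.1, q.2.2⟩
    · obtain ⟨q, hq, hqv⟩ := h.phi_surj v.1 v.2.1
      exact ⟨⟨q, hq, hqv ▸ v.2.2⟩, congrArg Multiplicative.ofAdd hqv⟩
  have hzm : z ∈ h.fixSub σ := ⟨h.es.mem, fun i => by rw [h.phi_z]; rfl⟩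
  have hzk : φ.ker = Subgroup.zpowers (⟨z, hzm⟩ : h.fixSub σ) := by
    refine le_antisymm (fun q hq => ?_) (Subgroup.zpowers_le.2 ?_)
    · rcases h.range_card_and_ker.2.2 q q.2.1 (Multiplicative.ofAdd.injective hq) with e | e
      · rw [show q = 1 from Subtype.ext e]; exact one_mem _
      · rw [show q = ⟨z, hzm⟩ from Subtype.ext e]; exact Subgroup.mem_zpowers _
    · show Multiplicative.ofAdd (phi u z) = 1
      rw [h.phi_z]; rfl
  rw [← Subgroup.card_mul_index φ.ker, Subgroup.index_ker, hr, hzk, Nat.card_zpowers,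
    ← Subgroup.orderOf_coe, h.ord]

/-- An involution of `C(z) ∖ Q` has all of `t (fixSub)` as its `Q`-orbit, and its centraliser in `Q`
has order four and contains the fixed point. -/
theorem orbit (h : Five z Q u) {t : G} (ht : t ∈ Subgroup.centralizer ({z} : Set G)) (ht2 : t * t = 1)
    (htQ : t ∉ Q) :
    (∀ q ∈ h.fixSub (h.pr t), ∃ r ∈ Q, r * t * r⁻¹ = t * q) ∧
      Nat.card (Q ⊓ Subgroup.centralizer ({t} : Set G) : Subgroup G) = 4 ∧
      ∀ i, h.pr t i = i → Commute (u i) t := by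
  classical
  set σ := h.pr t with hσ
  have hσ1 : σ ≠ 1 := fun e => htQ (h.mem_of_pr ht e)
  have hσ2 : σ * σ = 1 := by rw [hσ, ← h.pr_mul ht ht, ht2, h.pr_of_mem (one_mem Q)]
  obtain ⟨hfour, i₀, a, b, hi₀, huniq, ha, hb, hba, hbσ, hsum⟩ := invol_facts σ (h.pr_sign ht) hσ2 hσ1
  have hti : t⁻¹ = t := inv_eq_of_mul_eq_one_right ht2
  set F := h.fixSub σ with hF
  have hFcard : Nat.card F = 8 := by rw [hF, h.card_fixSub, hfour]
  -- `r ↦ t r t r⁻¹`
  have hmem : ∀ r ∈ Q, t * r * t * r⁻¹ ∈ F := by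
    intro r hr
    have hc : t * r * t⁻¹ ∈ Q := h.conj_mem ht hr
    rw [hti] at hc
    refine ⟨mul_mem hc (inv_mem hr), fun i => ?_⟩
    have h1 : ∀ j, phi u (t * r * t) (σ j) = phi u r j := fun j => by
      have := h.phi_pr ht hr j
      rwa [hti] at this
    have h2 : σ (σ i) = i := by rw [← Equiv.Perm.mul_apply, hσ2]; rfl
    have h3 : phi u (t * r * t) i = phi u r (σ i) := by
      have := h1 (σ i); rwa [h2] at this
    rw [h.phi_mul hc (inv_mem hr), h.phi_inv hr, Pi.add_apply, Pi.add_apply, h1, h3, add_comm]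
  set K := Q ⊓ Subgroup.centralizer ({t} : Set G) with hK
  have hKF : K ≤ F := by
    rintro q ⟨hq, hqt⟩
    refine ⟨hq, fun i => ?_⟩
    have := h.phi_pr ht hq i
    rwa [mul_inv_eq_iff_eq_mul.2 (Subgroup.mem_centralizer_singleton_iff.1 hqt).symm] at this
  have hmv : ∀ a, σ a ≠ a → ∃ q ∈ F, q ∉ K ∧ phi u q = allBut a + allBut (σ a) := by
    intro a ha
    set q := u a * (t * u a * t) with hq
    have hc : t * u a * t ∈ Q := by have := h.conj_mem ht (h.mem a); rwa [hti] at this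
    have hphi : phi u q = allBut a + allBut (σ a) := by
      rw [hq, h.phi_mul (h.mem a) hc, h.phi_u]
      congr 1
      have := h.phi_conj_u ⟨t, ht⟩ a
      rw [hσ, h.pr_eq ht]
      simp only [hti] at this
      exact this
    have hqQ : q ∈ Q := mul_mem (h.mem a) hc
    refine ⟨q, ⟨hqQ, ?_⟩, fun hqK => ?_, hphi⟩
    · rw [hphi]; intro i
      have h2 : σ (σ a) = a := by rw [← Equiv.Perm.mul_apply, hσ2]; rfl
      simp only [Pi.add_apply, allBut]
      by_cases h1 : i = a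
      · subst h1; simp [h2, ha, Ne.symm ha]
      by_cases h3 : i = σ a
      · subst h3; simp [h2, ha, Ne.symm ha]
      · have e1 : σ i ≠ a := fun e => h3 (by rw [← e, ← Equiv.Perm.mul_apply, hσ2]; rfl)
        have e2 : σ i ≠ σ a := fun e => h1 (σ.injective e)
        simp [h1, h3, e1, e2]
    · -- `t` inverts `q` and `q ^ 2 = z`
      have hct := Subgroup.mem_centralizer_singleton_iff.1 hqK.2
      have hcf : t * q * t = q := by rw [← hct, mul_assoc, ht2, mul_one]
      have hinv : t * q * t = t * u a * t * u a := by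
        rw [hq, show t * (u a * (t * u a * t)) * t = t * u a * t * u a * (t * t) by group, ht2, mul_one]
      have hne : a ≠ σ a := Ne.symm ha
      have hcomm : t * u a * t * u a = u a * (t * u a * t) * z := by
        rcases h.conj_u ht a with e | e
        · rw [hti] at e; rw [e]
          exact h.anti_mul ha
        · rw [hti] at e; rw [e, show u (h.pr t a) * z * u a = u (h.pr t a) * (z * u a) by group,
            ← (h.es.comm _ (h.mem a)).eq, ← mul_assoc, h.anti_mul ha]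
          simp only [hσ, mul_assoc]
      rw [hinv, hcomm, ← hq] at hcf
      exact h.es.ne (mul_eq_left.1 hcf)
  obtain ⟨qa, hqaF, hqaK, hqa⟩ := hmv a ha
  obtain ⟨qb, hqbF, hqbK, hqb⟩ := hmv b hb
  have hK8 : Nat.card K ≤ 4 := by
    have hd : Nat.card K ∣ 8 := hFcard ▸ Subgroup.card_dvd_of_le hKF
    have hne : Nat.card K ≠ 8 := fun e => hqaK
      ((Subgroup.eq_of_le_of_card_ge hKF (by rw [hFcard, e])).symm ▸ hqaF)
    have := Nat.le_of_dvd (by norm_num) hd
    generalize Nat.card K = n at hd hne this ⊢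
    interval_cases n <;> omega
  -- the induced injection `Q / K → F`
  let f : Q ⧸ K.subgroupOf Q → F := fun x => Quotient.liftOn' x
    (fun r : Q => (⟨t * r * t * (r : G)⁻¹, hmem r r.2⟩ : F)) (fun r s hrs => by
      rw [QuotientGroup.leftRel_apply] at hrs
      have hc : (r : G)⁻¹ * s * t = t * ((r : G)⁻¹ * s) := Subgroup.mem_centralizer_singleton_iff.1 hrs.2
      refine Subtype.ext ?_
      show t * r * t * (r : G)⁻¹ = t * s * t * (s : G)⁻¹
      calc t * r * t * (r : G)⁻¹ = t * r * (t * ((r : G)⁻¹ * s)) * (s : G)⁻¹ := by group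
        _ = t * r * ((r : G)⁻¹ * s * t) * (s : G)⁻¹ := by rw [← hc]
        _ = t * s * t * (s : G)⁻¹ := by group)
  have finj : Function.Injective f := by
    intro x y hxy
    induction x using QuotientGroup.induction_on with
    | _ r =>
    induction y using QuotientGroup.induction_on with
    | _ s =>
      refine QuotientGroup.eq.2 (Subgroup.mem_inf.2 ⟨Subgroup.mul_mem _ (Subgroup.inv_mem _ r.2) s.2, Subgroup.mem_centralizer_singleton_iff.2 ?_⟩)
      have h1 : t * r * t * (r : G)⁻¹ = t * s * t * (s : G)⁻¹ := congrArg Subtype.val hxy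
      have h2 : (r : G) * t * (r : G)⁻¹ = s * t * (s : G)⁻¹ :=
        mul_left_cancel (a := t) (by simpa only [mul_assoc] using h1)
      push_cast
      calc (r : G)⁻¹ * s * t = (r : G)⁻¹ * (s * t * (s : G)⁻¹) * s := by group
        _ = t * ((r : G)⁻¹ * s) := by rw [← h2]; group
  have hcardq : Nat.card (Q ⧸ K.subgroupOf Q) * Nat.card K = 32 := by
    rw [← h.card, ← Subgroup.card_mul_index (K.subgroupOf Q), Subgroup.index_eq_card,
      Nat.card_congr (Subgroup.subgroupOfEquivOfLe (inf_le_left : K ≤ Q)).toEquiv, mul_comm]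
  have hle : Nat.card (Q ⧸ K.subgroupOf Q) ≤ 8 := hFcard ▸ Nat.card_le_card_of_injective f finj
  have hK4 : Nat.card K = 4 := by nlinarith
  have hQK : Nat.card (Q ⧸ K.subgroupOf Q) = 8 := by rw [hK4] at hcardq; omega
  have fbij : Function.Bijective f := (Nat.bijective_iff_injective_and_card f).2 ⟨finj, by rw [hQK, hFcard]⟩
  refine ⟨fun q hq => ?_, hK4, fun i hi => ?_⟩
  · obtain ⟨x, hx⟩ := fbij.2 ⟨q, hq⟩
    induction x using QuotientGroup.induction_on with
    | _ r =>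
      refine ⟨r, r.2, ?_⟩
      have h1 : t * r * t * (r : G)⁻¹ = q := congrArg Subtype.val hx
      rw [← h1, ← mul_assoc, ← mul_assoc, ← mul_assoc, ht2, one_mul]
  · have hieq : i = i₀ := huniq i hi
    subst hieq
    have hidx : (K.subgroupOf F).index = 2 := by
      have h1 := Subgroup.card_mul_index (K.subgroupOf F)
      rw [Nat.card_congr (Subgroup.subgroupOfEquivOfLe hKF).toEquiv, hK4, hFcard] at h1
      omega
    have hab : qa * qb ∈ K := by
      have := (Subgroup.mul_mem_iff_of_index_two hidx (a := ⟨qa, hqaF⟩) (b := ⟨qb, hqbF⟩)).2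
        (iff_of_false hqaK hqbK)
      exact this
    have hphi : phi u (qa * qb) = allBut i := by rw [h.phi_mul hqaF.1 hqbF.1, hqa, hqb]; exact hsum
    have hc := (Subgroup.mem_centralizer_singleton_iff.1 hab.2)
    rcases (h.phi_eq_iff hab.1 (h.mem i)).1 (by rw [hphi, h.phi_u]) with e | e <;> rw [e]
    · exact hc
    · exact Commute.mul_left hc (h.toBase.commute_of_mem_centralizer ht).symm

/-- Elements of `C(z) ∖ Q` with square in `Z(Q)` are involutions, conjugate to a given one. -/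
theorem sq_central (h : Five z Q u) {t x : G} (ht : t ∈ Subgroup.centralizer ({z} : Set G))
    (ht2 : t * t = 1) (htQ : t ∉ Q) (hx : x ∈ Subgroup.centralizer ({z} : Set G))
    (hxQ : x ∉ Q) (hx2 : x * x = 1 ∨ x * x = z) :
    x * x = 1 ∧ ∃ c ∈ Subgroup.centralizer ({z} : Set G), c * t * c⁻¹ = x := by
  have hxxQ : x * x ∈ Q := by rcases hx2 with e | e <;> rw [e]; exacts [one_mem _, h.es.mem]
  have hσ1 : h.pr t ≠ 1 := fun e => htQ (h.mem_of_pr ht e)
  have hσ2 : h.pr t * h.pr t = 1 := by rw [← h.pr_mul ht ht, ht2, h.pr_of_mem (one_mem Q)]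
  have hτ1 : h.pr x ≠ 1 := fun e => hxQ (h.mem_of_pr hx e)
  have hτ2 : h.pr x * h.pr x = 1 := by rw [← h.pr_mul hx hx, h.pr_of_mem hxxQ]
  obtain ⟨g1, hg1, e1⟩ := invol_conj _ (h.pr_sign ht) hσ2 hσ1
  obtain ⟨g2, hg2, e2⟩ := invol_conj _ (h.pr_sign hx) hτ2 hτ1
  obtain ⟨c, hc, hcg⟩ := h.exists_lift (g2 * g1⁻¹) (by rw [map_mul, map_inv, hg1, hg2]; simp)
  have ht1C : c * t * c⁻¹ ∈ Subgroup.centralizer ({z} : Set G) := mul_mem (mul_mem hc ht) (inv_mem hc)
  have hpr : h.pr (c * t * c⁻¹) = h.pr x := by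
    rw [h.pr_mul (mul_mem hc ht) (inv_mem hc), h.pr_mul hc ht, h.pr_inv hc, hcg]
    calc g2 * g1⁻¹ * h.pr t * (g2 * g1⁻¹)⁻¹ = g2 * g1⁻¹ * (h.pr t * g1) * g2⁻¹ := by group
      _ = g2 * (Equiv.swap 0 1 * Equiv.swap 2 3) * g2⁻¹ := by rw [← e1]; group
      _ = h.pr x := by rw [e2]; group
  set t₁ := c * t * c⁻¹ with ht1
  have ht12 : t₁ * t₁ = 1 := by
    rw [ht1, show c * t * c⁻¹ * (c * t * c⁻¹) = c * (t * t) * c⁻¹ by group, ht2]; group
  have ht1Q : t₁ ∉ Q := fun e => hτ1 (by rw [← hpr, h.pr_of_mem e])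
  have hti : t₁⁻¹ = t₁ := inv_eq_of_mul_eq_one_right ht12
  have hqQ : t₁ * x ∈ Q := h.mem_of_pr (mul_mem ht1C hx) (by rw [h.pr_mul ht1C hx, hpr, hτ2])
  have hfix : t₁ * x ∈ h.fixSub (h.pr t₁) := by
    refine ⟨hqQ, fun i => ?_⟩
    have hc' : t₁ * (t₁ * x) * t₁⁻¹ ∈ Q := h.conj_mem ht1C hqQ
    have e : t₁ * (t₁ * x) * t₁⁻¹ * (t₁ * x) = x * x := by
      rw [← mul_assoc t₁ t₁ x, ht12, one_mul, hti, show x * t₁ * (t₁ * x) = x * (t₁ * t₁) * x by group,
        ht12, mul_one]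
    have h0 : phi u (x * x) = 0 := by
      rcases hx2 with e | e <;> rw [e]; exacts [h.phi_one, h.phi_z]
    rw [← e, h.phi_mul hc' hqQ] at h0
    have h1 := h.phi_pr ht1C hqQ i
    have h2 := congrFun h0 (h.pr t₁ i)
    rw [Pi.add_apply, h1, Pi.zero_apply] at h2
    have : ∀ a b : ZMod 2, a + b = 0 → b = a := by decide
    exact this _ _ h2
  obtain ⟨r, hr, hrx⟩ := (h.orbit ht1C ht12 ht1Q).1 _ hfix
  rw [← mul_assoc t₁ t₁ x, ht12, one_mul] at hrx
  refine ⟨?_, r * c, mul_mem (h.toBase.z_mem_centralizer hr) hc, ?_⟩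
  · rw [← hrx, show r * t₁ * r⁻¹ * (r * t₁ * r⁻¹) = r * (t₁ * t₁) * r⁻¹ by group, ht12]; group
  · rw [← hrx, ht1]; group

theorem lift_centralizer (h : Five z Q u) {t : G} (ht : t ∈ Subgroup.centralizer ({z} : Set G))
    (ht2 : t * t = 1) (htQ : t ∉ Q) {τ : Equiv.Perm (Fin 5)} (hτ : Equiv.Perm.sign τ = 1)
    (hcomm : h.pr t * τ = τ * h.pr t) :
    ∃ c ∈ Subgroup.centralizer ({z} : Set G), Commute c t ∧ h.pr c = τ := by
  obtain ⟨c, hc, rfl⟩ := h.exists_lift τ hτ
  have hti : t⁻¹ = t := inv_eq_of_mul_eq_one_right ht2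
  have hxC : c * t * c⁻¹ ∈ Subgroup.centralizer ({z} : Set G) := mul_mem (mul_mem hc ht) (inv_mem hc)
  have hpr : h.pr (c * t * c⁻¹) = h.pr t := by
    rw [h.pr_mul (mul_mem hc ht) (inv_mem hc), h.pr_mul hc ht, h.pr_inv hc, ← hcomm, mul_inv_cancel_right]
  have hqQ : t * (c * t * c⁻¹) ∈ Q :=
    h.mem_of_pr (mul_mem ht hxC) (by rw [h.pr_mul ht hxC, hpr, ← h.pr_mul ht ht, ht2, h.pr_of_mem (one_mem Q)])
  have hfix : t * (c * t * c⁻¹) ∈ h.fixSub (h.pr t) := by
    refine ⟨hqQ, fun i => ?_⟩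
    set q := t * (c * t * c⁻¹) with hq
    have hc' : t * q * t⁻¹ ∈ Q := h.conj_mem ht hqQ
    have e : t * q * t⁻¹ * q = 1 := by
      rw [hq, hti, ← mul_assoc t t, ht2, one_mul,
        show c * t * c⁻¹ * t * (t * (c * t * c⁻¹)) = c * t * c⁻¹ * (t * t) * (c * t * c⁻¹) by group, ht2,
        mul_one, show c * t * c⁻¹ * (c * t * c⁻¹) = c * (t * t) * c⁻¹ by group, ht2]
      group
    have h0 : phi u (t * q * t⁻¹ * q) = 0 := by rw [e]; exact h.phi_one
    rw [h.phi_mul hc' hqQ] at h0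
    have h2 := congrFun h0 (h.pr t i)
    rw [Pi.add_apply, h.phi_pr ht hqQ i, Pi.zero_apply] at h2
    have : ∀ a b : ZMod 2, a + b = 0 → b = a := by decide
    exact this _ _ h2
  obtain ⟨r, hr, hrx⟩ := (h.orbit ht ht2 htQ).1 _ hfix
  rw [← mul_assoc, ht2, one_mul] at hrx
  refine ⟨r⁻¹ * c, mul_mem (h.toBase.z_mem_centralizer (inv_mem hr)) hc, ?_, ?_⟩
  · refine mul_inv_eq_iff_eq_mul.1 ?_
    rw [show r⁻¹ * c * t * (r⁻¹ * c)⁻¹ = r⁻¹ * (c * t * c⁻¹) * r by group, ← hrx]; group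
  · rw [h.pr_mul (h.toBase.z_mem_centralizer (inv_mem hr)) hc, h.pr_of_mem (inv_mem hr), one_mul]

/-- `C_{C(z)}(t)` is elementary abelian of order sixteen. -/
theorem cent_invol (h : Five z Q u) {t : G} (ht : t ∈ Subgroup.centralizer ({z} : Set G))
    (ht2 : t * t = 1) (htQ : t ∉ Q) :
    Nat.card (Subgroup.centralizer ({z} : Set G) ⊓ Subgroup.centralizer ({t} : Set G) : Subgroup G) = 16 ∧
      ∀ x ∈ Subgroup.centralizer ({z} : Set G) ⊓ Subgroup.centralizer ({t} : Set G), x * x = 1 := by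
  classical
  set σ := h.pr t with hσ
  have hσ1 : σ ≠ 1 := fun e => htQ (h.mem_of_pr ht e)
  have hσ2 : σ * σ = 1 := by rw [hσ, ← h.pr_mul ht ht, ht2, h.pr_of_mem (one_mem Q)]
  obtain ⟨-, i, -, -, hi, -⟩ := invol_facts σ (h.pr_sign ht) hσ2 hσ1
  obtain ⟨horb, hK4, hfixpt⟩ := h.orbit ht ht2 htQ
  set A := Subgroup.centralizer ({z} : Set G) ⊓ Subgroup.centralizer ({t} : Set G) with hA
  have hztc : Commute z t := (h.toBase.commute_of_mem_centralizer ht).symm
  have hzu : Commute z (u i) := (h.es.comm _ (h.mem i)).symm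
  have huit : Commute (u i) t := hfixpt i hi
  -- the centraliser in `Q`
  have hWset : ∀ q ∈ Q, Commute q t → q = 1 ∨ q = z ∨ q = u i ∨ q = u i * z := by
    intro q hq hqt
    set K := Q ⊓ Subgroup.centralizer ({t} : Set G) with hK
    have hzK : z ∈ K := ⟨h.es.mem, Subgroup.mem_centralizer_singleton_iff.2 hztc.eq⟩
    have huK : u i ∈ K := ⟨h.mem i, Subgroup.mem_centralizer_singleton_iff.2 huit.eq⟩
    let s : Finset G := {1, z, u i, u i * z}
    have hu1 : u i ≠ 1 := fun e => allBut_ne_zero i (by rw [← h.phi_u, e, h.phi_one])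
    have huz : u i ≠ z := fun e => allBut_ne_zero i (by rw [← h.phi_u, e, h.phi_z])
    have hs : s.card = 4 := by
      have e1 : u i * z ≠ 1 := fun e => huz (by
        have := mul_eq_one_iff_eq_inv.1 e; rw [this]; exact h.toBase.es.zinv)
      have e2 : u i * z ≠ z := fun e => hu1 (mul_eq_right.1 e)
      have e3 : u i * z ≠ u i := fun e => h.es.ne (mul_eq_left.1 e)
      simp [s, Finset.card_insert_of_notMem, Ne.symm h.es.ne, Ne.symm hu1, Ne.symm e1, Ne.symm huz,
        Ne.symm e2, Ne.symm e3]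
    haveI : Fintype K := Fintype.ofFinite _
    have hsK : s = (K : Set G).toFinset := by
      refine Finset.eq_of_subset_of_card_le (fun x hx => ?_) ?_
      · simp only [s, Finset.mem_insert, Finset.mem_singleton] at hx
        rw [Set.mem_toFinset]
        rcases hx with rfl | rfl | rfl | rfl
        exacts [one_mem _, hzK, huK, mul_mem huK hzK]
      · rw [hs, Set.toFinset_card, ← Nat.card_eq_fintype_card]
        exact le_of_eq hK4
    have : q ∈ s := by
      rw [hsK, Set.mem_toFinset]; exact ⟨hq, Subgroup.mem_centralizer_singleton_iff.2 hqt.eq⟩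
    simpa [s] using this
  have hWsq : ∀ q ∈ Q, Commute q t → q * q = 1 ∧ ∀ x : G, Commute x z → Commute x (u i) → Commute x q := by
    intro q hq hqt
    rcases hWset q hq hqt with e | e | e | e <;> subst e
    · exact ⟨one_mul 1, fun x _ _ => Commute.one_right x⟩
    · exact ⟨h.es.sq, fun x hx _ => hx⟩
    · exact ⟨h.sq i, fun x _ hx => hx⟩
    · refine ⟨?_, fun x hx hxu => hxu.mul_right hx⟩
      rw [show u i * z * (u i * z) = u i * (z * u i) * z by group, hzu.eq,
        show u i * (u i * z) * z = u i * u i * (z * z) by group, h.sq, h.es.sq, one_mul]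
  -- for every `τ` in `C(σ)` an involution above it
  have hrep : ∀ τ : Equiv.Perm (Fin 5), Equiv.Perm.sign τ = 1 → σ * τ = τ * σ →
      ∃ x ∈ A, h.pr x = τ ∧ x * x = 1 ∧ Commute x (u i) := by
    intro τ hτ hcomm
    by_cases hτ1 : τ = 1
    · exact ⟨1, one_mem _, by rw [h.pr_of_mem (one_mem Q), hτ1], one_mul 1, Commute.one_left _⟩
    by_cases hτσ : τ = σ
    · exact ⟨t, ⟨ht, Subgroup.mem_centralizer_singleton_iff.2 rfl⟩, hτσ.symm, ht2, huit.symm⟩
    have hτ2 := (Model.cent_invol σ (h.pr_sign ht) hσ2 hσ1).2 τ hτ hcomm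
    obtain ⟨hτi, hv0, w, hwe, hwfix, hwsum⟩ := pair_facts σ τ (h.pr_sign ht) hσ2 hσ1 hτ hτ2 hτ1 hτσ hcomm i hi
    obtain ⟨c, hc, hcpr⟩ := h.exists_lift τ hτ
    obtain ⟨g1, hg1, e1⟩ := invol_conj σ (h.pr_sign ht) hσ2 hσ1
    obtain ⟨g2, hg2, e2⟩ := invol_conj τ hτ hτ2 hτ1
    obtain ⟨d, hd, hdg⟩ := h.exists_lift (g2 * g1⁻¹) (by rw [map_mul, map_inv, hg1, hg2]; simp)
    set x₀ := d * t * d⁻¹ with hx0
    have hx0C : x₀ ∈ Subgroup.centralizer ({z} : Set G) := mul_mem (mul_mem hd ht) (inv_mem hd)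
    have hx0pr : h.pr x₀ = τ := by
      rw [h.pr_mul (mul_mem hd ht) (inv_mem hd), h.pr_mul hd ht, h.pr_inv hd, hdg]
      calc g2 * g1⁻¹ * σ * (g2 * g1⁻¹)⁻¹ = g2 * g1⁻¹ * (σ * g1) * g2⁻¹ := by group
        _ = g2 * (Equiv.swap 0 1 * Equiv.swap 2 3) * g2⁻¹ := by rw [← e1]; group
        _ = τ := by rw [e2]; group
    have hx02 : x₀ * x₀ = 1 := by
      rw [hx0, show d * t * d⁻¹ * (d * t * d⁻¹) = d * (t * t) * d⁻¹ by group, ht2]; group
    have hx0Q : x₀ ∉ Q := fun e => hτ1 (by rw [← hx0pr, h.pr_of_mem e])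
    have hti : t⁻¹ = t := inv_eq_of_mul_eq_one_right ht2
    have hxi : x₀⁻¹ = x₀ := inv_eq_of_mul_eq_one_right hx02
    -- the commutator with `t`
    set r := t * x₀ * (t * x₀) with hr
    have hrQ : r ∈ Q := h.mem_of_pr (mul_mem (mul_mem ht hx0C) (mul_mem ht hx0C)) (by
      rw [h.pr_mul (mul_mem ht hx0C) (mul_mem ht hx0C), h.pr_mul ht hx0C, hx0pr]
      rw [show σ * τ * (σ * τ) = σ * (τ * σ) * τ by group, ← hcomm,
        show σ * (σ * τ) * τ = σ * σ * (τ * τ) by group, hσ2, hτ2, one_mul])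
    have hrinv : ∀ y ∈ ({t, x₀} : Set G), y * r * y⁻¹ = r⁻¹ := by
      rintro y (rfl | rfl)
      · rw [hr, hti, ← mul_assoc y (y * x₀), ← mul_assoc y y, ht2, one_mul, mul_inv_rev, mul_inv_rev,
          hti, hxi, show x₀ * (y * x₀) * y = x₀ * y * (x₀ * y) by group]
      · rw [hr, hxi, mul_inv_rev, mul_inv_rev, hti, hxi,
          show x₀ * (t * x₀ * (t * x₀)) * x₀ = x₀ * t * x₀ * t * (x₀ * x₀) by group, hx02, mul_one]
        group
    have hrfix : ∀ y ∈ ({t, x₀} : Set G), IsFix (h.pr y) (phi u r) := by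
      intro y hy k
      have hyC : y ∈ Subgroup.centralizer ({z} : Set G) := by
        rcases hy with rfl | rfl; exacts [ht, hx0C]
      have h1 := h.phi_pr hyC hrQ k
      rwa [hrinv y hy, h.phi_inv hrQ] at h1
    have hr0 := hv0 _ (h.phi_even hrQ) (hrfix t (by simp)) (hx0pr ▸ hrfix x₀ (by simp))
    obtain ⟨x, hxC, hxpr, hx2, hxr⟩ : ∃ x ∈ Subgroup.centralizer ({z} : Set G),
        h.pr x = τ ∧ x * x = 1 ∧ phi u (t * x * (t * x)) = 0 ∧ t * x * (t * x) ∈ Q := by
      rcases hr0 with h0 | h0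
      · exact ⟨x₀, hx0C, hx0pr, hx02, h0, hrQ⟩
      · obtain ⟨q, hq, hqw⟩ := h.phi_surj w hwe
        obtain ⟨s, hs, hsx⟩ := (h.orbit hx0C hx02 hx0Q).1 q ⟨hq, by rw [hqw, hx0pr]; exact hwfix⟩
        have hqC := h.toBase.z_mem_centralizer hq
        refine ⟨x₀ * q, mul_mem hx0C hqC, by rw [h.pr_mul hx0C hqC, hx0pr, h.pr_of_mem hq, mul_one], ?_, ?_⟩
        · rw [← hsx, show s * x₀ * s⁻¹ * (s * x₀ * s⁻¹) = s * (x₀ * x₀) * s⁻¹ by group, hx02]; group
        · have hcc : (t * x₀)⁻¹ * q * (t * x₀) ∈ Q := by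
            simpa using h.conj_mem (inv_mem (mul_mem ht hx0C)) hq
          have e : t * (x₀ * q) * (t * (x₀ * q)) = r * ((t * x₀)⁻¹ * q * (t * x₀) * q) := by rw [hr]; group
          refine ⟨?_, e ▸ mul_mem hrQ (mul_mem hcc hq)⟩
          rw [e, h.phi_mul hrQ (mul_mem hcc hq), h.phi_mul hcc hq, h0]
          funext k
          have hk := h.phi_pr (inv_mem (mul_mem ht hx0C)) hq ((σ * τ) k)
          rw [inv_inv, h.pr_inv (mul_mem ht hx0C), h.pr_mul ht hx0C, hx0pr] at hk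
          rw [show (σ * τ)⁻¹ ((σ * τ) k) = k from Equiv.symm_apply_apply _ k, hqw] at hk
          have hwk : w ((σ * τ) k) = w (σ k) := by
            rw [hcomm, Equiv.Perm.mul_apply]
            exact hwfix (σ k)
          rw [hqw, Pi.add_apply, Pi.add_apply, hk, hwk, add_comm (w (σ k)), hwsum k]
          exact CharTwo.add_self_eq_zero _
    have hτ1' : h.pr x ≠ 1 := hxpr ▸ hτ1
    have htxQ : t * x ∉ Q := fun e => by
      have := h.pr_of_mem e
      rw [h.pr_mul ht hxC, hxpr] at this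
      have h2 : σ * (σ * τ) = σ := by rw [this, mul_one]
      rw [← mul_assoc, hσ2, one_mul] at h2
      exact hτσ h2
    have hz2 : t * x * (t * x) = 1 ∨ t * x * (t * x) = z := h.range_card_and_ker.2.2 _ hxr.2 hxr.1
    have h1 := (h.sq_central ht ht2 htQ (mul_mem ht hxC) htxQ hz2).1
    refine ⟨x, ⟨hxC, Subgroup.mem_centralizer_singleton_iff.2 ?_⟩, hxpr, hx2, ?_⟩
    · calc x * t = t * (t * x * (t * x)) * x := by
            rw [show t * (t * x * (t * x)) * x = (t * t) * x * t * (x * x) by group, ht2, hx2, one_mul, mul_one]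
        _ = t * x := by rw [h1, mul_one]
    · exact ((h.orbit hxC hx2 (fun e => hτ1' (h.pr_of_mem e))).2.2 i (hxpr ▸ hτi)).symm
  have hpr_cent : ∀ x ∈ A, σ * h.pr x = h.pr x * σ := by
    intro x hx
    rw [hσ, ← h.pr_mul ht hx.1, ← h.pr_mul hx.1 ht, (Subgroup.mem_centralizer_singleton_iff.1 hx.2)]
  refine ⟨?_, fun x hx => ?_⟩
  · -- the order
    let φ : A →* Equiv.Perm (Fin 5) :=
      h.perm.comp (Subgroup.inclusion (inf_le_left : A ≤ Subgroup.centralizer ({z} : Set G)))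
    have hφ : ∀ x : A, φ x = h.pr x := fun x => (h.pr_eq x.2.1).symm
    have hk : Nat.card φ.ker = 4 := by
      rw [← hK4]
      refine Nat.card_congr
        { toFun := fun x => ⟨x.1.1, h.mem_of_pr x.1.2.1 ((hφ x.1).symm.trans x.2), x.1.2.2⟩
          invFun := fun q => ⟨⟨q.1, h.toBase.z_mem_centralizer q.2.1, q.2.2⟩,
            (hφ _).trans (h.pr_of_mem q.2.1)⟩
          left_inv := fun x => rfl
          right_inv := fun q => rfl }
    have hr : Nat.card φ.range = 4 := by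
      rw [← (Model.cent_invol σ (h.pr_sign ht) hσ2 hσ1).1, ← Nat.card_eq_fintype_card]
      refine Nat.card_congr
        { toFun := fun x => ⟨x.1, ?_⟩
          invFun := fun τ => ⟨τ.1, ?_⟩
          left_inv := fun x => rfl
          right_inv := fun τ => rfl }
      · obtain ⟨y, hy⟩ := x.2
        rw [← hy, hφ]
        exact ⟨h.pr_sign y.2.1, hpr_cent y y.2⟩
      · obtain ⟨y, hy, hy1, -, -⟩ := hrep τ.1 τ.2.1 τ.2.2
        exact ⟨⟨y, hy⟩, (hφ _).trans hy1⟩
    rw [← Subgroup.card_mul_index φ.ker, Subgroup.index_ker, hk, hr]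
  · obtain ⟨x', hx', hx'pr, hx'2, hx'u⟩ := hrep _ (h.pr_sign hx.1) (hpr_cent x hx)
    have hw : x'⁻¹ * x ∈ Q := h.mem_of_pr (mul_mem (inv_mem hx'.1) hx.1) (by
      rw [h.pr_mul (inv_mem hx'.1) hx.1, h.pr_inv hx'.1, hx'pr, inv_mul_cancel])
    have hwt : Commute (x'⁻¹ * x) t :=
      (Subgroup.mem_centralizer_singleton_iff.1 (mul_mem (inv_mem hx'.2) hx.2))
    obtain ⟨hw2, hwc⟩ := hWsq _ hw hwt
    have hcw := hwc x' (h.toBase.commute_of_mem_centralizer hx'.1) hx'u
    calc x * x = x' * (x'⁻¹ * x) * (x' * (x'⁻¹ * x)) := by group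
      _ = x' * ((x'⁻¹ * x) * x') * (x'⁻¹ * x) := by group
      _ = x' * (x' * (x'⁻¹ * x)) * (x'⁻¹ * x) := by rw [hcw.eq]
      _ = (x' * x') * ((x'⁻¹ * x) * (x'⁻¹ * x)) := by group
      _ = 1 := by rw [hx'2, hw2, one_mul]

/-- The centraliser in `C(z)` of an element of order three. -/
theorem cent_three (h : Five z Q u) {a : G} (ha : a ∈ Subgroup.centralizer ({z} : Set G))
    (ha3 : orderOf a = 3) :
    Nat.card (Subgroup.centralizer ({z} : Set G) ⊓ Subgroup.centralizer ({a} : Set G) : Subgroup G) = 24 ∧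
      ∃ i j, i ≠ j ∧ Commute (u i) a ∧ Commute (u j) a := by
  classical
  have hcard32 : Nat.card Q = 32 := h.card
  have hσ1 : h.pr a ≠ 1 := fun e => by
    have h1 := Subgroup.orderOf_dvd_natCard Q (h.mem_of_pr ha e)
    rw [ha3, hcard32] at h1; omega
  have hσ3 : h.pr a * h.pr a * h.pr a = 1 := by
    rw [← h.pr_mul ha ha, ← h.pr_mul (mul_mem ha ha) ha]
    have : a * a * a = 1 := by
      have := pow_orderOf_eq_one a; rw [ha3, pow_succ, pow_two] at this; exact this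
    rw [this, h.pr_of_mem (one_mem Q)]
  obtain ⟨hcσ, hfix4, i, j, hij, hi, hj⟩ := three_facts _ hσ3 hσ1
  have hodd : Odd (orderOf a) := by rw [ha3]; decide
  have hQfix : ∀ q ∈ h.fixSub (h.pr a), Commute q a := by
    intro q hq
    refine (mul_inv_eq_iff_eq_mul.1 (h.toBase.conj_eq_of_odd hodd (h.toBase.commute_of_mem_centralizer ha) ?_)).symm
    refine (h.phi_eq_iff hq.1 (h.conj_mem ha hq.1)).1 (funext fun k => ?_)
    obtain ⟨k', rfl⟩ := (h.pr a).surjective k
    rw [h.phi_pr ha hq.1, hq.2 k']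
  have hui : ∀ k, h.pr a k = k → u k ∈ h.fixSub (h.pr a) := fun k hk => ⟨h.mem k, fun l => by
    rw [h.phi_u]
    show allBut k (h.pr a l) = allBut k l
    simp only [allBut]
    by_cases e : l = k
    · subst e; rw [if_pos hk, if_pos rfl]
    · rw [if_neg e, if_neg]
      exact fun e' => e ((h.pr a).injective (e'.trans hk.symm))⟩
  refine ⟨?_, i, j, hij, hQfix _ (hui i hi), hQfix _ (hui j hj)⟩
  set X := Subgroup.centralizer ({z} : Set G) ⊓ Subgroup.centralizer ({a} : Set G) with hX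
  let φ : X →* Equiv.Perm (Fin 5) :=
    h.perm.comp (Subgroup.inclusion (inf_le_left : X ≤ Subgroup.centralizer ({z} : Set G)))
  have hφ : ∀ x : X, φ x = h.pr x := fun x => (h.pr_eq x.2.1).symm
  have hkfix : ∀ x : X, φ x = 1 → (x : G) ∈ h.fixSub (h.pr a) := by
    intro x hx
    have hxQ := h.mem_of_pr x.2.1 ((hφ x).symm.trans hx)
    refine ⟨hxQ, fun k => ?_⟩
    have := h.phi_pr ha hxQ k
    rwa [mul_inv_eq_iff_eq_mul.2 (Subgroup.mem_centralizer_singleton_iff.1 x.2.2).symm] at this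
  have hk : Nat.card φ.ker = 8 := by
    have h8 : Nat.card (h.fixSub (h.pr a)) = 8 := by rw [h.card_fixSub, hfix4]
    rw [← h8]
    refine Nat.card_congr
      { toFun := fun x => ⟨x.1.1, hkfix x.1 x.2⟩
        invFun := fun q => ⟨⟨q.1, h.toBase.z_mem_centralizer q.2.1,
          Subgroup.mem_centralizer_singleton_iff.2 (hQfix _ q.2).eq⟩,
          (hφ _).trans (h.pr_of_mem q.2.1)⟩
        left_inv := fun x => rfl
        right_inv := fun q => rfl }
  have hrle : Nat.card φ.range ≤ 3 := by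
    rw [← hcσ, ← Nat.card_eq_fintype_card]
    refine Nat.card_le_card_of_injective (fun x => ⟨x.1, ?_⟩) (fun x y hxy =>
      Subtype.ext (congrArg (fun w => w.1) hxy))
    obtain ⟨y, hy⟩ := x.2
    rw [← hy, hφ]
    refine ⟨h.pr_sign y.2.1, ?_⟩
    rw [← h.pr_mul ha y.2.1, ← h.pr_mul y.2.1 ha, Subgroup.mem_centralizer_singleton_iff.1 y.2.2]
  have h3 : 3 ∣ Nat.card φ.range := by
    have hao : orderOf (h.pr a) = 3 := by
      haveI : Fact (Nat.Prime 3) := ⟨Nat.prime_three⟩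
      exact orderOf_eq_prime (by rw [pow_succ, pow_two, hσ3]) hσ1
    rw [← hao]
    exact Subgroup.orderOf_dvd_natCard _
      ⟨⟨a, ha, Subgroup.mem_centralizer_singleton_iff.2 rfl⟩, hφ _⟩
  have h0 : 0 < Nat.card φ.range := Nat.card_pos
  rw [← Subgroup.card_mul_index φ.ker, Subgroup.index_ker, hk, show Nat.card φ.range = 3 by
    have := Nat.le_of_dvd h0 h3; omega]

/-- The centraliser in `C(z)` of an element of order five. -/
theorem cent_five (h : Five z Q u) {f : G} (hf : f ∈ Subgroup.centralizer ({z} : Set G))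
    (hf5 : orderOf f = 5) :
    Nat.card (Subgroup.centralizer ({z} : Set G) ⊓ Subgroup.centralizer ({f} : Set G) : Subgroup G) = 10 := by
  classical
  have hcard32 : Nat.card Q = 32 := h.card
  have hσ1 : h.pr f ≠ 1 := fun e => by
    have h1 := Subgroup.orderOf_dvd_natCard Q (h.mem_of_pr hf e)
    rw [hf5, hcard32] at h1; omega
  have hσ5 : h.pr f * h.pr f * h.pr f * h.pr f * h.pr f = 1 := by
    rw [← h.pr_mul hf hf, ← h.pr_mul (mul_mem hf hf) hf, ← h.pr_mul (mul_mem (mul_mem hf hf) hf) hf,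
      ← h.pr_mul (mul_mem (mul_mem (mul_mem hf hf) hf) hf) hf]
    have : f * f * f * f * f = 1 := by
      have := pow_orderOf_eq_one f; rw [hf5] at this; simpa [pow_succ] using this
    rw [this, h.pr_of_mem (one_mem Q)]
  obtain ⟨hcσ, hfix1⟩ := five_facts _ hσ5 hσ1
  set X := Subgroup.centralizer ({z} : Set G) ⊓ Subgroup.centralizer ({f} : Set G) with hX
  let φ : X →* Equiv.Perm (Fin 5) :=
    h.perm.comp (Subgroup.inclusion (inf_le_left : X ≤ Subgroup.centralizer ({z} : Set G)))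
  have hφ : ∀ x : X, φ x = h.pr x := fun x => (h.pr_eq x.2.1).symm
  have hk : Nat.card φ.ker ≤ 2 := by
    have h2 : Nat.card (h.fixSub (h.pr f)) = 2 := by rw [h.card_fixSub, hfix1]
    rw [← h2]
    refine Nat.card_le_card_of_injective (fun x => ⟨x.1.1, ?_⟩) (fun x y hxy =>
      Subtype.ext (Subtype.ext (congrArg (fun w => w.1) hxy)))
    have hxQ := h.mem_of_pr x.1.2.1 ((hφ x.1).symm.trans x.2)
    refine ⟨hxQ, fun k => ?_⟩
    have := h.phi_pr hf hxQ k
    rwa [mul_inv_eq_iff_eq_mul.2 (Subgroup.mem_centralizer_singleton_iff.1 x.1.2.2).symm] at this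
  have hr : Nat.card φ.range ≤ 5 := by
    refine le_of_le_of_eq ?_ hcσ
    rw [← Nat.card_eq_fintype_card]
    refine Nat.card_le_card_of_injective (fun x => ⟨x.1, ?_⟩) (fun x y hxy =>
      Subtype.ext (congrArg (fun w => w.1) hxy))
    obtain ⟨y, hy⟩ := x.2
    rw [← hy, hφ]
    refine ⟨h.pr_sign y.2.1, ?_⟩
    rw [← h.pr_mul hf y.2.1, ← h.pr_mul y.2.1 hf, Subgroup.mem_centralizer_singleton_iff.1 y.2.2]
  have hle : Nat.card X ≤ 10 := by
    rw [← Subgroup.card_mul_index φ.ker, Subgroup.index_ker]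
    calc Nat.card φ.ker * Nat.card φ.range ≤ 2 * 5 := Nat.mul_le_mul hk hr
      _ = 10 := rfl
  have hzX : z ∈ X := ⟨Subgroup.mem_centralizer_singleton_iff.2 rfl,
    Subgroup.mem_centralizer_singleton_iff.2 (h.toBase.commute_of_mem_centralizer hf).eq.symm⟩
  have hfX : f ∈ X := ⟨hf, Subgroup.mem_centralizer_singleton_iff.2 rfl⟩
  have h10 : 10 ∣ Nat.card X := Nat.Coprime.mul_dvd_of_dvd_of_dvd (by norm_num : Nat.Coprime 2 5)
    (h.ord ▸ Subgroup.orderOf_dvd_natCard _ hzX) (hf5 ▸ Subgroup.orderOf_dvd_natCard _ hfX)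
  have h0 : 0 < Nat.card X := Nat.card_pos
  have := Nat.le_of_dvd h0 h10
  omega

end Five

end Cfsg.Agent.Lib.HallJanko
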