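import Mathlib
import Cfsg.Prelude.Def_Classical
import Cfsg.Agent.S0300
import Cfsg.Agent.Lib.OrthStd.Models
import Cfsg.Agent.Lib.Linear.Order

/-!
# `|Ω⁻(4, 2)| = 60`

The isometry group permutes the five non-zero singular vectors, and a transvection does so oddly.

Owner: helper99.
-/

set_option autoImplicit false
set_option linter.style.haveILetI false

namespace Cfsg.Agent.Lib.HallJanko.OmegaFour

open Matrix

/-- The form. -/
abbrev Q4 : ((Fin 1 ⊕ Fin 1) ⊕ Fin 2 → ZMod 2) → ZMod 2 := Cfsg.quadFormMinus 1 (ZMod 2) 1 1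

/-- The non-zero singular vectors. -/
abbrev Pt : Type := {v : (Fin 1 ⊕ Fin 1) ⊕ Fin 2 → ZMod 2 // Q4 v = 0 ∧ v ≠ 0}

/-- The matrix of an isometry. -/
def mat (g : Cfsg.isometryGroup (ZMod 2) Q4) : Matrix ((Fin 1 ⊕ Fin 1) ⊕ Fin 2) ((Fin 1 ⊕ Fin 1) ⊕ Fin 2) (ZMod 2) :=
  (g.1 : GL ((Fin 1 ⊕ Fin 1) ⊕ Fin 2) (ZMod 2)).val

theorem mat_one : mat 1 = 1 := rfl

theorem mat_mul (g h : Cfsg.isometryGroup (ZMod 2) Q4) : mat (g * h) = mat g * mat h := rfl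

theorem mat_inv_mulVec (g : Cfsg.isometryGroup (ZMod 2) Q4) (v : (Fin 1 ⊕ Fin 1) ⊕ Fin 2 → ZMod 2) :
    mat g⁻¹ *ᵥ (mat g *ᵥ v) = v := by
  rw [Matrix.mulVec_mulVec, ← mat_mul, inv_mul_cancel, mat_one, Matrix.one_mulVec]

theorem mat_mulVec_inv (g : Cfsg.isometryGroup (ZMod 2) Q4) (v : (Fin 1 ⊕ Fin 1) ⊕ Fin 2 → ZMod 2) :
    mat g *ᵥ (mat g⁻¹ *ᵥ v) = v := by
  rw [Matrix.mulVec_mulVec, ← mat_mul, mul_inv_cancel, mat_one, Matrix.one_mulVec]

theorem isometry_apply (g : Cfsg.isometryGroup (ZMod 2) Q4) (v : (Fin 1 ⊕ Fin 1) ⊕ Fin 2 → ZMod 2) :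
    Q4 (mat g *ᵥ v) = Q4 v := g.2 v v

theorem mulVec_ne_zero (g : Cfsg.isometryGroup (ZMod 2) Q4) {v : (Fin 1 ⊕ Fin 1) ⊕ Fin 2 → ZMod 2}
    (hv : v ≠ 0) : mat g *ᵥ v ≠ 0 := fun h => hv (by
  rw [← mat_inv_mulVec g v, h, Matrix.mulVec_zero])

/-- The action on the singular points. -/
noncomputable def act : Cfsg.isometryGroup (ZMod 2) Q4 →* Equiv.Perm Pt where
  toFun g :=
    { toFun := fun v => ⟨mat g *ᵥ v.1, (isometry_apply g v.1).trans v.2.1, mulVec_ne_zero g v.2.2⟩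
      invFun := fun v => ⟨mat g⁻¹ *ᵥ v.1, (isometry_apply g⁻¹ v.1).trans v.2.1, mulVec_ne_zero g⁻¹ v.2.2⟩
      left_inv := fun v => Subtype.ext (mat_inv_mulVec g v.1)
      right_inv := fun v => Subtype.ext (mat_mulVec_inv g v.1) }
  map_one' := Equiv.ext fun v => Subtype.ext
    (show mat 1 *ᵥ v.1 = v.1 by rw [mat_one, Matrix.one_mulVec])
  map_mul' g h := Equiv.ext fun v => Subtype.ext
    (show mat (g * h) *ᵥ v.1 = mat g *ᵥ (mat h *ᵥ v.1) by rw [mat_mul, Matrix.mulVec_mulVec])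

/-- The transvection `v₀ ↦ v₀ + v₁`. -/
def tv : Matrix ((Fin 1 ⊕ Fin 1) ⊕ Fin 2) ((Fin 1 ⊕ Fin 1) ⊕ Fin 2) (ZMod 2) :=
  fun i j => if i = j then 1 else if i = Sum.inr 0 ∧ j = Sum.inr 1 then 1 else 0

theorem tv_sq : tv * tv = 1 := by decide +kernel

theorem tv_isometry : ∀ v, Q4 (tv *ᵥ v) = Q4 v := by decide +kernel

/-- The transvection in the isometry group. -/
def tvIso : Cfsg.isometryGroup (ZMod 2) Q4 :=
  ⟨⟨tv, tv, tv_sq, tv_sq⟩, fun v _ => tv_isometry v⟩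

/-- The two singular points it interchanges. -/
def pa : (Fin 1 ⊕ Fin 1) ⊕ Fin 2 → ZMod 2 := Sum.elim (fun _ => 1) ![0, 1]

/-- The second of them. -/
def pb : (Fin 1 ⊕ Fin 1) ⊕ Fin 2 → ZMod 2 := fun _ => 1

theorem pa_pt : (Q4 pa = 0 ∧ pa ≠ 0) ∧ (Q4 pb = 0 ∧ pb ≠ 0) ∧ pa ≠ pb := by decide +kernel

theorem tv_swap : ∀ v, Q4 v = 0 → v ≠ 0 → tv *ᵥ v = if v = pa then pb else if v = pb then pa else v := by
  decide +kernel

theorem omega_ne_top : Cfsg.Omega (ZMod 2) Q4 ≠ ⊤ := by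
  intro h
  classical
  let f : Cfsg.isometryGroup (ZMod 2) Q4 →* ℤˣ := Equiv.Perm.sign.comp act
  have hle := Abelianization.commutator_subset_ker f
  have hmem : tvIso ∈ f.ker := hle (h ▸ Subgroup.mem_top _ : tvIso ∈ Cfsg.Omega (ZMod 2) Q4)
  obtain ⟨h1, h2, hne⟩ := pa_pt
  set a : Pt := ⟨pa, h1⟩
  set b : Pt := ⟨pb, h2⟩
  have hab : a ≠ b := fun e => hne (congrArg Subtype.val e)
  have : act tvIso = Equiv.swap a b := Equiv.ext fun v => Subtype.ext (by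
    show tv *ᵥ v.1 = _
    rw [tv_swap v.1 v.2.1 v.2.2, Equiv.swap_apply_def]
    simp only [Subtype.ext_iff, a, b]
    split_ifs <;> rfl)
  have hf : f tvIso = -1 := by
    show Equiv.Perm.sign (act tvIso) = -1
    rw [this, Equiv.Perm.sign_swap hab]
  rw [MonoidHom.mem_ker.1 hmem] at hf
  exact absurd hf (by decide)

theorem card_omega : Nat.card (Cfsg.Omega (ZMod 2) Q4) = 60 := by
  have hiso : Nat.card (Cfsg.isometryGroup (ZMod 2) Q4) = 120 := by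
    have h := Cfsg.Agent.Lib.OrthStd.card_orth_minus (F := ZMod 2) (q := 2) (ZMod.card 2) 2 (by norm_num)
      (a := 1) (b := 1) (by decide +kernel)
    simpa using h
  haveI : Fintype (GaloisField 2 2) := Fintype.ofFinite _
  obtain ⟨e⟩ := Cfsg.Agent.S0300.result (F := ZMod 2) (K := GaloisField 2 2) (q := 2) (ZMod.card 2)
    (by rw [← Nat.card_eq_fintype_card, GaloisField.card 2 2 two_ne_zero]) 1 1 (by decide +kernel)
  have hpsl : Nat.card (Matrix.ProjectiveSpecialLinearGroup (Fin 2) (GaloisField 2 2)) = 60 := by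
    have hc : Fintype.card (GaloisField 2 2) = 4 := by
      rw [← Nat.card_eq_fintype_card, GaloisField.card 2 2 two_ne_zero]; rfl
    rw [Cfsg.Agent.Lib.Linear.card_PSL_two_of_even (by rw [hc]; decide), hc]
  have hP : Nat.card (Cfsg.POmega (ZMod 2) Q4) = 60 := (Nat.card_congr e.toEquiv).trans hpsl
  have hdvd : 60 ∣ Nat.card (Cfsg.Omega (ZMod 2) Q4) := by
    rw [← hP]
    exact Subgroup.card_quotient_dvd_card _
  have h120 : Nat.card (Cfsg.Omega (ZMod 2) Q4) ∣ 120 := hiso ▸ Subgroup.card_subgroup_dvd_card _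
  have hne : Nat.card (Cfsg.Omega (ZMod 2) Q4) ≠ 120 := fun h =>
    omega_ne_top (Subgroup.eq_top_of_card_eq _ (h.trans hiso.symm))
  have h0 : 0 < Nat.card (Cfsg.Omega (ZMod 2) Q4) := Nat.card_pos
  have hle := Nat.le_of_dvd (by norm_num) h120
  omega

end Cfsg.Agent.Lib.HallJanko.OmegaFour
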