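import Mathlib
import Cfsg.Prelude.Def_Local
import Cfsg.Prelude.Def_MonsterType
import Cfsg.Agent.Lib.Components.GenFitting
import Cfsg.Agent.Lib.Involutions.Basic
import Cfsg.Agent.Lib.LargeExtra.TwoConjugate
import Cfsg.Agent.Lib.FusionP3.GenExtra.Iso
import Cfsg.Agent.Lib.HallJanko.Omega
import Cfsg.Agent.Lib.HallJanko.Cent

/-!
# Hall-Janko type: the setting of the statements

Owner: helper99.
-/

set_option autoImplicit false
set_option linter.style.haveILetI false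

namespace Cfsg.Agent.Lib.HallJanko

open Cfsg.Agent.Lib.LargeExtraspecial.Basic Cfsg.Agent.Lib.HallJanko.Model

variable {G : Type*} [Group G]

/-- A group of Hall-Janko type, with the five points and an involution not conjugate to `z`. -/
structure Setting (z : G) (Q : Subgroup G) (u : Fin 5 → G) (t : G) : Prop extends Five z Q u where
  tmem : t ∈ Subgroup.centralizer ({z} : Set G)
  tsq : t * t = 1
  tnot : t ∉ Q
  nconj : ¬ IsConj z t
  classes : ∀ x : G, orderOf x = 2 → IsConj z x ∨ IsConj t x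

namespace Five

variable [Finite G] {z : G} {Q : Subgroup G} {u : Fin 5 → G}

theorem isPGroup_Q (h : Five z Q u) : IsPGroup 2 Q :=
  IsPGroup.of_card (n := 5) (by rw [h.card]; norm_num)

/-- A Sylow `2`-subgroup of `C(z)` is one of `G`, so every involution is conjugate into `C(z)`. -/
theorem exists_conj_mem (h : Five z Q u) {x : G} (hx : orderOf x = 2) :
    ∃ g : G, g * x * g⁻¹ ∈ Subgroup.centralizer ({z} : Set G) := by
  haveI : Fact (Nat.Prime 2) := ⟨Nat.prime_two⟩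
  set C := Subgroup.centralizer ({z} : Set G) with hC
  obtain ⟨S⟩ : Nonempty (Sylow 2 C) := inferInstance
  set T₀ := (S : Subgroup C).map C.subtype with hT₀
  have hT₀C : T₀ ≤ C := Subgroup.map_subtype_le _
  have hT₀p : IsPGroup 2 T₀ := S.2.map _
  obtain ⟨T, hT⟩ := hT₀p.exists_le_sylow
  have hQT : Q ≤ T₀ := by
    have hn : (Q.subgroupOf C).Normal := ⟨fun q hq c => h.norm c.1
      (h.toBase.commute_of_mem_centralizer c.2) q.1 hq⟩
    have hp : IsPGroup 2 (Q.subgroupOf C) :=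
      h.isPGroup_Q.of_equiv (Subgroup.subgroupOfEquivOfLe h.toBase.z_mem_centralizer).symm
    intro q hq
    exact ⟨⟨q, h.toBase.z_mem_centralizer hq⟩, hp.le_sylow_of_normal S hq, rfl⟩
  have hTC : (T : Subgroup G) ≤ C := by
    haveI : Group.IsNilpotent (T : Subgroup G) := T.2.isNilpotent
    by_contra hne
    have hlt : T₀.subgroupOf (T : Subgroup G) < ⊤ := by
      refine lt_top_iff_ne_top.2 fun e => hne ?_
      rw [Subgroup.subgroupOf_eq_top] at e
      exact e.trans hT₀C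
    obtain ⟨y, hyN, hy⟩ := SetLike.exists_of_lt (normalizerCondition_of_isNilpotent (T₀.subgroupOf (T : Subgroup G)) hlt)
    have hyc : ∀ a ∈ T₀, (y : G) * a * (y : G)⁻¹ ∈ T₀ := fun a ha =>
      (Subgroup.mem_normalizer_iff.1 hyN ⟨a, hT ha⟩).1 ha
    have hyinv : ∀ a ∈ T₀, (y : G)⁻¹ * a * (y : G) ∈ T₀ := fun a ha => by
      have := (Subgroup.mem_normalizer_iff.1 (inv_mem hyN) ⟨a, hT ha⟩).1 ha
      rw [inv_inv, Subgroup.mem_subgroupOf] at this
      simpa only [Subgroup.coe_mul, Subgroup.coe_inv] using this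
    set w := (y : G) * z * (y : G)⁻¹ with hw
    have hwc : ∀ q ∈ Q, Commute w q := fun q hq => by
      have h1 : Commute z ((y : G)⁻¹ * q * (y : G)) :=
        (h.toBase.commute_of_mem_centralizer (hT₀C (hyinv q (hQT hq)))).symm
      have h2 := h1.map (MulAut.conj (y : G))
      simpa [hw, mul_assoc] using h2
    have hwz : w = z := (h.self w hwc).resolve_left fun e => h.es.ne (by simpa [hw] using e)
    have hyC : (y : G) ∈ C := Subgroup.mem_centralizer_singleton_iff.2 (mul_inv_eq_iff_eq_mul.1 hwz)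
    have hle : (S : Subgroup C) ≤ ((T : Subgroup G) ⊓ C).subgroupOf C := fun a ha =>
      ⟨hT ⟨a, ha, rfl⟩, a.2⟩
    have hp : IsPGroup 2 (((T : Subgroup G) ⊓ C).subgroupOf C) :=
      (T.2.to_le inf_le_left).comap_of_injective _ C.subtype_injective
    have he := S.3 hp hle
    refine hy ?_
    exact ⟨⟨y, hyC⟩, he ▸ (⟨y.2, hyC⟩ : (⟨y, hyC⟩ : C) ∈ ((T : Subgroup G) ⊓ C).subgroupOf C), rfl⟩
  have hp : IsPGroup 2 (Subgroup.zpowers x) := IsPGroup.of_card (n := 1) (by rw [Nat.card_zpowers, hx, pow_one])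
  obtain ⟨T', hT'⟩ := hp.exists_le_sylow
  obtain ⟨g, hg⟩ := MulAction.exists_smul_eq G T' T
  refine ⟨g, hTC ?_⟩
  rw [← hg, Sylow.coe_subgroup_smul]
  exact ⟨x, hT' (Subgroup.mem_zpowers x), rfl⟩

/-- The involutions of `Q` are conjugate to `z`. -/
theorem isConj_of_mem (h : Five z Q u) {x : G} (hx : orderOf x = 2) (hxQ : x ∈ Q) : IsConj z x := by
  rcases h.singular hxQ (by rw [← pow_two, ← hx, pow_orderOf_eq_one]) with rfl | rfl | ⟨i, rfl | rfl⟩
  · rw [orderOf_one] at hx; omega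
  · exact IsConj.refl _
  · exact h.isConj i
  · have hne : u i ≠ z := fun e => allBut_ne_zero i (by rw [← h.phi_u, e, h.phi_z])
    have hne1 : u i ≠ 1 := fun e => allBut_ne_zero i (by rw [← h.phi_u, e, h.phi_one])
    obtain ⟨q, -, hq⟩ := h.es.exists_conj_ne (h.mem i) hne1 hne
    exact (h.isConj i).trans (isConj_iff.2 ⟨q, hq⟩)

theorem exists_setting (h : Five z Q u) (hcl : ∃ x y : G, orderOf x = 2 ∧ orderOf y = 2 ∧ ¬ IsConj x y) :
    ∃ t : G, Setting z Q u t := by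
  obtain ⟨x, y, hx, hy, hxy⟩ := hcl
  obtain ⟨x, hx, hxn⟩ : ∃ x : G, orderOf x = 2 ∧ ¬ IsConj z x := by
    by_contra hc
    simp only [not_exists, not_and, not_not] at hc
    exact hxy ((hc x hx).symm.trans (hc y hy))
  obtain ⟨g, hg⟩ := h.exists_conj_mem hx
  set t := g * x * g⁻¹ with ht
  have hc : IsConj x t := isConj_iff.2 ⟨g, rfl⟩
  have hto : orderOf t = 2 := (Cfsg.Agent.Lib.Involutions.Basic.orderOf_conj_eq g x).trans hx
  have htQ : t ∉ Q := fun e => hxn ((h.isConj_of_mem hto e).trans hc.symm)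
  have htsq : t * t = 1 := by rw [← pow_two, ← hto, pow_orderOf_eq_one]
  refine ⟨t, h, hg, htsq, htQ, fun e => hxn (e.trans hc.symm), fun w hw => ?_⟩
  obtain ⟨k, hk⟩ := h.exists_conj_mem hw
  have hwk : IsConj w (k * w * k⁻¹) := isConj_iff.2 ⟨k, rfl⟩
  have hko : orderOf (k * w * k⁻¹) = 2 := (Cfsg.Agent.Lib.Involutions.Basic.orderOf_conj_eq k w).trans hw
  by_cases hkQ : k * w * k⁻¹ ∈ Q
  · exact Or.inl ((h.isConj_of_mem hko hkQ).trans hwk.symm)
  · obtain ⟨-, c, -, hc'⟩ := h.sq_central hg htsq htQ hk hkQ (Or.inl (by rw [← pow_two, ← hko, pow_orderOf_eq_one]))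
    exact Or.inr ((isConj_iff.2 ⟨c, hc'⟩).trans hwk.symm)

end Five

theorem exists_setting_of [Finite G] (z : G) (hz : orderOf z = 2)
    (Q : Subgroup (Subgroup.centralizer ({z} : Set G))) [Q.Normal]
    (hF : Cfsg.generalizedFittingSubgroup (Subgroup.centralizer ({z} : Set G)) = Q)
    (hQ : Cfsg.IsExtraspecial 2 Q) (hcard : Nat.card Q = 2 ^ 5)
    (e : (Subgroup.centralizer ({z} : Set G)) ⧸ Q ≃* Cfsg.Omega (ZMod 2) (Cfsg.quadFormMinus 1 (ZMod 2) 1 1))
    (hnwc : ∃ g : G, (∃ hq : g * z * g⁻¹ ∈ Subgroup.centralizer ({z} : Set G),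
      (⟨g * z * g⁻¹, hq⟩ : Subgroup.centralizer ({z} : Set G)) ∈ Q) ∧ g * z * g⁻¹ ≠ z)
    (hcl : ∃ x y : G, orderOf x = 2 ∧ orderOf y = 2 ∧ ¬ IsConj x y) :
    ∃ (Q' : Subgroup G) (u : Fin 5 → G) (t : G), Setting z Q' u t := by
  haveI : Fact (Nat.Prime 2) := ⟨Nat.prime_two⟩
  set Q' := Q.map (Subgroup.centralizer ({z} : Set G)).subtype with hQ'
  have hQC : Q' ≤ (Subgroup.centralizer ({z} : Set G)) := Subgroup.map_subtype_le _
  have hself0 : Subgroup.centralizer (Q : Set (Subgroup.centralizer ({z} : Set G))) ≤ Q := by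
    have := Cfsg.Agent.Lib.Components.GenFitting.centralizer_le (G := (Subgroup.centralizer ({z} : Set G)))
    rwa [hF] at this
  have hzC : z ∈ (Subgroup.centralizer ({z} : Set G)) := Subgroup.mem_centralizer_singleton_iff.2 rfl
  have hzQ : (⟨z, hzC⟩ : (Subgroup.centralizer ({z} : Set G))) ∈ Q := hself0 (Subgroup.mem_centralizer_iff.2 fun q _ =>
    Subtype.ext (Subgroup.mem_centralizer_singleton_iff.1 q.2))
  have hEs : Cfsg.IsExtraspecial 2 Q' :=
    Cfsg.Agent.Lib.FusionP3.GenExtra.isExtraspecial_congr (Q.equivMapOfInjective _ (Subgroup.centralizer ({z} : Set G)).subtype_injective) hQ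
  have hcen : (Subgroup.center ↥Q').map Q'.subtype = Subgroup.zpowers z := by
    refine (Subgroup.eq_of_le_of_card_ge (Subgroup.zpowers_le.2 ?_) ?_).symm
    · exact Cfsg.Agent.Lib.LargeExtra.Basic.mem_centerMap.2 ⟨⟨_, hzQ, rfl⟩, fun y hy =>
        Subgroup.mem_centralizer_singleton_iff.1 (hQC hy)⟩
    · rw [Cfsg.Agent.Lib.LargeExtra.Basic.card_centerMap hEs, Nat.card_zpowers, hz]
  have hes := (Cfsg.Agent.Lib.LargeExtra.TwoConjugate.es_of hEs hcen).1
  have hb : Base z Q' := by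
    refine ⟨hz, hes, ?_, ?_, ?_, ?_, ?_⟩
    · rw [hQ', Subgroup.card_map_of_injective (Subgroup.centralizer ({z} : Set G)).subtype_injective, hcard]; norm_num
    · rw [← Subgroup.card_mul_index Q, Subgroup.index_eq_card, Nat.card_congr e.toEquiv, hcard,
        OmegaFour.card_omega]
      norm_num
    · rintro c hc q ⟨q', hq', rfl⟩
      exact ⟨⟨c, Subgroup.mem_centralizer_singleton_iff.2 hc⟩ * q' *
        ⟨c, Subgroup.mem_centralizer_singleton_iff.2 hc⟩⁻¹, Subgroup.Normal.conj_mem inferInstance q' hq' _, rfl⟩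
    · intro c hc
      have hcC : c ∈ (Subgroup.centralizer ({z} : Set G)) := Subgroup.mem_centralizer_singleton_iff.2 (hc z ⟨_, hzQ, rfl⟩).eq
      have h1 : (⟨c, hcC⟩ : (Subgroup.centralizer ({z} : Set G))) ∈ Q := hself0 (Subgroup.mem_centralizer_iff.2 fun q hq =>
        Subtype.ext (hc q ⟨q, hq, rfl⟩).eq.symm)
      exact hes.center c ⟨_, h1, rfl⟩ fun p hp => (hc p hp).symm
    · obtain ⟨g, ⟨hq, hgQ⟩, hgz⟩ := hnwc
      exact ⟨g, ⟨_, hgQ, rfl⟩, hgz⟩
  obtain ⟨u, hu⟩ := hb.exists_five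
  obtain ⟨t, ht⟩ := hu.exists_setting hcl
  exact ⟨Q', u, t, ht⟩

end Cfsg.Agent.Lib.HallJanko
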