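import Mathlib
import Cfsg.Agent.Lib.Involutions.Basic
import Cfsg.Agent.Lib.HallJanko.Setup

/-!
# Hall-Janko type: conjugates of `z` in `C(z)` and the pairs over `z`

Owner: helper99.
-/

set_option autoImplicit false
set_option linter.style.haveILetI false

namespace Cfsg.Agent.Lib.HallJanko

open Cfsg.Agent.Lib.LargeExtraspecial.Basic Cfsg.Agent.Lib.HallJanko.Model
open Cfsg.Agent.Lib.Involutions.Basic (invol_iff orderOf_conj_eq)

variable {G : Type*} [Group G] [Finite G] {z : G} {Q : Subgroup G} {u : Fin 5 → G} {t : G}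

namespace Five

theorem u_ne_one (h : Five z Q u) (i : Fin 5) : u i ≠ 1 :=
  fun e => allBut_ne_zero i (by rw [← h.phi_u, e, h.phi_one])

theorem u_ne_z (h : Five z Q u) (i : Fin 5) : u i ≠ z :=
  fun e => allBut_ne_zero i (by rw [← h.phi_u, e, h.phi_z])

theorem u_injective (h : Five z Q u) {i j : Fin 5} (e : u i = u j ∨ u i = u j * z) : i = j := by
  refine allBut_injective i j ?_
  rw [← h.phi_u i, ← h.phi_u j]
  rcases e with e | e
  · rw [e]
  · rw [e, h.phi_mul (h.mem j) h.es.mem, h.phi_z, add_zero]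

theorem u_mul_z_ne_one (h : Five z Q u) (i : Fin 5) : u i * z ≠ 1 :=
  fun e => h.u_ne_z i ((eq_inv_of_mul_eq_one_left e).trans h.es.zinv)

theorem u_mul_z_ne_z (h : Five z Q u) (i : Fin 5) : u i * z ≠ z :=
  fun e => h.u_ne_one i (mul_eq_right.1 e)

theorem z_comm (h : Five z Q u) {c : G} (hc : c ∈ Subgroup.centralizer ({z} : Set G)) : Commute z c :=
  (h.toBase.commute_of_mem_centralizer hc).symm

theorem uz_mul_self (h : Five z Q u) (i : Fin 5) : u i * z * (u i * z) = 1 := by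
  calc u i * z * (u i * z) = u i * (z * u i) * z := by group
    _ = u i * (u i * z) * z := by rw [((h.es.comm _ (h.mem i)).symm).eq]
    _ = (u i * u i) * (z * z) := by group
    _ = 1 := by rw [h.sq, h.es.sq, mul_one]

theorem isConj_uz (h : Five z Q u) (i : Fin 5) : IsConj z (u i * z) :=
  h.isConj_of_mem (invol_iff.2 ⟨h.uz_mul_self i, h.u_mul_z_ne_one i⟩)
    (mul_mem (h.mem i) h.es.mem)

/-- The ten non-central involutions of `Q`. -/
def sing (u : Fin 5 → G) (z : G) (p : Fin 5 × Bool) : G := if p.2 then u p.1 * z else u p.1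

theorem sing_injective (h : Five z Q u) : Function.Injective (sing u z) := by
  rintro ⟨i, b⟩ ⟨j, c⟩ e
  cases b <;> cases c <;> simp [sing] at e
  · rw [h.u_injective (Or.inl e)]
  · have := h.u_injective (Or.inr e); subst this
    exact absurd (mul_eq_left.1 e.symm) h.es.ne
  · have := h.u_injective (Or.inr e.symm); subst this
    exact absurd (mul_eq_left.1 e) h.es.ne
  · rw [h.u_injective (Or.inl e)]

end Five

namespace Setting

theorem involution_cases (h : Setting z Q u t) {x : G} (hx : orderOf x = 2)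
    (hxC : x ∈ Subgroup.centralizer ({z} : Set G)) : x ∈ Q ∨ IsConj t x := by
  by_cases hxQ : x ∈ Q
  · exact Or.inl hxQ
  · obtain ⟨-, c, -, hc⟩ := h.sq_central h.tmem h.tsq h.tnot hxC hxQ (Or.inl (invol_iff.1 hx).1)
    exact Or.inr (isConj_iff.2 ⟨c, hc⟩)

theorem orderOf_t (h : Setting z Q u t) : orderOf t = 2 :=
  invol_iff.2 ⟨h.tsq, fun e => h.tnot (e ▸ one_mem Q)⟩

theorem orderOf_of_isConj (h : Setting z Q u t) {x : G} (hx : IsConj z x) : orderOf x = 2 := by
  obtain ⟨g, rfl⟩ := isConj_iff.1 hx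
  rw [orderOf_conj_eq, h.ord]

theorem orderOf_of_isConj_t (h : Setting z Q u t) {x : G} (hx : IsConj t x) : orderOf x = 2 := by
  obtain ⟨g, rfl⟩ := isConj_iff.1 hx
  rw [orderOf_conj_eq, h.orderOf_t]

/-- `z^G ∩ C(z) ⊆ Q`. -/
theorem mem_Q (h : Setting z Q u t) {x : G} (hx : IsConj z x)
    (hxC : x ∈ Subgroup.centralizer ({z} : Set G)) : x ∈ Q :=
  (h.involution_cases (h.orderOf_of_isConj hx) hxC).resolve_right fun e => h.nconj (hx.trans e.symm)

/-- `z^G ∩ C(z)` consists of `z` and the ten non-central involutions of `Q`. -/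
theorem conj_cases_z (h : Setting z Q u t) {x : G} (hx : IsConj z x)
    (hxC : x ∈ Subgroup.centralizer ({z} : Set G)) :
    x = z ∨ ∃ p, x = Five.sing u z p := by
  have h2 := invol_iff.1 (h.orderOf_of_isConj hx)
  rcases h.singular (h.mem_Q hx hxC) h2.1 with e | e | ⟨i, e | e⟩
  · exact absurd e h2.2
  · exact Or.inl e
  · exact Or.inr ⟨(i, false), by simp [Five.sing, e]⟩
  · exact Or.inr ⟨(i, true), by simp [Five.sing, e]⟩

theorem isConj_sing (h : Setting z Q u t) (p : Fin 5 × Bool) : IsConj z (Five.sing u z p) := by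
  obtain ⟨i, b⟩ := p
  cases b
  · exact h.isConj i
  · exact h.toFive.isConj_uz i

theorem sing_mem (h : Setting z Q u t) (p : Fin 5 × Bool) : Five.sing u z p ∈ Q := by
  obtain ⟨i, b⟩ := p
  cases b
  · exact h.mem i
  · exact mul_mem (h.mem i) h.es.mem

theorem not_mem_of_isConj_t (h : Setting z Q u t) {x : G} (hx : IsConj t x) : x ∉ Q := fun e =>
  h.nconj ((h.isConj_of_mem (h.orderOf_of_isConj_t hx) e).trans hx.symm)

/-- `z` is in `⟨pq⟩` for a conjugate `p` of `z` and a conjugate `q` of `t` exactly when both centralise `z`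
and `q` moves the point of `p`. -/
theorem z_mem_zpowers_iff (h : Setting z Q u t) {p q : G} (hp : IsConj z p) (hq : IsConj t q) :
    z ∈ Subgroup.zpowers (p * q) ↔ q ∈ Subgroup.centralizer ({z} : Set G) ∧
      ∃ i : Fin 5 × Bool, p = Five.sing u z i ∧ h.pr q i.1 ≠ i.1 := by
  have hp2 := (invol_iff.1 (h.orderOf_of_isConj hp)).1
  have hq2 := (invol_iff.1 (h.orderOf_of_isConj_t hq)).1
  have hpi : p⁻¹ = p := inv_eq_of_mul_eq_one_right hp2
  have hqi : q⁻¹ = q := inv_eq_of_mul_eq_one_right hq2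
  have hqQ := h.not_mem_of_isConj_t hq
  constructor
  · intro hz
    obtain ⟨k, hk⟩ := Subgroup.mem_zpowers_iff.1 hz
    have hinv : ∀ a ∈ ({p, q} : Set G), a * (p * q) * a⁻¹ = (p * q)⁻¹ := by
      rintro a (rfl | rfl)
      · rw [mul_inv_rev, hqi, hpi, ← mul_assoc a a q, hp2, one_mul]
      · rw [mul_inv_rev, hqi, hpi, mul_assoc, mul_assoc p a a, hq2, mul_one]
    have hcom : ∀ a ∈ ({p, q} : Set G), a ∈ Subgroup.centralizer ({z} : Set G) := by
      intro a ha
      rw [Subgroup.mem_centralizer_singleton_iff]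
      refine mul_inv_eq_iff_eq_mul.1 ?_
      rw [← hk, ← conj_zpow, hinv a ha, inv_zpow, hk, h.es.zinv]
    have hpC := hcom p (by simp)
    have hqC := hcom q (by simp)
    refine ⟨hqC, ?_⟩
    have hne : z ≠ p * q := fun e => hqQ (by
      have : q = p * z := by rw [e, ← mul_assoc, hp2, one_mul]
      rw [this]; exact mul_mem (h.mem_Q hp hpC) h.es.mem)
    have hcomm : Commute p q → False := by
      intro hc
      have hsq : p * q * (p * q) = 1 := by
        rw [hc.eq, mul_assoc, ← mul_assoc p q p, hc.eq, mul_assoc q p p, hp2, mul_one, hq2]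
      obtain ⟨j, hj | hj⟩ := Int.even_or_odd' k
      · rw [hj, zpow_mul, zpow_two, hsq, one_zpow] at hk
        exact h.es.ne hk.symm
      · rw [hj, zpow_add, zpow_mul, zpow_two, hsq, one_zpow, zpow_one, one_mul] at hk
        exact hne hk.symm
    rcases h.conj_cases_z hp hpC with e | ⟨i, e⟩
    · exact (hcomm (e ▸ h.z_comm hqC)).elim
    · refine ⟨i, e, fun hfix => hcomm ?_⟩
      have hu := (h.orbit hqC hq2 hqQ).2.2 i.1 hfix
      obtain ⟨i, b⟩ := i
      subst e
      cases b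
      · exact hu
      · exact hu.mul_left (h.z_comm hqC)
  · rintro ⟨hqC, ⟨i, b⟩, rfl, hmove⟩
    have hcu : ∀ w : G, (w = u i ∨ w = u i * z) →
        w * q * (w * q) = u i * u (h.pr q i) ∨ w * q * (w * q) = u i * u (h.pr q i) * z := by
      intro w hw
      have e0 : w * q * (w * q) = w * (q * w * q⁻¹) := by rw [hqi]; group
      have hzq : q * z * q⁻¹ = z := mul_inv_eq_iff_eq_mul.2 (h.z_comm hqC).eq.symm
      have ez : ∀ a : G, u i * z * (a * z) = u i * (z * a) * z := fun a => by group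
      have hzu := (h.es.comm _ (h.mem (h.pr q i))).eq
      rw [e0]
      rcases hw with rfl | rfl
      · rcases h.conj_u hqC i with e | e <;> rw [e]
        · exact Or.inl rfl
        · exact Or.inr (mul_assoc _ _ _).symm
      · rw [show q * (u i * z) * q⁻¹ = q * u i * q⁻¹ * (q * z * q⁻¹) by group, hzq]
        rcases h.conj_u hqC i with e | e <;> rw [e]
        · left
          rw [ez, ← hzu, ← mul_assoc, h.toBase.mul_z_mul_z]
        · right
          rw [mul_assoc (u (h.pr q i)) z z, h.es.sq, mul_one, mul_assoc (u i) z, ← hzu, ← mul_assoc]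
    have hP : u i * u (h.pr q i) * (u i * u (h.pr q i)) = z := h.sq_mul (Ne.symm hmove)
    have hm := mul_mem (h.mem i) (h.mem (h.pr q i))
    have hfour : (Five.sing u z (i, b) * q) ^ (4 : ℤ) = z := by
      have hw : Five.sing u z (i, b) = u i ∨ Five.sing u z (i, b) = u i * z := by cases b <;> simp [Five.sing]
      rw [show (4 : ℤ) = 2 * 2 from rfl, zpow_mul, zpow_two, zpow_two]
      rcases hcu _ hw with e | e <;> rw [e]
      · exact hP
      · rw [show u i * u (h.pr q i) * z * (u i * u (h.pr q i) * z) =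
          u i * u (h.pr q i) * (z * (u i * u (h.pr q i))) * z by group, ← (h.es.comm _ hm).eq,
          ← mul_assoc, hP, h.es.sq, one_mul]
    have hmem := Subgroup.zpow_mem_zpowers (Five.sing u z (i, b) * q) (4 : ℤ)
    rwa [hfour] at hmem

/-- The number of pairs over `z`. -/
theorem card_pairs_z (h : Setting z Q u t) :
    Nat.card {p : G × G // IsConj z p.1 ∧ IsConj t p.2 ∧ z ∈ Subgroup.zpowers (p.1 * p.2)} = 960 := by
  classical
  let T := {q : G // q ∈ Subgroup.centralizer ({z} : Set G) ∧ IsConj t q}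
  let S : T → Type := fun q => {i : Fin 5 × Bool // h.pr q.1 i.1 ≠ i.1}
  haveI : Fintype T := Fintype.ofFinite T
  let f : (Σ q : T, S q) → {p : G × G // IsConj z p.1 ∧ IsConj t p.2 ∧ z ∈ Subgroup.zpowers (p.1 * p.2)} :=
    fun x => ⟨(Five.sing u z x.2.1, x.1.1), h.isConj_sing _, x.1.2.2,
      (h.z_mem_zpowers_iff (h.isConj_sing _) x.1.2.2).2 ⟨x.1.2.1, x.2.1, rfl, x.2.2⟩⟩
  have hf : Function.Bijective f := by
    constructor
    · rintro ⟨q, i⟩ ⟨q', i'⟩ e
      simp only [f, Subtype.mk.injEq, Prod.mk.injEq] at e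
      obtain ⟨e1, e2⟩ := e
      have hqq : q = q' := Subtype.ext e2
      subst hqq
      have : i = i' := Subtype.ext (h.sing_injective e1)
      rw [this]
    · rintro ⟨⟨p, q⟩, hp, hq, hz⟩
      obtain ⟨hqC, i, rfl, hi⟩ := (h.z_mem_zpowers_iff hp hq).1 hz
      exact ⟨⟨⟨q, hqC, hq⟩, ⟨i, hi⟩⟩, rfl⟩
  rw [← Nat.card_congr (Equiv.ofBijective f hf), Nat.card_sigma]
  have hS : ∀ q : T, Nat.card (S q) = 8 := by
    intro q
    have hqQ := h.not_mem_of_isConj_t q.2.2
    have hq2 := (invol_iff.1 (h.orderOf_of_isConj_t q.2.2)).1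
    have key : ∀ σ : Equiv.Perm (Fin 5), Equiv.Perm.sign σ = 1 → σ * σ = 1 → σ ≠ 1 →
        Fintype.card {i : Fin 5 × Bool // σ i.1 ≠ i.1} = 8 := by decide +kernel
    rw [Nat.card_eq_fintype_card]
    exact key _ (h.pr_sign q.2.1) (by rw [← h.pr_mul q.2.1 q.2.1, hq2, h.pr_of_mem (one_mem Q)])
      fun e => hqQ (h.mem_of_pr q.2.1 e)
  rw [Finset.sum_congr rfl fun q _ => hS q, Finset.sum_const, smul_eq_mul, Finset.card_univ,
    ← Nat.card_eq_fintype_card]
  suffices hT : Nat.card T = 120 by rw [hT]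
  let I := {σ : Equiv.Perm (Fin 5) // Equiv.Perm.sign σ = 1 ∧ σ * σ = 1 ∧ σ ≠ 1}
  let g : T → I := fun q => ⟨h.pr q.1, h.pr_sign q.2.1, by
    rw [← h.pr_mul q.2.1 q.2.1, (invol_iff.1 (h.orderOf_of_isConj_t q.2.2)).1, h.pr_of_mem (one_mem Q)],
    fun e => h.not_mem_of_isConj_t q.2.2 (h.mem_of_pr q.2.1 e)⟩
  rw [← Nat.card_congr (Equiv.sigmaFiberEquiv g), Nat.card_sigma]
  have hfib : ∀ σ : I, Nat.card {q : T // g q = σ} = 8 := by
    intro σ
    obtain ⟨g1, hg1, e1⟩ := invol_conj _ (h.pr_sign h.tmem)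
      (by rw [← h.pr_mul h.tmem h.tmem, h.tsq, h.pr_of_mem (one_mem Q)]) (fun e => h.tnot (h.mem_of_pr h.tmem e))
    obtain ⟨g2, hg2, e2⟩ := invol_conj σ.1 σ.2.1 σ.2.2.1 σ.2.2.2
    obtain ⟨c, hc, hcg⟩ := h.exists_lift (g2 * g1⁻¹) (by rw [map_mul, map_inv, hg1, hg2]; simp)
    set t₁ := c * t * c⁻¹ with ht1
    have ht1C : t₁ ∈ Subgroup.centralizer ({z} : Set G) := mul_mem (mul_mem hc h.tmem) (inv_mem hc)
    have ht1conj : IsConj t t₁ := isConj_iff.2 ⟨c, rfl⟩
    have hpr : h.pr t₁ = σ.1 := by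
      rw [h.pr_mul (mul_mem hc h.tmem) (inv_mem hc), h.pr_mul hc h.tmem, h.pr_inv hc, hcg]
      calc g2 * g1⁻¹ * h.pr t * (g2 * g1⁻¹)⁻¹ = g2 * g1⁻¹ * (h.pr t * g1) * g2⁻¹ := by group
        _ = g2 * (Equiv.swap 0 1 * Equiv.swap 2 3) * g2⁻¹ := by rw [← e1]; group
        _ = σ.1 := by rw [e2]; group
    have ht12 := (invol_iff.1 (h.orderOf_of_isConj_t ht1conj)).1
    have ht1Q := h.not_mem_of_isConj_t ht1conj
    obtain ⟨horb, -, -⟩ := h.orbit ht1C ht12 ht1Q
    obtain ⟨hfix4, -⟩ := invol_facts σ.1 σ.2.1 σ.2.2.1 σ.2.2.2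
    have h8 : Nat.card (h.fixSub σ.1) = 8 := by rw [h.card_fixSub, hfix4]
    rw [← h8]
    have hlift : ∀ a : h.fixSub σ.1, t₁ * a.1 ∈ Subgroup.centralizer ({z} : Set G) ∧ IsConj t (t₁ * a.1) ∧
        h.pr (t₁ * a.1) = σ.1 := by
      intro a
      obtain ⟨r, hr, hra⟩ := horb a.1 (by rw [hpr]; exact a.2)
      refine ⟨mul_mem ht1C (h.toBase.z_mem_centralizer a.2.1), ht1conj.trans (isConj_iff.2 ⟨r, hra⟩), ?_⟩
      rw [h.pr_mul ht1C (h.toBase.z_mem_centralizer a.2.1), h.pr_of_mem a.2.1, mul_one, hpr]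
    refine (Nat.card_congr (Equiv.ofBijective (fun a : h.fixSub σ.1 =>
      (⟨⟨t₁ * a.1, (hlift a).1, (hlift a).2.1⟩, Subtype.ext (hlift a).2.2⟩ : {q : T // g q = σ}))
      ⟨fun a b e => Subtype.ext (mul_left_cancel (congrArg (fun x => x.1.1) e)), fun q => ?_⟩)).symm
    have hqpr : h.pr q.1.1 = σ.1 := congrArg Subtype.val q.2
    have hq2 := (invol_iff.1 (h.orderOf_of_isConj_t q.1.2.2)).1
    have hqQ' : t₁ * q.1.1 ∈ Q := h.mem_of_pr (mul_mem ht1C q.1.2.1)
      (by rw [h.pr_mul ht1C q.1.2.1, hpr, hqpr, σ.2.2.1])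
    have hfix : t₁ * q.1.1 ∈ h.fixSub σ.1 := by
      refine ⟨hqQ', fun k => ?_⟩
      have hti : t₁⁻¹ = t₁ := inv_eq_of_mul_eq_one_right ht12
      have e : t₁ * (t₁ * q.1.1) * t₁⁻¹ = (t₁ * q.1.1)⁻¹ := by
        rw [← mul_assoc t₁ t₁, ht12, one_mul, mul_inv_rev t₁ q.1.1, inv_eq_of_mul_eq_one_right hq2]
      have h1 := h.phi_pr ht1C hqQ' k
      rwa [e, h.phi_inv hqQ', hpr] at h1
    exact ⟨⟨_, hfix⟩, Subtype.ext (Subtype.ext (by
      show t₁ * (t₁ * q.1.1) = q.1.1
      rw [← mul_assoc, ht12, one_mul]))⟩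
  rw [Finset.sum_congr rfl fun σ _ => hfib σ, Finset.sum_const, smul_eq_mul, Finset.card_univ, card_invol]

end Setting

end Cfsg.Agent.Lib.HallJanko
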