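import Mathlib
import Cfsg.Agent.Lib.Involutions.Basic
import Cfsg.Agent.Lib.HallJanko.Pairs

/-!
# Hall-Janko type: the Sylow `2`-subgroup `A = C(z) ∩ C(t)` of `C(t)`

Owner: helper99.
-/

set_option autoImplicit false
set_option linter.style.haveILetI false

namespace Cfsg.Agent.Lib.HallJanko

open Cfsg.Agent.Lib.LargeExtraspecial.Basic Cfsg.Agent.Lib.HallJanko.Model
open Cfsg.Agent.Lib.Involutions.Basic (invol_iff orderOf_conj_eq)

variable {G : Type*} [Group G]

/-- `C(z) ∩ C(t)`. -/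
abbrev cA (z t : G) : Subgroup G :=
  Subgroup.centralizer ({z} : Set G) ⊓ Subgroup.centralizer ({t} : Set G)

variable [Finite G] {z : G} {Q : Subgroup G} {u : Fin 5 → G} {t : G}

theorem mem_centralizer_of_commute {x c : G} (h : Commute c x) :
    c ∈ Subgroup.centralizer ({x} : Set G) := Subgroup.mem_centralizer_singleton_iff.2 h.eq

theorem commute_of_mem {x c : G} (h : c ∈ Subgroup.centralizer ({x} : Set G)) : Commute c x :=
  Subgroup.mem_centralizer_singleton_iff.1 h

namespace Setting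

/-- The point fixed by `t`. -/
noncomputable def pt (h : Setting z Q u t) : Fin 5 :=
  (invol_facts (h.pr t) (h.pr_sign h.tmem)
    (by rw [← h.pr_mul h.tmem h.tmem, h.tsq, h.pr_of_mem (one_mem Q)])
    (fun e => h.tnot (h.mem_of_pr h.tmem e))).2.choose

theorem pt_spec (h : Setting z Q u t) :
    h.pr t h.pt = h.pt ∧ ∀ j, h.pr t j = j → j = h.pt := by
  obtain ⟨a, b, h1, h2, -⟩ := (invol_facts (h.pr t) (h.pr_sign h.tmem)
    (by rw [← h.pr_mul h.tmem h.tmem, h.tsq, h.pr_of_mem (one_mem Q)])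
    (fun e => h.tnot (h.mem_of_pr h.tmem e))).2.choose_spec
  exact ⟨h1, h2⟩

theorem a_commute_t (h : Setting z Q u t) : Commute (u h.pt) t :=
  (h.orbit h.tmem h.tsq h.tnot).2.2 _ h.pt_spec.1

theorem z_mem_A (h : Setting z Q u t) : z ∈ cA z t :=
  ⟨mem_centralizer_of_commute (Commute.refl z), mem_centralizer_of_commute (h.z_comm h.tmem)⟩

theorem a_mem_A (h : Setting z Q u t) : u h.pt ∈ cA z t :=
  ⟨h.toBase.z_mem_centralizer (h.mem _), mem_centralizer_of_commute h.a_commute_t⟩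

theorem t_mem_A (h : Setting z Q u t) : t ∈ cA z t :=
  ⟨h.tmem, mem_centralizer_of_commute (Commute.refl t)⟩

theorem card_A (h : Setting z Q u t) : Nat.card (cA z t) = 16 :=
  (h.cent_invol h.tmem h.tsq h.tnot).1

theorem sq_A (h : Setting z Q u t) : ∀ x ∈ cA z t, x * x = 1 :=
  (h.cent_invol h.tmem h.tsq h.tnot).2

theorem comm_A (h : Setting z Q u t) {x y : G} (hx : x ∈ cA z t) (hy : y ∈ cA z t) : Commute x y :=
  commute_of_sq h.sq_A hx hy

/-- The conjugates of `z` in `A`. -/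
theorem conj_cases_A (h : Setting z Q u t) {w : G} (hw : IsConj z w) (hwA : w ∈ cA z t) :
    w = z ∨ w = u h.pt ∨ w = u h.pt * z := by
  rcases h.conj_cases_z hw hwA.1 with e | ⟨⟨j, b⟩, e⟩
  · exact Or.inl e
  · right
    have hcj : Commute (u j) t := by
      subst e
      cases b
      · exact commute_of_mem hwA.2
      · have h1 : Commute (u j * z) t := commute_of_mem hwA.2
        have h2 := h1.mul_left (h.z_comm h.tmem)
        rwa [mul_assoc, h.es.sq, mul_one] at h2
    have hj : j = h.pt := by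
      refine h.pt_spec.2 j ((h.toFive.u_injective ?_).symm)
      have hc : t * u j * t⁻¹ = u j := mul_inv_eq_iff_eq_mul.2 hcj.eq.symm
      rcases h.conj_u h.tmem j with e' | e' <;> rw [hc] at e'
      · exact Or.inl e'
      · exact Or.inr e'
    subst hj
    subst e
    cases b
    · exact Or.inl rfl
    · exact Or.inr rfl

theorem isConj_of_cases (h : Setting z Q u t) {w : G} (hw : w = z ∨ w = u h.pt ∨ w = u h.pt * z) :
    IsConj z w ∧ w ∈ cA z t := by
  rcases hw with rfl | rfl | rfl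
  · exact ⟨IsConj.refl _, h.z_mem_A⟩
  · exact ⟨h.isConj _, h.a_mem_A⟩
  · exact ⟨h.toFive.isConj_uz _, mul_mem h.a_mem_A h.z_mem_A⟩

/-- A conjugate of `z` commuting with `t` has centralizer of order `16` in `C(t)`, elementary abelian. -/
theorem cent_conj (h : Setting z Q u t) {w : G} (hw : IsConj z w) (hwt : Commute w t) :
    Nat.card (cA w t) = 16 ∧ ∀ x ∈ cA w t, x * x = 1 := by
  obtain ⟨g, hg⟩ := isConj_iff.1 hw
  set t' := g⁻¹ * t * g with ht'
  have htg : g * t' * g⁻¹ = t := by rw [ht']; group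
  have htC : t' ∈ Subgroup.centralizer ({z} : Set G) := mem_centralizer_of_commute (by
    have h2 := hwt.symm.map (MulAut.conj g⁻¹)
    have hz' : g⁻¹ * w * g = z := by rw [← hg]; group
    simpa [ht', hz', mul_assoc] using h2)
  have hconj : IsConj t t' := (isConj_iff.2 ⟨g, htg⟩).symm
  obtain ⟨h16, hsq⟩ := h.cent_invol htC (invol_iff.1 (h.orderOf_of_isConj_t hconj)).1
    (h.not_mem_of_isConj_t hconj)
  have hmap : (cA z t').map (MulAut.conj g).toMonoidHom = cA w t := by
    ext x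
    rw [Subgroup.mem_map_equiv, Subgroup.mem_inf, Subgroup.mem_inf]
    simp only [Subgroup.mem_centralizer_singleton_iff, MulAut.conj_symm_apply]
    have key : ∀ a b : G, g * a * g⁻¹ = b → ((g⁻¹ * x * g) * a = a * (g⁻¹ * x * g) ↔ x * b = b * x) := by
      intro a b hab
      subst hab
      constructor <;> intro he
      · calc x * (g * a * g⁻¹) = g * ((g⁻¹ * x * g) * a) * g⁻¹ := by group
          _ = g * (a * (g⁻¹ * x * g)) * g⁻¹ := by rw [he]
          _ = g * a * g⁻¹ * x := by group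
      · calc g⁻¹ * x * g * a = g⁻¹ * (x * (g * a * g⁻¹)) * g := by group
          _ = g⁻¹ * (g * a * g⁻¹ * x) * g := by rw [he]
          _ = a * (g⁻¹ * x * g) := by group
    rw [key z w hg, key t' t htg]
  refine ⟨?_, fun x hx => ?_⟩
  · rw [← hmap, Subgroup.card_map_of_injective (f := (MulAut.conj g).toMonoidHom) (MulAut.conj g).injective, h16]
  · rw [← hmap] at hx
    obtain ⟨y, hy, rfl⟩ := hx
    rw [← map_mul, hsq y hy, map_one]

theorem cA_eq (h : Setting z Q u t) {w : G} (hw : w = z ∨ w = u h.pt ∨ w = u h.pt * z) :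
    cA w t = cA z t := by
  obtain ⟨hwz, hwA⟩ := h.isConj_of_cases hw
  obtain ⟨h16, -⟩ := h.cent_conj hwz (commute_of_mem hwA.2)
  exact (Subgroup.eq_of_le_of_card_ge (H := cA z t) (K := cA w t) (fun x hx => Subgroup.mem_inf.2 ⟨mem_centralizer_of_commute (h.comm_A hx hwA), hx.2⟩)
    (by rw [h16, h.card_A])).symm

/-- An odd order subgroup of `C(t)` normalised by `z` and `u pt` is trivial. -/
theorem odd_trivial (h : Setting z Q u t) (K : Subgroup G)
    (hK : K ≤ Subgroup.centralizer ({t} : Set G)) (hodd : Odd (Nat.card K))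
    (hzn : ∀ k ∈ K, z * k * z⁻¹ ∈ K) (han : ∀ k ∈ K, u h.pt * k * (u h.pt)⁻¹ ∈ K) : K = ⊥ := by
  have hfix : ∀ w, (w = z ∨ w = u h.pt ∨ w = u h.pt * z) → ∀ k ∈ K, w * k * w⁻¹ = k → k = 1 := by
    intro w hw k hk hc
    have hkA : k ∈ cA w t := ⟨mem_centralizer_of_commute (mul_inv_eq_iff_eq_mul.1 hc).symm, hK hk⟩
    rw [h.cA_eq hw] at hkA
    refine orderOf_eq_one_iff.1 ?_
    have h1 : orderOf k ∣ 2 := orderOf_dvd_of_pow_eq_one (by rw [pow_two, h.sq_A k hkA])
    have h2 : Odd (orderOf k) := hodd.of_dvd_nat (Subgroup.orderOf_dvd_natCard K hk)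
    rcases (Nat.dvd_prime Nat.prime_two).1 h1 with e | e
    · exact e
    · rw [e] at h2; exact absurd h2 (by decide)
  have hz := Cfsg.Agent.Lib.LargeExtra.Basic.inverts_of_fixedPointFree h.es.sq K hzn (hfix z (Or.inl rfl))
  have ha := Cfsg.Agent.Lib.LargeExtra.Basic.inverts_of_fixedPointFree (h.sq h.pt) K han
    (hfix _ (Or.inr (Or.inl rfl)))
  refine (Subgroup.eq_bot_iff_forall K).2 fun k hk => hfix _ (Or.inr (Or.inr rfl)) k hk ?_
  calc u h.pt * z * k * (u h.pt * z)⁻¹ = u h.pt * (z * k * z⁻¹) * (u h.pt)⁻¹ := by group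
    _ = (u h.pt * k * (u h.pt)⁻¹)⁻¹ := by rw [hz k hk]; group
    _ = k := by rw [ha k hk, inv_inv]

theorem mem_A_of_fix (h : Setting z Q u t) {y w : G} (hy : y ∈ Subgroup.centralizer ({t} : Set G))
    (hw : w = z ∨ w = u h.pt ∨ w = u h.pt * z) (he : y * w * y⁻¹ = w) : y ∈ cA z t := by
  rw [← h.cA_eq hw]
  exact ⟨mem_centralizer_of_commute (mul_inv_eq_iff_eq_mul.1 he), hy⟩

theorem image_cases (h : Setting z Q u t) {y w : G}
    (hn : ∀ x ∈ cA z t, y * x * y⁻¹ ∈ cA z t) (hw : w = z ∨ w = u h.pt ∨ w = u h.pt * z) :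
    y * w * y⁻¹ = z ∨ y * w * y⁻¹ = u h.pt ∨ y * w * y⁻¹ = u h.pt * z := by
  obtain ⟨hwz, hwA⟩ := h.isConj_of_cases hw
  exact h.conj_cases_A (hwz.trans (isConj_iff.2 ⟨y, rfl⟩)) (hn w hwA)

/-- An element of `C(t)` normalising `A`, outside `A`, permutes the three conjugates of `z` in `A` cyclically. -/
theorem cube_mem (h : Setting z Q u t) {y : G} (hy : y ∈ Subgroup.centralizer ({t} : Set G))
    (hn : ∀ x ∈ cA z t, y * x * y⁻¹ ∈ cA z t) (hyA : y ∉ cA z t) :
    y ^ 3 ∈ cA z t ∧ y * z * y⁻¹ ≠ z := by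
  have hne : ∀ w, (w = z ∨ w = u h.pt ∨ w = u h.pt * z) → y * w * y⁻¹ ≠ w := fun w hw he =>
    hyA (h.mem_A_of_fix hy hw he)
  have hz1 := hne z (Or.inl rfl)
  refine ⟨?_, hz1⟩
  set w₁ := y * z * y⁻¹ with hw₁
  have hw1c := h.image_cases hn (Or.inl (rfl : z = z))
  rw [← hw₁] at hw1c
  set w₂ := y * w₁ * y⁻¹ with hw₂
  have hw2c := h.image_cases hn hw1c
  rw [← hw₂] at hw2c
  have h21 : w₂ ≠ w₁ := hne w₁ hw1c
  have hw3c := h.image_cases hn hw2c
  set w₃ := y * w₂ * y⁻¹ with hw₃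
  have h32 : w₃ ≠ w₂ := hne w₂ hw2c
  have h31 : w₃ ≠ w₁ → w₂ ≠ z → w₃ = z := by
    intro h31 h2z
    have hnd : w₁ ≠ z := hz1
    rcases hw1c with a | a | a <;> rcases hw2c with b | b | b <;> rcases hw3c with c | c | c <;>
      first
        | exact c
        | exact absurd a hnd
        | exact absurd b h2z
        | exact absurd (b.trans a.symm) h21
        | exact absurd (c.trans b.symm) h32
        | exact absurd (c.trans a.symm) h31
  have h2z : w₂ ≠ z := by
    intro e
    -- the third point would be fixed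
    have hu3 : ∃ w, (w = z ∨ w = u h.pt ∨ w = u h.pt * z) ∧ w ≠ z ∧ w ≠ w₁ := by
      rcases hw1c with a | a | a
      · exact absurd a hz1
      · exact ⟨u h.pt * z, Or.inr (Or.inr rfl), h.toFive.u_mul_z_ne_z _, fun e' => h.es.ne
          (mul_eq_left.1 (e'.trans a))⟩
      · exact ⟨u h.pt, Or.inr (Or.inl rfl), h.toFive.u_ne_z _, fun e' => h.es.ne
          (mul_eq_left.1 (e'.trans a).symm)⟩
    obtain ⟨w, hwc, hwz, hw1⟩ := hu3
    have him := h.image_cases hn hwc
    have hinj : ∀ a b : G, y * a * y⁻¹ = y * b * y⁻¹ → a = b := fun a b hab =>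
      mul_left_cancel (mul_right_cancel hab)
    have n1 : y * w * y⁻¹ ≠ w₁ := fun e' => hwz (hinj _ _ e')
    have n2 : y * w * y⁻¹ ≠ z := fun e' => hw1 (hinj _ _ (e'.trans e.symm))
    refine hne w hwc ?_
    rcases hw1c with a | a | a <;> rcases him with b | b | b <;> rcases hwc with c | c | c <;>
      first
        | exact b.trans c.symm
        | exact absurd a hz1
        | exact absurd b n2
        | exact absurd c hwz
        | exact absurd (b.trans a.symm) n1
        | exact absurd (c.trans a.symm) hw1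
  have h3 : w₃ = z := h31 (fun e => h2z (mul_left_cancel (mul_right_cancel (e.trans hw₁)))) h2z
  refine h.mem_A_of_fix (pow_mem hy 3) (Or.inl rfl) ?_
  calc y ^ 3 * z * (y ^ 3)⁻¹ = y * (y * (y * z * y⁻¹) * y⁻¹) * y⁻¹ := by rw [pow_three]; group
    _ = z := h3

/-- A `2`-subgroup of `C(t)` containing `A` is `A`. -/
theorem A_maximal (h : Setting z Q u t) {B : Subgroup G} (hB : IsPGroup 2 B)
    (hBt : B ≤ Subgroup.centralizer ({t} : Set G)) (hAB : cA z t ≤ B) : B = cA z t := by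
  haveI : Fact (Nat.Prime 2) := ⟨Nat.prime_two⟩
  refine le_antisymm ?_ hAB
  by_contra hne
  haveI : Group.IsNilpotent B := hB.isNilpotent
  have hlt : (cA z t).subgroupOf B < ⊤ := lt_top_iff_ne_top.2 fun e => hne (Subgroup.subgroupOf_eq_top.1 e)
  obtain ⟨y, hyN, hy⟩ := SetLike.exists_of_lt (normalizerCondition_of_isNilpotent _ hlt)
  have hn : ∀ x ∈ cA z t, (y : G) * x * (y : G)⁻¹ ∈ cA z t := fun x hx =>
    (Subgroup.mem_normalizer_iff.1 hyN ⟨x, hAB hx⟩).1 hx
  have hyA : (y : G) ∉ cA z t := hy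
  obtain ⟨h3, -⟩ := h.cube_mem (hBt y.2) hn hyA
  obtain ⟨k, hk⟩ := hB y
  have hcop : Nat.Coprime 3 (orderOf (y : G)) := by
    rw [Subgroup.orderOf_coe]
    exact (Nat.Coprime.pow_right k (by norm_num)).coprime_dvd_right (orderOf_dvd_of_pow_eq_one hk)
  obtain ⟨m, hm⟩ := exists_pow_eq_self_of_coprime hcop
  exact hyA (hm ▸ pow_mem h3 m)

/-- The number of cosets of `A` in its normalizer in `C(t)` is at most three. -/
theorem card_le_of_normal (h : Setting z Q u t)
    (hn : ∀ y ∈ Subgroup.centralizer ({t} : Set G), ∀ x ∈ cA z t, y * x * y⁻¹ ∈ cA z t) :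
    Nat.card (Subgroup.centralizer ({t} : Set G)) ≤ 48 := by
  classical
  set M := Subgroup.centralizer ({t} : Set G)
  let s : Finset G := {z, u h.pt, u h.pt * z}
  let f : M ⧸ (cA z t).subgroupOf M → s := fun q => Quotient.liftOn' q
    (fun y : M => (⟨(y : G) * z * (y : G)⁻¹, by
      simp only [s, Finset.mem_insert, Finset.mem_singleton]
      exact h.image_cases (hn y y.2) (Or.inl rfl)⟩ : s))
    (fun a b hab => by
      rw [QuotientGroup.leftRel_apply] at hab
      have hc : Commute ((a : G)⁻¹ * b) z := commute_of_mem hab.1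
      refine Subtype.ext ?_
      show (a : G) * z * (a : G)⁻¹ = b * z * (b : G)⁻¹
      calc (a : G) * z * (a : G)⁻¹ = (a : G) * (z * ((a : G)⁻¹ * b)) * (b : G)⁻¹ := by group
        _ = (a : G) * ((a : G)⁻¹ * b * z) * (b : G)⁻¹ := by rw [hc.eq]
        _ = b * z * (b : G)⁻¹ := by group)
  have hf : Function.Injective f := by
    intro p q hpq
    induction p using QuotientGroup.induction_on with
    | _ a =>
    induction q using QuotientGroup.induction_on with
    | _ b =>
      refine QuotientGroup.eq.2 (h.mem_A_of_fix (a⁻¹ * b).2 (Or.inl rfl) ?_)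
      have h1 : (a : G) * z * (a : G)⁻¹ = b * z * (b : G)⁻¹ := congrArg Subtype.val hpq
      show (a : G)⁻¹ * b * z * ((a : G)⁻¹ * b)⁻¹ = z
      rw [show (a : G)⁻¹ * b * z * ((a : G)⁻¹ * b)⁻¹ = (a : G)⁻¹ * (b * z * (b : G)⁻¹) * a by group, ← h1]
      group
  have hq : Nat.card (M ⧸ (cA z t).subgroupOf M) ≤ 3 := by
    refine (Nat.card_le_card_of_injective f hf).trans ?_
    rw [Nat.card_eq_fintype_card, Fintype.card_coe]
    exact Finset.card_le_three
  rw [← Subgroup.card_mul_index ((cA z t).subgroupOf M), Subgroup.index_eq_card,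
    Nat.card_congr (Subgroup.subgroupOfEquivOfLe (inf_le_right : cA z t ≤ M)).toEquiv, h.card_A]
  omega

end Setting

end Cfsg.Agent.Lib.HallJanko
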