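import Mathlib
import Cfsg.Agent.Lib.DihedralCentralizer.Klein
import Cfsg.Agent.Lib.Alternating.Aut
import Cfsg.Agent.Lib.HallJanko.Tcent
import Cfsg.Agent.Lib.HallJanko.Retract

/-!
# Hall-Janko type: `C(t) ≅ E₄ × A₅` unless it normalises `A`

Owner: helper99.
-/

set_option autoImplicit false
set_option linter.style.haveILetI false

namespace Cfsg.Agent.Lib.HallJanko

open Cfsg.Agent.Lib.LargeExtraspecial.Basic Cfsg.Agent.Lib.HallJanko.Model
open Cfsg.Agent.Lib.Involutions.Basic (invol_iff orderOf_conj_eq)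

variable {G : Type*} [Group G]

/-- `C(t)` is the product of a four-group `V ∋ t` and a copy `M₀` of `A₅` containing `z`. -/
structure TStr (z t : G) (V M0 : Subgroup G) : Prop where
  Vle : V ≤ Subgroup.centralizer ({t} : Set G)
  M0le : M0 ≤ Subgroup.centralizer ({t} : Set G)
  cardV : Nat.card V = 4
  Vsq : ∀ v ∈ V, v * v = 1
  tV : t ∈ V
  cardM0 : Nat.card M0 = 60
  iso : Nonempty (M0 ≃* alternatingGroup (Fin 5))
  comm : ∀ v ∈ V, ∀ m ∈ M0, Commute v m
  decomp : ∀ x ∈ Subgroup.centralizer ({t} : Set G), ∃ v ∈ V, ∃ m ∈ M0, x = v * m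
  disj : ∀ x ∈ V, x ∈ M0 → x = 1
  zM0 : z ∈ M0
  conj_iff : ∀ x ∈ Subgroup.centralizer ({t} : Set G), IsConj z x ↔ x ∈ M0 ∧ orderOf x = 2

set_option synthInstance.maxSize 4000 in
set_option synthInstance.maxHeartbeats 400000 in
theorem perm_five_centralizer : ∀ x : Equiv.Perm (Fin 5), Equiv.Perm.sign x = 1 → x * x = 1 → x ≠ 1 →
    ∀ y : Equiv.Perm (Fin 5), Equiv.Perm.sign y = 1 → y * y = 1 → y ≠ 1 → y ≠ x → x * y = y * x →
    ∀ σ : Equiv.Perm (Fin 5), σ * x = x * σ → σ * y = y * σ → σ = 1 ∨ σ = x ∨ σ = y ∨ σ = x * y := by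
  decide +kernel

theorem invol_conj_alt {H : Type*} [Group H] (e : H ≃* alternatingGroup (Fin 5)) {x y : H}
    (hx : x * x = 1) (hx1 : x ≠ 1) (hy : y * y = 1) (hy1 : y ≠ 1) : IsConj x y := by
  have key : ∀ a : H, a * a = 1 → a ≠ 1 → ∃ g : alternatingGroup (Fin 5),
      (g : Equiv.Perm (Fin 5)) * (Equiv.swap 0 1 * Equiv.swap 2 3) =
        (e a : Equiv.Perm (Fin 5)) * (g : Equiv.Perm (Fin 5)) := by
    intro a ha ha1
    obtain ⟨g, hg, hga⟩ := invol_conj (e a : Equiv.Perm (Fin 5))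
      (Equiv.Perm.mem_alternatingGroup.1 (e a).2)
      (by rw [← Subgroup.coe_mul, ← map_mul, ha, map_one]; rfl)
      (fun h1 => ha1 (e.injective (by rw [map_one]; exact Subtype.ext h1)))
    exact ⟨⟨g, Equiv.Perm.mem_alternatingGroup.2 hg⟩, hga⟩
  obtain ⟨g1, e1⟩ := key y hy hy1
  obtain ⟨g2, e2⟩ := key x hx hx1
  refine isConj_iff.2 ⟨e.symm (g1 * g2⁻¹), e.injective ?_⟩
  rw [map_mul, map_mul, map_inv, e.apply_symm_apply]
  refine Subtype.ext ?_
  rw [Subgroup.coe_mul, Subgroup.coe_mul, Subgroup.coe_inv, Subgroup.coe_mul, Subgroup.coe_inv]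
  calc (g1 : Equiv.Perm (Fin 5)) * (g2 : Equiv.Perm (Fin 5))⁻¹ * (e x : Equiv.Perm (Fin 5)) *
        ((g1 : Equiv.Perm (Fin 5)) * (g2 : Equiv.Perm (Fin 5))⁻¹)⁻¹
      = (g1 : Equiv.Perm (Fin 5)) * (g2 : Equiv.Perm (Fin 5))⁻¹ *
          ((e x : Equiv.Perm (Fin 5)) * g2) * (g1 : Equiv.Perm (Fin 5))⁻¹ := by group
    _ = (g1 : Equiv.Perm (Fin 5)) * (Equiv.swap 0 1 * Equiv.swap 2 3) * (g1 : Equiv.Perm (Fin 5))⁻¹ := by
        rw [← e2]; group
    _ = _ := by rw [e1]; group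

/-- An automorphism of `H ≅ A₅` fixing two commuting involutions and an element commuting with neither of
them, nor with their product, is trivial. -/
theorem aut_trivial {H : Type*} [Group H] (e : H ≃* alternatingGroup (Fin 5)) (c : MulAut H) {x y r : H}
    (hx : x * x = 1) (hx1 : x ≠ 1) (hy : y * y = 1) (hy1 : y ≠ 1) (hxy : y ≠ x) (hcomm : x * y = y * x)
    (cx : c x = x) (cy : c y = y) (cr : c r = r) (hrx : x * r ≠ r * x) (hry : y * r ≠ r * y)
    (hrxy : x * y * r ≠ r * (x * y)) : ∀ a, c a = a := by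
  let ψ : MulAut (alternatingGroup (Fin 5)) := (e.symm.trans c).trans e
  obtain ⟨σ, hσ⟩ := Cfsg.Agent.Lib.Alternating.exists_conj_eq (α := Fin 5) (by simp) (by simp) ψ
  have hψ : ∀ a, ψ (e a) = e (c a) := fun a => by
    show e (c (e.symm (e a))) = e (c a)
    rw [e.symm_apply_apply]
  have hfix : ∀ a, c a = a → σ * (e a : Equiv.Perm (Fin 5)) = (e a : Equiv.Perm (Fin 5)) * σ := fun a ha => by
    have h1 := hσ (e a)
    rw [hψ, ha] at h1
    exact mul_inv_eq_iff_eq_mul.1 h1.symm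
  have hinv : ∀ a : H, a * a = 1 → a ≠ 1 → Equiv.Perm.sign (e a : Equiv.Perm (Fin 5)) = 1 ∧
      (e a : Equiv.Perm (Fin 5)) * e a = 1 ∧ (e a : Equiv.Perm (Fin 5)) ≠ 1 := fun a ha ha1 =>
    ⟨Equiv.Perm.mem_alternatingGroup.1 (e a).2, by rw [← Subgroup.coe_mul, ← map_mul, ha, map_one]; rfl,
      fun h1 => ha1 (e.injective (by rw [map_one]; exact Subtype.ext h1))⟩
  obtain ⟨s1, s2, s3⟩ := hinv x hx hx1
  obtain ⟨t1, t2, t3⟩ := hinv y hy hy1
  have hno : ∀ a : H, a * r ≠ r * a → σ ≠ (e a : Equiv.Perm (Fin 5)) := fun a ha hσa => by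
    have h1 := hfix r cr
    rw [hσa, ← Subgroup.coe_mul, ← Subgroup.coe_mul, ← map_mul, ← map_mul] at h1
    exact ha (e.injective (Subtype.ext h1))
  have hσ1 : σ = 1 := by
    rcases perm_five_centralizer _ s1 s2 s3 _ t1 t2 t3 (fun q => hxy (e.injective (Subtype.ext q)))
      (by rw [← Subgroup.coe_mul, ← Subgroup.coe_mul, ← map_mul, ← map_mul, hcomm])
      σ (hfix x cx) (hfix y cy) with q | q | q | q
    · exact q
    · exact absurd q (hno x hrx)
    · exact absurd q (hno y hry)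
    · exact absurd (by rw [q, map_mul]; rfl) (hno (x * y) hrxy)
  intro a
  have h1 := hσ (e a)
  rw [hψ, hσ1, one_mul, inv_one, mul_one] at h1
  exact e.injective (Subtype.ext h1)

variable [Finite G] {z : G} {Q : Subgroup G} {u : Fin 5 → G} {t : G}

namespace Setting

/-- An element of order three normalising `A` in `C(t)`. -/
structure Rho (z t : G) (r : G) : Prop where
  mem : r ∈ Subgroup.centralizer ({t} : Set G)
  cube : r ^ 3 = 1
  nA : r ∉ cA z t
  norm : ∀ x ∈ cA z t, r * x * r⁻¹ ∈ cA z t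

/-- A Sylow `2`-subgroup of `C(t)` is `A`. -/
theorem exists_sylow_A (h : Setting z Q u t) :
    ∃ S : Sylow 2 (Subgroup.centralizer ({t} : Set G)),
      (S : Subgroup (Subgroup.centralizer ({t} : Set G))) = (cA z t).subgroupOf _ := by
  haveI : Fact (Nat.Prime 2) := ⟨Nat.prime_two⟩
  have hAM : cA z t ≤ Subgroup.centralizer ({t} : Set G) := inf_le_right
  have hAp : IsPGroup 2 ((cA z t).subgroupOf (Subgroup.centralizer ({t} : Set G))) :=
    (IsPGroup.of_card (G := cA z t) (n := 4) (by rw [h.card_A]; norm_num)).of_equiv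
      (Subgroup.subgroupOfEquivOfLe hAM).symm
  obtain ⟨S, hS⟩ := hAp.exists_le_sylow
  refine ⟨S, ?_⟩
  have hp : IsPGroup 2 ((S : Subgroup _).map (Subgroup.centralizer ({t} : Set G)).subtype) := S.2.map _
  have h1 := h.A_maximal hp (Subgroup.map_subtype_le _) (fun x hx => ⟨⟨x, hAM hx⟩, hS hx, rfl⟩)
  exact (Subgroup.comap_map_eq_self_of_injective (Subgroup.subtype_injective _) _).symm.trans
    (congrArg (fun K => Subgroup.comap (Subgroup.centralizer ({t} : Set G)).subtype K) h1)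

theorem isMulCommutative_sylow (h : Setting z Q u t) (S : Sylow 2 (Subgroup.centralizer ({t} : Set G)))
    (hS : (S : Subgroup (Subgroup.centralizer ({t} : Set G))) = (cA z t).subgroupOf _) :
    IsMulCommutative (S : Subgroup (Subgroup.centralizer ({t} : Set G))) := by
  refine ⟨⟨fun a b => Subtype.ext (Subtype.ext ?_)⟩⟩
  have ha := hS.le a.2
  have hb := hS.le b.2
  rw [Subgroup.mem_subgroupOf] at ha hb
  exact (h.comm_A ha hb).eq

theorem normal_or_rho (h : Setting z Q u t) :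
    (∀ y ∈ Subgroup.centralizer ({t} : Set G), ∀ x ∈ cA z t, y * x * y⁻¹ ∈ cA z t) ∨ ∃ r, Rho z t r := by
  haveI : Fact (Nat.Prime 2) := ⟨Nat.prime_two⟩
  obtain ⟨S, hS⟩ := h.exists_sylow_A
  have hc := h.isMulCommutative_sylow S hS
  have hmem : ∀ x, x ∈ (S : Subgroup (Subgroup.centralizer ({t} : Set G))) ↔ (x : G) ∈ cA z t := fun x => by
    rw [hS]; rfl
  by_cases hN : Subgroup.normalizer ((S : Subgroup (Subgroup.centralizer ({t} : Set G))) : Set (Subgroup.centralizer ({t} : Set G))) ≤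
      (S : Subgroup (Subgroup.centralizer ({t} : Set G)))
  · left
    have hle : Subgroup.normalizer ((S : Subgroup (Subgroup.centralizer ({t} : Set G))) : Set (Subgroup.centralizer ({t} : Set G))) ≤
        Subgroup.centralizer ((S : Subgroup (Subgroup.centralizer ({t} : Set G))) : Set (Subgroup.centralizer ({t} : Set G))) :=
      fun n hn => Subgroup.mem_centralizer_iff.2 fun x hx => congrArg Subtype.val (hc.1.1 ⟨x, hx⟩ ⟨n, hN hn⟩)
    have hK := MonoidHom.ker_transferSylow_isComplement' S hle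
    have hodd := MonoidHom.not_dvd_card_ker_transferSylow S hle
    have hKn := MonoidHom.normal_ker (MonoidHom.transferSylow S hle)
    generalize (MonoidHom.transferSylow S hle).ker = K at hK hodd hKn
    have hmap : ∀ w : Subgroup.centralizer ({t} : Set G), ∀ k ∈ K.map (Subgroup.subtype _),
        (w : G) * k * (w : G)⁻¹ ∈ K.map (Subgroup.subtype _) := by
      rintro w _ ⟨k, hk, rfl⟩
      exact ⟨w * k * w⁻¹, hKn.conj_mem k hk w, rfl⟩
    have hKb := h.odd_trivial _ (Subgroup.map_subtype_le _)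
      (by rw [Subgroup.card_map_of_injective (Subgroup.subtype_injective _)]
          exact Nat.odd_iff.2 (Nat.two_dvd_ne_zero.1 hodd))
      (hmap ⟨z, h.z_mem_A.2⟩) (hmap ⟨u h.pt, h.a_mem_A.2⟩)
    rw [Subgroup.map_eq_bot_iff_of_injective _ (Subgroup.subtype_injective _)] at hKb
    have htop : (S : Subgroup (Subgroup.centralizer ({t} : Set G))) = ⊤ :=
      Subgroup.isComplement'_bot_left.1 (hKb ▸ hK)
    intro y hy x hx
    have hyA : y ∈ cA z t := (hmem ⟨y, hy⟩).1 (htop ▸ Subgroup.mem_top _)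
    exact mul_mem (mul_mem hyA hx) (inv_mem hyA)
  · right
    obtain ⟨n, hnN, hnS⟩ := SetLike.not_le_iff_exists.1 hN
    have hnA : (n : G) ∉ cA z t := fun e => hnS ((hmem n).2 e)
    have hnn : ∀ x ∈ cA z t, (n : G) * x * (n : G)⁻¹ ∈ cA z t := fun x hx =>
      (hmem _).1 ((Subgroup.mem_normalizer_iff.1 hnN ⟨x, hx.2⟩).1 ((hmem ⟨x, hx.2⟩).2 hx))
    obtain ⟨h3, -⟩ := h.cube_mem n.2 hnn hnA
    refine ⟨(n : G) ^ 4, pow_mem n.2 4, ?_, fun e => hnA ?_, ?_⟩
    · calc ((n : G) ^ 4) ^ 3 = (((n : G) ^ 3) * ((n : G) ^ 3)) ^ 2 := by group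
        _ = 1 := by rw [h.sq_A _ h3, one_pow]
    · rw [show (n : G) = (n : G) ^ 4 * ((n : G) ^ 3)⁻¹ by group]
      exact mul_mem e (inv_mem h3)
    · intro x hx
      rw [show (n : G) ^ 4 * x * ((n : G) ^ 4)⁻¹ =
        (n : G) * ((n : G) * ((n : G) * ((n : G) * x * (n : G)⁻¹) * (n : G)⁻¹) * (n : G)⁻¹) * (n : G)⁻¹ by
          simp only [pow_succ, pow_zero, one_mul, mul_inv_rev, mul_assoc]]
      exact hnn _ (hnn _ (hnn _ (hnn _ hx)))

theorem Rho.move (h : Setting z Q u t) {r : G} (hr : Rho z t r) {w : G}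
    (hw : w = z ∨ w = u h.pt ∨ w = u h.pt * z) : r * w * r⁻¹ ≠ w :=
  fun e => hr.nA (h.mem_A_of_fix hr.mem hw e)

/-- `ρ` permutes the three conjugates of `z` in `A` transitively. -/
theorem Rho.cycle (h : Setting z Q u t) {r : G} (hr : Rho z t r) {w : G}
    (hw : w = z ∨ w = u h.pt ∨ w = u h.pt * z) :
    w = z ∨ w = r * z * r⁻¹ ∨ w = r * (r * z * r⁻¹) * r⁻¹ := by
  have h1c := h.image_cases hr.norm (Or.inl (rfl : z = z))
  have h2c := h.image_cases hr.norm h1c
  have h10 := Rho.move h hr (Or.inl (rfl : z = z))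
  have h21 := Rho.move h hr h1c
  have h20 : r * (r * z * r⁻¹) * r⁻¹ ≠ z := fun e => h10 (by
    have h3 : r * (r * (r * z * r⁻¹) * r⁻¹) * r⁻¹ = z := by
      calc r * (r * (r * z * r⁻¹) * r⁻¹) * r⁻¹ = r ^ 3 * z * (r ^ 3)⁻¹ := by rw [pow_three]; group
        _ = z := by rw [hr.cube]; group
    rw [e] at h3; exact h3)
  rcases hw with a | a | a
  · exact Or.inl a
  · rcases h1c with b | b | b
    · exact absurd b h10
    · exact Or.inr (Or.inl (a.trans b.symm))
    · rcases h2c with c | c | c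
      · exact absurd c h20
      · exact Or.inr (Or.inr (a.trans c.symm))
      · exact absurd (c.trans b.symm) h21
  · rcases h1c with b | b | b
    · exact absurd b h10
    · rcases h2c with c | c | c
      · exact absurd c h20
      · exact absurd (c.trans b.symm) h21
      · exact Or.inr (Or.inr (a.trans c.symm))
    · exact Or.inr (Or.inl (a.trans b.symm))

theorem Rho.centralizes (h : Setting z Q u t) {r : G} (hr : Rho z t r) {n : G}
    (hn : n ∈ Subgroup.centralizer ({t} : Set G)) (hnn : ∀ x ∈ cA z t, n * x * n⁻¹ ∈ cA z t)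
    {v : G} (hv : v ∈ cA z t) (hvr : Commute v r) : Commute n v := by
  have hfix : ∀ y ∈ Subgroup.centralizer ({t} : Set G), y * z * y⁻¹ = z → Commute y v := fun y hy e =>
    h.comm_A (h.mem_A_of_fix hy (Or.inl rfl) e) hv
  rcases Rho.cycle h hr (h.image_cases hnn (Or.inl (rfl : z = z))) with e | e | e
  · exact hfix n hn e
  · have h1 := hfix (r⁻¹ * n) (mul_mem (inv_mem hr.mem) hn) (by
      rw [show r⁻¹ * n * z * (r⁻¹ * n)⁻¹ = r⁻¹ * (n * z * n⁻¹) * r by group, e]; group)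
    have h2 := hvr.symm.mul_left h1
    rwa [mul_inv_cancel_left] at h2
  · have h1 := hfix (r⁻¹ * r⁻¹ * n) (mul_mem (mul_mem (inv_mem hr.mem) (inv_mem hr.mem)) hn) (by
      rw [show r⁻¹ * r⁻¹ * n * z * (r⁻¹ * r⁻¹ * n)⁻¹ = r⁻¹ * (r⁻¹ * (n * z * n⁻¹) * r) * r by
        simp only [mul_inv_rev, inv_inv, mul_assoc], e]; group)
    have h2 := (hvr.symm.mul_left hvr.symm).mul_left h1
    rwa [show r * r * (r⁻¹ * r⁻¹ * n) = n by group] at h2

/-- `W = C_Q(t)` is a four-group, with involutions `z`, `u`, `u z`. -/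
theorem W_cases (h : Setting z Q u t) {x : G} (hx : x ∈ Q ⊓ Subgroup.centralizer ({t} : Set G)) :
    x = 1 ∨ x = z ∨ x = u h.pt ∨ x = u h.pt * z := by
  have hA : x ∈ cA z t := ⟨h.toBase.z_mem_centralizer hx.1, hx.2⟩
  by_cases hx1 : x = 1
  · exact Or.inl hx1
  · exact Or.inr (h.conj_cases_A (h.isConj_of_mem (invol_iff.2 ⟨h.sq_A x hA, hx1⟩) hx.1) hA)

theorem mem_W (h : Setting z Q u t) {x : G} (hx : x = z ∨ x = u h.pt ∨ x = u h.pt * z) :
    x ∈ Q ⊓ Subgroup.centralizer ({t} : Set G) := by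
  obtain ⟨hc, hA⟩ := h.isConj_of_cases hx
  exact ⟨h.mem_Q hc hA.1, hA.2⟩

theorem Rho.disj_W (h : Setting z Q u t) {r : G} (hr : Rho z t r) {x : G}
    (hxV : x ∈ cA z t ⊓ Subgroup.centralizer ({r} : Set G))
    (hxW : x ∈ Q ⊓ Subgroup.centralizer ({t} : Set G)) : x = 1 :=
  (h.W_cases hxW).resolve_right fun hc => Rho.move h hr hc
    (mul_inv_eq_iff_eq_mul.2 (commute_of_mem hxV.2).eq.symm)

theorem Rho.card_fixed (h : Setting z Q u t) {r : G} (hr : Rho z t r) :
    Nat.card (cA z t ⊓ Subgroup.centralizer ({r} : Set G) : Subgroup G) = 4 := by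
  classical
  set V := cA z t ⊓ Subgroup.centralizer ({r} : Set G) with hV
  set W := Q ⊓ Subgroup.centralizer ({t} : Set G) with hW
  have hW4 : Nat.card W = 4 := (h.orbit h.tmem h.tsq h.tnot).2.1
  have hle : Nat.card V * 4 ≤ 16 := by
    rw [← hW4, ← Nat.card_prod, ← h.card_A]
    refine Nat.card_le_card_of_injective (fun p : V × W =>
      (⟨p.1.1 * p.2.1, mul_mem p.1.2.1 ⟨h.toBase.z_mem_centralizer p.2.2.1, p.2.2.2⟩⟩ : cA z t)) ?_
    rintro ⟨v, w⟩ ⟨v', w'⟩ e
    have e' : v.1 * w.1 = v'.1 * w'.1 := congrArg Subtype.val e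
    have h1 : v'.1⁻¹ * v.1 = w'.1 * w.1⁻¹ := by
      rw [eq_mul_inv_iff_mul_eq, mul_assoc, e', inv_mul_cancel_left]
    have h2 := Rho.disj_W h hr (mul_mem (inv_mem v'.2) v.2) (h1 ▸ mul_mem w'.2 (inv_mem w.2))
    have hv : v = v' := Subtype.ext (inv_mul_eq_one.1 h2).symm
    subst hv
    exact Prod.ext rfl (Subtype.ext (mul_left_cancel e'))
  have hback : ∀ x ∈ cA z t, r⁻¹ * x * r ∈ cA z t := fun x hx => by
    have h3 : r * r = r⁻¹ := eq_inv_of_mul_eq_one_left (by rw [← hr.cube, pow_three, mul_assoc])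
    have h4 := hr.norm _ (hr.norm x hx)
    rwa [show r * (r * x * r⁻¹) * r⁻¹ = r * r * x * (r * r)⁻¹ by group, h3, inv_inv] at h4
  let σ : Equiv.Perm (cA z t) :=
    { toFun := fun x => ⟨r * x * r⁻¹, hr.norm x x.2⟩
      invFun := fun x => ⟨r⁻¹ * x * r, hback x x.2⟩
      left_inv := fun x => Subtype.ext (by show r⁻¹ * (r * x * r⁻¹) * r = x; group)
      right_inv := fun x => Subtype.ext (by show r * (r⁻¹ * x * r) * r⁻¹ = x; group) }
  have hσ3 : σ ^ 3 = 1 := Equiv.ext fun x => Subtype.ext (by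
    show r * (r * (r * (x : G) * r⁻¹) * r⁻¹) * r⁻¹ = x
    calc _ = r ^ 3 * x * (r ^ 3)⁻¹ := by rw [pow_three]; group
      _ = x := by rw [hr.cube]; group)
  haveI : Fintype (cA z t) := Fintype.ofFinite _
  haveI : Fact (Nat.Prime 3) := ⟨Nat.prime_three⟩
  have hmod := Equiv.Perm.card_compl_support_modEq (p := 3) (n := 1) (σ := σ) (by rw [pow_one]; exact hσ3)
  have hfix : (σ.supportᶜ).card = Nat.card V := by
    rw [← Fintype.card_coe, ← Nat.card_eq_fintype_card]
    refine Nat.card_congr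
      { toFun := fun x => ⟨x.1.1, x.1.2, mem_centralizer_of_commute ?_⟩
        invFun := fun x => ⟨⟨x.1, x.2.1⟩, ?_⟩
        left_inv := fun x => rfl
        right_inv := fun x => rfl }
    · have h1 := x.2
      rw [Finset.mem_compl, Equiv.Perm.notMem_support] at h1
      exact (show Commute r (x.1 : G) from mul_inv_eq_iff_eq_mul.1 (congrArg Subtype.val h1)).symm
    · rw [Finset.mem_compl, Equiv.Perm.notMem_support]
      exact Subtype.ext (mul_inv_eq_iff_eq_mul.2 (commute_of_mem x.2.2).eq.symm)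
  rw [hfix, ← Nat.card_eq_fintype_card, h.card_A] at hmod
  have h1 : 1 < Nat.card V := by
    rw [Subgroup.one_lt_card_iff_ne_bot]
    intro hb
    have htV : t ∈ V := ⟨h.t_mem_A, mem_centralizer_of_commute (commute_of_mem hr.mem).symm⟩
    rw [hb, Subgroup.mem_bot] at htV
    exact h.tnot (htV ▸ one_mem Q)
  unfold Nat.ModEq at hmod
  omega

/-- The four-group is a direct factor: a retraction of `C(t)` onto it. -/
theorem Rho.exists_retraction (h : Setting z Q u t) {r : G} (hr : Rho z t r) :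
    ∃ K : Subgroup G, K ≤ Subgroup.centralizer ({t} : Set G) ∧
      (∀ y ∈ Subgroup.centralizer ({t} : Set G), ∀ k ∈ K, y * k * y⁻¹ ∈ K) ∧
      (∀ y ∈ Subgroup.centralizer ({t} : Set G), ∀ x ∈ Subgroup.centralizer ({t} : Set G),
        y * x * y⁻¹ * x⁻¹ ∈ K) ∧
      (∀ y ∈ Subgroup.centralizer ({t} : Set G), ∃ v ∈ cA z t ⊓ Subgroup.centralizer ({r} : Set G),
        ∃ k ∈ K, y = v * k) ∧
      (∀ v ∈ cA z t ⊓ Subgroup.centralizer ({r} : Set G), v ∈ K → v = 1) := by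
  classical
  haveI : Fact (Nat.Prime 2) := ⟨Nat.prime_two⟩
  set V := cA z t ⊓ Subgroup.centralizer ({r} : Set G) with hV
  letI : CommGroup V :=
    { (inferInstance : Group V) with
      mul_comm := fun a b => Subtype.ext (h.comm_A a.2.1 b.2.1).eq }
  obtain ⟨φ₀, hφ₀⟩ := Retract.exists_proj (cA z t) V (Q ⊓ Subgroup.centralizer ({t} : Set G)) inf_le_left
    (fun x hx => ⟨h.toBase.z_mem_centralizer hx.1, hx.2⟩) (fun a ha b hb => h.comm_A ha hb)
    (fun x hx hx' => Rho.disj_W h hr hx hx')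
    (by rw [Rho.card_fixed h hr, (h.orbit h.tmem h.tsq h.tnot).2.1, h.card_A])
  obtain ⟨S, hS⟩ := h.exists_sylow_A
  have hc := h.isMulCommutative_sylow S hS
  let toA : (S : Subgroup (Subgroup.centralizer ({t} : Set G))) →* cA z t :=
    MonoidHom.mk' (fun x => ⟨x.1.1, Subgroup.mem_subgroupOf.1 (hS.le x.2)⟩) (fun _ _ => rfl)
  let θ : Subgroup.centralizer ({t} : Set G) →* V := MonoidHom.transfer (φ₀.comp toA)
  have hθ : ∀ v : V, θ ⟨v.1, v.2.1.2⟩ = v := by
    intro v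
    have hvS : (⟨v.1, v.2.1.2⟩ : Subgroup.centralizer ({t} : Set G)) ∈
        (S : Subgroup (Subgroup.centralizer ({t} : Set G))) := hS.ge (Subgroup.mem_subgroupOf.2 v.2.1)
    have h1 := Retract.transfer_eq S hc (φ₀.comp toA) ⟨_, hvS⟩ (Subtype.ext (h.sq_A _ v.2.1)) (fun n hn => by
      refine Subtype.ext ?_
      exact (Rho.centralizes h hr n.2 (fun x hx => Subgroup.mem_subgroupOf.1 (hS.le
        ((Subgroup.mem_normalizer_iff.1 hn ⟨x, hx.2⟩).1 (hS.ge (Subgroup.mem_subgroupOf.2 hx)))))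
        v.2.1 (commute_of_mem v.2.2)).eq)
    exact h1.trans (hφ₀ v)
  clear_value θ
  haveI := MonoidHom.normal_ker θ
  refine ⟨θ.ker.map (Subgroup.subtype _), Subgroup.map_subtype_le _, ?_, ?_, ?_, ?_⟩
  · rintro y hy _ ⟨k, hk, rfl⟩
    exact ⟨⟨y, hy⟩ * k * ⟨y, hy⟩⁻¹, (MonoidHom.normal_ker θ).conj_mem k hk _, rfl⟩
  · intro y hy x hx
    refine ⟨⟨y, hy⟩ * ⟨x, hx⟩ * ⟨y, hy⟩⁻¹ * ⟨x, hx⟩⁻¹, ?_, rfl⟩
    show θ _ = 1
    rw [map_mul, map_mul, map_mul, map_inv, map_inv, mul_comm (θ ⟨y, hy⟩) (θ ⟨x, hx⟩),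
      mul_inv_cancel_right, mul_inv_cancel]
  · intro y hy
    refine ⟨(θ ⟨y, hy⟩).1, (θ ⟨y, hy⟩).2, (θ ⟨y, hy⟩).1⁻¹ * y,
      ⟨⟨(θ ⟨y, hy⟩).1, (θ ⟨y, hy⟩).2.1.2⟩⁻¹ * ⟨y, hy⟩, ?_, rfl⟩, (mul_inv_cancel_left _ _).symm⟩
    show θ _ = 1
    rw [map_mul, map_inv, hθ, inv_mul_cancel]
  · rintro v hv ⟨k, hk, e⟩
    have h1 : k = ⟨v, hv.1.2⟩ := Subtype.ext e
    have h2 : θ k = 1 := hk
    rw [h1, hθ ⟨v, hv⟩] at h2
    exact congrArg Subtype.val h2

theorem Rho.normal_or_str (h : Setting z Q u t) {r : G} (hr : Rho z t r) :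
    (∀ y ∈ Subgroup.centralizer ({t} : Set G), ∀ x ∈ cA z t, y * x * y⁻¹ ∈ cA z t) ∨
      ∃ V M0 : Subgroup G, TStr z t V M0 := by
  classical
  haveI : Fact (Nat.Prime 2) := ⟨Nat.prime_two⟩
  obtain ⟨K, hKM, hKn, hKc, hdec, hdisj⟩ := Rho.exists_retraction h hr
  set V := cA z t ⊓ Subgroup.centralizer ({r} : Set G) with hVdef
  set W := Q ⊓ Subgroup.centralizer ({t} : Set G) with hWdef
  have hW4 : Nat.card W = 4 := (h.orbit h.tmem h.tsq h.tnot).2.1
  have hWA : W ≤ cA z t := fun x hx => ⟨h.toBase.z_mem_centralizer hx.1, hx.2⟩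
  -- `W ≤ K`
  have hstep : ∀ w, (w = z ∨ w = u h.pt ∨ w = u h.pt * z) → r * w * r⁻¹ * w⁻¹ ∈ K := fun w hw =>
    hKc r hr.mem w (h.isConj_of_cases hw).2.2
  have hzK : z ∈ K ∧ u h.pt ∈ K ∧ u h.pt * z ∈ K := by
    have hza := h.comm_A h.z_mem_A h.a_mem_A
    have e1 : u h.pt * (u h.pt * z)⁻¹ = z := by
      rw [mul_inv_rev, h.es.zinv, ← mul_assoc, ← hza.eq, mul_inv_cancel_right]
    have e2 : z * (u h.pt)⁻¹ = u h.pt * z := by
      rw [inv_eq_of_mul_eq_one_right (h.sq h.pt), hza.eq]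
    have e3 : u h.pt * z * z⁻¹ = u h.pt := mul_inv_cancel_right _ _
    have hm := Rho.move h hr (Or.inl (rfl : z = z))
    rcases h.image_cases hr.norm (Or.inl (rfl : z = z)) with a | a | a
    · exact absurd a hm
    · have hm2 := Rho.move h hr (Or.inr (Or.inl (rfl : u h.pt = u h.pt)))
      rcases h.image_cases hr.norm (Or.inr (Or.inl (rfl : u h.pt = u h.pt))) with b | b | b
      · exfalso
        have hfix : r * r * z * (r * r)⁻¹ = z := by
          calc r * r * z * (r * r)⁻¹ = r * (r * z * r⁻¹) * r⁻¹ := by group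
            _ = z := by rw [a, b]
        have := h.mem_A_of_fix (mul_mem hr.mem hr.mem) (Or.inl rfl) hfix
        apply hr.nA
        have h4 := mul_mem this this
        rwa [show r * r * (r * r) = r ^ 3 * r by rw [pow_three]; group, hr.cube, one_mul] at h4
      · exact absurd b hm2
      · have k1 := hstep z (Or.inl rfl)
        rw [a, h.es.zinv] at k1
        have k2 := hstep _ (Or.inr (Or.inl rfl))
        rw [b, inv_eq_of_mul_eq_one_right (h.sq h.pt), mul_assoc, hza.eq, ← mul_assoc, h.sq, one_mul] at k2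
        refine ⟨k2, ?_, k1⟩
        have k3 := mul_mem k1 k2
        rwa [mul_assoc, h.es.sq, mul_one] at k3
    · have hm2 := Rho.move h hr (Or.inr (Or.inr (rfl : u h.pt * z = u h.pt * z)))
      rcases h.image_cases hr.norm (Or.inr (Or.inr (rfl : u h.pt * z = u h.pt * z))) with b | b | b
      · exfalso
        have hfix : r * r * z * (r * r)⁻¹ = z := by
          calc r * r * z * (r * r)⁻¹ = r * (r * z * r⁻¹) * r⁻¹ := by group
            _ = z := by rw [a, b]
        have := h.mem_A_of_fix (mul_mem hr.mem hr.mem) (Or.inl rfl) hfix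
        apply hr.nA
        have h4 := mul_mem this this
        rwa [show r * r * (r * r) = r ^ 3 * r by rw [pow_three]; group, hr.cube, one_mul] at h4
      · have k1 := hstep z (Or.inl rfl)
        rw [a, e3] at k1
        have k2 := hstep _ (Or.inr (Or.inr rfl))
        rw [b, e1] at k2
        exact ⟨k2, k1, mul_mem k1 k2⟩
      · exact absurd b hm2
  have hWK : W ≤ K := fun x hx => by
    rcases h.W_cases hx with e | e | e | e <;> rw [e]
    exacts [one_mem _, hzK.1, hzK.2.1, hzK.2.2]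
  have hVA : ∀ v ∈ V, v ∈ cA z t := fun v hv => hv.1
  have hA0 : ∀ x ∈ cA z t, x ∈ K → x ∈ W := by
    intro x hxA hxK
    -- `x = v w`
    obtain ⟨v, w, hvw⟩ : ∃ v : V, ∃ w : W, v.1 * w.1 = x := by
      have hbij : Function.Bijective (fun p : V × W =>
          (⟨p.1.1 * p.2.1, mul_mem p.1.2.1 (hWA p.2.2)⟩ : cA z t)) := by
        refine (Nat.bijective_iff_injective_and_card _).2 ⟨?_,
          by rw [Nat.card_prod, Rho.card_fixed h hr, hW4, h.card_A]⟩
        rintro ⟨v, w⟩ ⟨v', w'⟩ e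
        have e' : v.1 * w.1 = v'.1 * w'.1 := congrArg Subtype.val e
        have h1 : v'.1⁻¹ * v.1 = w'.1 * w.1⁻¹ := by
          rw [eq_mul_inv_iff_mul_eq, mul_assoc, e', inv_mul_cancel_left]
        have h2 := Rho.disj_W h hr (mul_mem (inv_mem v'.2) v.2) (h1 ▸ mul_mem w'.2 (inv_mem w.2))
        have hv : v = v' := Subtype.ext (inv_mul_eq_one.1 h2).symm
        subst hv
        exact Prod.ext rfl (Subtype.ext (mul_left_cancel e'))
      obtain ⟨⟨v, w⟩, e⟩ := hbij.2 ⟨x, hxA⟩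
      exact ⟨v, w, congrArg Subtype.val e⟩
    have hv1 := hdisj v.1 v.2 (by
      rw [show v.1 = x * w.1⁻¹ by rw [← hvw, mul_inv_cancel_right]]
      exact mul_mem hxK (inv_mem (hWK w.2)))
    rw [← hvw, hv1, one_mul]; exact w.2
  have hrK : r ∈ K := by
    obtain ⟨v, hv, k, hk, e⟩ := hdec r hr.mem
    have hcv : Commute v k := by
      have h1 : Commute v r := commute_of_mem hv.2
      have h2 := (Commute.refl v).inv_right.mul_right h1
      rwa [e, inv_mul_cancel_left] at h2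
    have hk2 : k = v⁻¹ * r := by rw [e, inv_mul_cancel_left]
    -- `v = r k⁻¹` has order dividing two and three
    have hv3 : v ^ 3 ∈ K := by
      have h3 : v ^ 3 * k ^ 3 = 1 := by rw [← hcv.mul_pow, ← e, hr.cube]
      rw [eq_inv_of_mul_eq_one_left h3]
      exact inv_mem (pow_mem hk 3)
    have hv1 : v ^ 3 = v := by rw [pow_succ, pow_two, h.sq_A v hv.1, one_mul]
    rw [hv1] at hv3
    rw [e, hdisj v hv hv3, one_mul]
    exact hk
  -- `W` is a Sylow `2`-subgroup of `K`, `W = C_K(z)`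
  have hC : ∀ x : K, x ∈ Subgroup.centralizer ({(⟨z, hzK.1⟩ : K)} : Set K) ↔ (x : G) ∈ W := by
    intro x
    rw [Subgroup.mem_centralizer_singleton_iff]
    constructor
    · intro hx
      exact hA0 _ ⟨mem_centralizer_of_commute (congrArg Subtype.val hx : (x : G) * z = z * x), hKM x.2⟩ x.2
    · intro hx
      exact Subtype.ext (commute_of_mem (hWA hx).1).eq
  have hWp : IsPGroup 2 (W.subgroupOf K) :=
    (IsPGroup.of_card (G := W) (n := 2) (by rw [hW4]; norm_num)).of_equiv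
      (Subgroup.subgroupOfEquivOfLe hWK).symm
  obtain ⟨P, hP⟩ := hWp.exists_le_sylow
  have hPW : (P : Subgroup K) = W.subgroupOf K := by
    refine le_antisymm (fun x hx => ?_) hP
    -- `P V` is a `2`-subgroup of `C(t)` containing `A`
    have hPp : IsPGroup 2 ((P : Subgroup K).map K.subtype) := P.2.map _
    have hx' : (x : G) ∈ (P : Subgroup K).map K.subtype := ⟨x, hx, rfl⟩
    obtain ⟨S, hS⟩ := h.exists_sylow_A
    have hp2 : IsPGroup 2 (((P : Subgroup K).map K.subtype).subgroupOf (Subgroup.centralizer ({t} : Set G))) :=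
      hPp.comap_of_injective _ (Subgroup.subtype_injective _)
    obtain ⟨T, hT⟩ := hp2.exists_le_sylow
    obtain ⟨g, hg⟩ := MulAction.exists_smul_eq (Subgroup.centralizer ({t} : Set G)) T S
    have hconj : ∀ y ∈ (P : Subgroup K), (g : G) * y * (g : G)⁻¹ ∈ cA z t := by
      intro y hy
      have h1 : g * ⟨(y : G), hKM y.2⟩ * g⁻¹ ∈ (S : Subgroup (Subgroup.centralizer ({t} : Set G))) := by
        rw [← hg, Sylow.coe_subgroup_smul]
        exact ⟨⟨(y : G), hKM y.2⟩, hT (Subgroup.mem_subgroupOf.2 ⟨y, hy, rfl⟩), rfl⟩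
      exact Subgroup.mem_subgroupOf.1 (hS.le h1)
    -- so `P` is abelian and centralises `z`
    have hzP : (⟨z, hzK.1⟩ : K) ∈ (P : Subgroup K) := hP (h.mem_W (Or.inl rfl))
    have hcz : Commute (x : G) z := by
      have h1 := h.comm_A (hconj x hx) (hconj _ hzP)
      have h2 := h1.map (MulAut.conj (g : G)⁻¹)
      simpa [mul_assoc] using h2
    exact Subgroup.mem_subgroupOf.2 ((hC x).1 (Subgroup.mem_centralizer_singleton_iff.2 (Subtype.ext hcz.eq)))
  have hP4 : Nat.card (P : Subgroup K) = 4 := by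
    rw [hPW, Nat.card_congr (Subgroup.subgroupOfEquivOfLe hWK).toEquiv, hW4]
  haveI : Nontrivial (P : Subgroup K) := Finite.one_lt_card_iff_nontrivial.1 (by rw [hP4]; norm_num)
  have hPK : IsKleinFour (P : Subgroup K) := by
    refine ⟨hP4, Monoid.exponent_eq_prime_iff Nat.prime_two |>.2 fun g hg => ?_⟩
    have hgW : (g.1 : G) ∈ W := Subgroup.mem_subgroupOf.1 (hPW.le g.2)
    exact invol_iff.2 ⟨Subtype.ext (Subtype.ext (h.sq_A _ (hWA hgW))), hg⟩
  have hzord : orderOf (⟨z, hzK.1⟩ : K) = 2 := by rw [← Subgroup.orderOf_coe]; exact h.ord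
  have hC' : Subgroup.centralizer ({(⟨z, hzK.1⟩ : K)} : Set K) = (P : Subgroup K) := by
    ext x; rw [hPW, Subgroup.mem_subgroupOf]; exact hC x
  have hO : ∀ N : Subgroup K, N.Normal → Odd (Nat.card N) → N = ⊥ := by
    intro N hN hodd
    rw [← Subgroup.map_eq_bot_iff_of_injective _ K.subtype_injective]
    have hn : ∀ w : K, ∀ k ∈ N.map K.subtype, (w : G) * k * (w : G)⁻¹ ∈ N.map K.subtype := by
      rintro w _ ⟨k, hk, rfl⟩
      exact ⟨w * k * w⁻¹, hN.conj_mem k hk w, rfl⟩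
    exact h.odd_trivial _ ((Subgroup.map_subtype_le _).trans hKM)
      (by rwa [Subgroup.card_map_of_injective K.subtype_injective])
      (hn ⟨z, hzK.1⟩) (hn ⟨_, hzK.2.1⟩)
  rcases Cfsg.Agent.Lib.DihedralCentralizer.Klein.cases P hPK hzord hC' hO with hnc | hnorm | hiso
  · exfalso
    obtain ⟨P', N, hN, hcomp⟩ := hnc
    have hPc : Nat.card (P' : Subgroup K) = 4 := by rw [Sylow.card_eq_multiplicity, ← P.card_eq_multiplicity, hP4]
    have hodd : Odd (Nat.card N) := by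
      have h1 := P'.not_dvd_index
      rw [hcomp.index_eq_card] at h1
      exact Nat.odd_iff.2 (Nat.two_dvd_ne_zero.1 h1)
    have hN1 := hO N hN hodd
    have hcard : Nat.card K = 4 := by rw [← hcomp.card_mul, hN1, Subgroup.card_bot, one_mul, hPc]
    have : W = K := Subgroup.eq_of_le_of_card_ge hWK (by rw [hcard, hW4])
    exact hr.nA (hWA (this ▸ hrK))
  · left
    intro y hy x hx
    obtain ⟨v, hv, m, hm, rfl⟩ := hdec y hy
    rw [hPW] at hnorm
    have hmz : m * z * m⁻¹ ∈ W :=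
      Subgroup.mem_subgroupOf.1 (hnorm.conj_mem (⟨z, hzK.1⟩ : K) (h.mem_W (Or.inl rfl)) ⟨m, hm⟩)
    have hm1 : m * z * m⁻¹ ≠ 1 := fun e => h.es.ne (conj_eq_one_iff.1 e)
    have hmx : m * x * m⁻¹ ∈ cA z t := by
      rw [← h.cA_eq ((h.W_cases hmz).resolve_left hm1)]
      refine Subgroup.mem_inf.2 ⟨mem_centralizer_of_commute ?_,
        Subgroup.mul_mem _ (Subgroup.mul_mem _ (hKM hm) hx.2) (Subgroup.inv_mem _ (hKM hm))⟩
      simpa [mul_assoc] using (h.comm_A hx h.z_mem_A).map (MulAut.conj m)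
    rw [show v * m * x * (v * m)⁻¹ = v * (m * x * m⁻¹) * v⁻¹ by group]
    exact mul_mem (mul_mem hv.1 hmx) (inv_mem hv.1)
  · right
    obtain ⟨e⟩ := hiso
    have h60 : Nat.card K = 60 := by
      rw [Nat.card_congr e.toEquiv, Nat.card_eq_fintype_card]; rfl
    have hVcomm : ∀ v ∈ V, ∀ m ∈ K, Commute v m := by
      intro v hv m hm
      let c : MulAut K :=
        { toFun := fun x => ⟨v * x * v⁻¹, hKn v hv.1.2 x x.2⟩
          invFun := fun x => ⟨v⁻¹ * x * v, by simpa using hKn v⁻¹ (inv_mem hv.1.2) x x.2⟩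
          left_inv := fun x => Subtype.ext (by show v⁻¹ * (v * (x : G) * v⁻¹) * v = x; group)
          right_inv := fun x => Subtype.ext (by show v * (v⁻¹ * (x : G) * v) * v⁻¹ = x; group)
          map_mul' := fun x y => Subtype.ext (by
            show v * ((x : G) * y) * v⁻¹ = v * x * v⁻¹ * (v * y * v⁻¹); group) }
      have hcfix : ∀ x : K, Commute v x → c x = x := fun x hx =>
        Subtype.ext (mul_inv_eq_iff_eq_mul.2 hx.eq)
      have hnc : ∀ w : G, (w = z ∨ w = u h.pt ∨ w = u h.pt * z) → w * r ≠ r * w := fun w hw e' =>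
        Rho.move h hr hw (mul_inv_eq_iff_eq_mul.2 e'.symm)
      have hza := h.comm_A h.z_mem_A h.a_mem_A
      have h1 := aut_trivial e c (x := ⟨z, hzK.1⟩) (y := ⟨u h.pt, hzK.2.1⟩) (r := ⟨r, hrK⟩)
        (Subtype.ext h.es.sq) (fun q => h.es.ne (congrArg Subtype.val q))
        (Subtype.ext (h.sq _)) (fun q => h.toFive.u_ne_one _ (congrArg Subtype.val q))
        (fun q => h.toFive.u_ne_z _ (congrArg Subtype.val q))
        (Subtype.ext hza.eq) (hcfix _ (h.comm_A hv.1 h.z_mem_A)) (hcfix _ (h.comm_A hv.1 h.a_mem_A))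
        (hcfix _ (commute_of_mem hv.2)) (fun q => hnc z (Or.inl rfl) (congrArg Subtype.val q))
        (fun q => hnc _ (Or.inr (Or.inl rfl)) (congrArg Subtype.val q))
        (fun q => by
          have q' : z * u h.pt * r = r * (z * u h.pt) := congrArg Subtype.val q
          rw [hza.eq] at q'
          exact hnc _ (Or.inr (Or.inr rfl)) q') ⟨m, hm⟩
      exact mul_inv_eq_iff_eq_mul.1 (congrArg Subtype.val h1)
    refine ⟨V, K, fun v hv => hv.1.2, hKM, Rho.card_fixed h hr, fun v hv => h.sq_A v hv.1,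
      ⟨h.t_mem_A, mem_centralizer_of_commute (commute_of_mem hr.mem).symm⟩, h60, ⟨e⟩, hVcomm,
      hdec, hdisj, hzK.1, fun x hx => ⟨fun hxz => ?_, fun hxm => ?_⟩⟩
    · have hx2 := h.orderOf_of_isConj hxz
      refine ⟨?_, hx2⟩
      obtain ⟨S, hS⟩ := h.exists_sylow_A
      have hp : IsPGroup 2 (Subgroup.zpowers (⟨x, hx⟩ : Subgroup.centralizer ({t} : Set G))) :=
        IsPGroup.of_card (n := 1) (by rw [Nat.card_zpowers, ← Subgroup.orderOf_coe, hx2, pow_one])
      obtain ⟨T, hT⟩ := hp.exists_le_sylow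
      obtain ⟨g, hg⟩ := MulAction.exists_smul_eq (Subgroup.centralizer ({t} : Set G)) T S
      have hgS : g * ⟨x, hx⟩ * g⁻¹ ∈ (S : Subgroup (Subgroup.centralizer ({t} : Set G))) := by
        rw [← hg, Sylow.coe_subgroup_smul]
        exact ⟨_, hT (Subgroup.mem_zpowers _), rfl⟩
      have hgx : IsConj z ((g : G) * x * (g : G)⁻¹) := hxz.trans (isConj_iff.2 ⟨g, rfl⟩)
      have hW' := hWK (h.mem_W (h.conj_cases_A hgx (Subgroup.mem_subgroupOf.1 (hS.le hgS))))
      have := hKn (g : G)⁻¹ (inv_mem g.2) _ hW'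
      simpa [mul_assoc] using this
    · obtain ⟨hxM, hx2⟩ := hxm
      obtain ⟨c, hc⟩ := isConj_iff.1 (invol_conj_alt e (x := ⟨z, hzK.1⟩) (y := ⟨x, hxM⟩)
        (Subtype.ext h.es.sq) (fun q => h.es.ne (congrArg Subtype.val q))
        (Subtype.ext (invol_iff.1 hx2).1) (fun q => (invol_iff.1 hx2).2 (congrArg Subtype.val q)))
      exact isConj_iff.2 ⟨(c : G), congrArg Subtype.val hc⟩

theorem dichotomy (h : Setting z Q u t) :
    (∀ y ∈ Subgroup.centralizer ({t} : Set G), ∀ x ∈ cA z t, y * x * y⁻¹ ∈ cA z t) ∨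
      ∃ V M0 : Subgroup G, TStr z t V M0 := by
  rcases h.normal_or_rho with hn | ⟨r, hr⟩
  · exact Or.inl hn
  · exact Rho.normal_or_str h hr

end Setting

end Cfsg.Agent.Lib.HallJanko
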