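import Mathlib
import Cfsg.Agent.Lib.Involutions.Thompson
import Cfsg.Agent.Lib.HallJanko.TSplit

/-!
# Hall-Janko type: the order is `604800`

Owner: helper99.
-/

set_option autoImplicit false
set_option linter.style.haveILetI false

namespace Cfsg.Agent.Lib.HallJanko

open Cfsg.Agent.Lib.LargeExtraspecial.Basic Cfsg.Agent.Lib.HallJanko.Model
open Cfsg.Agent.Lib.Involutions.Basic (invol_iff orderOf_conj_eq)

variable {G : Type*} [Group G] [Finite G] {z : G} {Q : Subgroup G} {u : Fin 5 → G} {t : G}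
variable {V M0 : Subgroup G}

set_option synthInstance.maxSize 4000 in
set_option synthInstance.maxHeartbeats 400000 in
theorem alt_pair_counts : ∀ σ : Equiv.Perm (Fin 5), Equiv.Perm.sign σ = 1 → σ * σ = 1 → σ ≠ 1 →
    Fintype.card {τ : Equiv.Perm (Fin 5) //
      (Equiv.Perm.sign τ = 1 ∧ τ * τ = 1 ∧ τ ≠ 1) ∧ (τ = σ ∨ σ * τ ≠ τ * σ)} = 13 := by decide +kernel

set_option synthInstance.maxSize 4000 in
set_option synthInstance.maxHeartbeats 400000 in
theorem alt_product_order : ∀ σ : Equiv.Perm (Fin 5), Equiv.Perm.sign σ = 1 → σ * σ = 1 → σ ≠ 1 →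
    ∀ τ : Equiv.Perm (Fin 5), Equiv.Perm.sign τ = 1 → τ * τ = 1 → τ ≠ 1 →
      (τ = σ ∨ σ * τ ≠ τ * σ) → (σ * τ) ^ 15 = 1 := by decide +kernel

namespace TStr

theorem unique (hs : TStr z t V M0) {v v' m m' : G} (hv : v ∈ V) (hv' : v' ∈ V) (hm : m ∈ M0) (hm' : m' ∈ M0)
    (e : v * m = v' * m') : v = v' ∧ m = m' := by
  have h1 : v'⁻¹ * v = m' * m⁻¹ := by
    rw [eq_mul_inv_iff_mul_eq, mul_assoc, e, inv_mul_cancel_left]
  have h2 := hs.disj _ (mul_mem (inv_mem hv') hv) (h1 ▸ mul_mem hm' (inv_mem hm))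
  have h3 : v = v' := (inv_mul_eq_one.1 h2).symm
  subst h3
  exact ⟨rfl, mul_left_cancel e⟩

theorem card_centralizer (hs : TStr z t V M0) : Nat.card (Subgroup.centralizer ({t} : Set G)) = 240 := by
  let f : V × M0 → Subgroup.centralizer ({t} : Set G) := fun p =>
    ⟨p.1.1 * p.2.1, mul_mem (hs.Vle p.1.2) (hs.M0le p.2.2)⟩
  have hf : Function.Bijective f := by
    refine ⟨fun p q e => ?_, fun x => ?_⟩
    · obtain ⟨e1, e2⟩ := hs.unique p.1.2 q.1.2 p.2.2 q.2.2 (congrArg Subtype.val e)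
      exact Prod.ext (Subtype.ext e1) (Subtype.ext e2)
    · obtain ⟨v, hv, m, hm, e⟩ := hs.decomp x.1 x.2
      exact ⟨(⟨v, hv⟩, ⟨m, hm⟩), Subtype.ext e.symm⟩
  rw [← Nat.card_congr (Equiv.ofBijective f hf), Nat.card_prod, hs.cardV, hs.cardM0]

theorem t_notMem (hs : TStr z t V M0) (ht : t ≠ 1) : t ∉ M0 := fun e => ht (hs.disj t hs.tV e)

theorem mem_zpowers_iff (h : Setting z Q u t) (hs : TStr z t V M0) (p q : G) :
    (IsConj z p ∧ IsConj t q ∧ t ∈ Subgroup.zpowers (p * q)) ↔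
      ∃ m, (p ∈ M0 ∧ p * p = 1 ∧ p ≠ 1) ∧ (m ∈ M0 ∧ m * m = 1 ∧ m ≠ 1 ∧ (m = p ∨ p * m ≠ m * p)) ∧
        q = t * m := by
  have ht1 : t ≠ 1 := fun e => h.tnot (e ▸ one_mem Q)
  constructor
  · rintro ⟨hp, hq, hz⟩
    obtain ⟨k, hk⟩ := Subgroup.mem_zpowers_iff.1 hz
    have hp2 := invol_iff.1 (h.orderOf_of_isConj hp)
    have hq2 := invol_iff.1 (h.orderOf_of_isConj_t hq)
    have hpi : p⁻¹ = p := inv_eq_of_mul_eq_one_right hp2.1
    have hqi : q⁻¹ = q := inv_eq_of_mul_eq_one_right hq2.1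
    have hti : t⁻¹ = t := inv_eq_of_mul_eq_one_right h.tsq
    have hcom : ∀ a ∈ ({p, q} : Set G), a ∈ Subgroup.centralizer ({t} : Set G) := by
      intro a ha
      have hinv : a * (p * q) * a⁻¹ = (p * q)⁻¹ := by
        rcases ha with rfl | rfl
        · rw [mul_inv_rev, hqi, hpi, ← mul_assoc a a q, hp2.1, one_mul]
        · rw [mul_inv_rev, hqi, hpi, mul_assoc, mul_assoc p a a, hq2.1, mul_one]
      rw [Subgroup.mem_centralizer_singleton_iff]
      refine mul_inv_eq_iff_eq_mul.1 ?_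
      rw [← hk, ← conj_zpow, hinv, inv_zpow, hk, hti]
    have hpM := hcom p (by simp)
    have hqM := hcom q (by simp)
    obtain ⟨hpM0, -⟩ := (hs.conj_iff p hpM).1 hp
    obtain ⟨v, hv, m, hm, e⟩ := hs.decomp q hqM
    have hcvm := hs.comm v hv m hm
    have hvp := hs.comm v hv p hpM0
    have hcv : Commute v (p * m) := hvp.mul_right hcvm
    have hpq : p * q = v * (p * m) := by rw [e, ← mul_assoc, ← hvp.eq, mul_assoc]
    rw [hpq, hcv.mul_zpow] at hk
    obtain ⟨hvk, hmk⟩ := hs.unique (zpow_mem hv k) hs.tV (zpow_mem (mul_mem hpM0 hm) k) (one_mem _)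
      (hk.trans (mul_one t).symm)
    have hv2 := hs.Vsq v hv
    have hm2 : m * m = 1 := by
      have h1 := hq2.1
      rw [e, show v * m * (v * m) = v * (m * v) * m by group, ← hcvm.eq,
        show v * (v * m) * m = v * v * (m * m) by group, hv2, one_mul] at h1
      exact h1
    obtain ⟨j, hj | hj⟩ := Int.even_or_odd' k
    · rw [hj, zpow_mul, zpow_two, hv2, one_zpow] at hvk
      exact absurd hvk.symm ht1
    · have hvt : v = t := by
        rw [hj, zpow_add, zpow_mul, zpow_two, hv2, one_zpow, zpow_one, one_mul] at hvk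
        exact hvk
      have hodd : ∀ a : G, a * a = 1 → a ^ k = a := fun a ha => by
        rw [hj, zpow_add, zpow_mul, zpow_two, ha, one_zpow, zpow_one, one_mul]
      refine ⟨m, ⟨hpM0, hp2⟩, ⟨hm, hm2, fun hm1 => ?_, ?_⟩, by rw [e, hvt]⟩
      · rw [hm1, mul_one, hodd p hp2.1] at hmk
        exact hp2.2 hmk
      · by_cases hpm : Commute p m
        · left
          rw [hodd (p * m) (by rw [hpm.symm.mul_mul_mul_comm, hp2.1, hm2, one_mul])] at hmk
          rw [eq_inv_of_mul_eq_one_right hmk, hpi]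
        · exact Or.inr hpm
  · rintro ⟨m, ⟨hp, hp2, hp1⟩, ⟨hm, hm2, hm1, hcond⟩, rfl⟩
    have hpc : IsConj z p := (hs.conj_iff p (hs.M0le hp)).2 ⟨hp, invol_iff.2 ⟨hp2, hp1⟩⟩
    have hct := hs.comm t hs.tV
    have hq2 : t * m * (t * m) = 1 := by
      rw [(hct m hm).symm.mul_mul_mul_comm, h.tsq, hm2, one_mul]
    have hnot : ¬ IsConj z (t * m) := fun hc => hs.t_notMem ht1 (by
      have h1 := ((hs.conj_iff _ (mul_mem (hs.Vle hs.tV) (hs.M0le hm))).1 hc).1
      rw [show t = t * m * m⁻¹ from (mul_inv_cancel_right t m).symm]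
      exact mul_mem h1 (inv_mem hm))
    have hq1 : t * m ≠ 1 := fun e => hs.t_notMem ht1 (by
      rw [eq_inv_of_mul_eq_one_left e]; exact inv_mem hm)
    refine ⟨hpc, (h.classes _ (invol_iff.2 ⟨hq2, hq1⟩)).resolve_left hnot, ?_⟩
    obtain ⟨e⟩ := hs.iso
    have h15 : (p * m) ^ 15 = 1 := by
      have hh : ∀ (a : G) (ha : a ∈ M0), a * a = 1 → a ≠ 1 →
          Equiv.Perm.sign (e ⟨a, ha⟩ : Equiv.Perm (Fin 5)) = 1 ∧
          (e ⟨a, ha⟩ : Equiv.Perm (Fin 5)) * e ⟨a, ha⟩ = 1 ∧ (e ⟨a, ha⟩ : Equiv.Perm (Fin 5)) ≠ 1 := by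
        intro a ha ha2 ha1
        refine ⟨Equiv.Perm.mem_alternatingGroup.1 (e ⟨a, ha⟩).2, ?_, fun h1 => ha1 ?_⟩
        · rw [← Subgroup.coe_mul, ← map_mul, show (⟨a, ha⟩ : M0) * ⟨a, ha⟩ = 1 from Subtype.ext ha2, map_one]
          rfl
        · exact congrArg Subtype.val (show (⟨a, ha⟩ : M0) = 1 from
            e.injective (by rw [map_one]; exact Subtype.ext h1))
      obtain ⟨s1, s2, s3⟩ := hh p hp hp2 hp1
      obtain ⟨t1, t2, t3⟩ := hh m hm hm2 hm1
      have hc' : (e ⟨m, hm⟩ : Equiv.Perm (Fin 5)) = e ⟨p, hp⟩ ∨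
          (e ⟨p, hp⟩ : Equiv.Perm (Fin 5)) * e ⟨m, hm⟩ ≠ (e ⟨m, hm⟩ : Equiv.Perm (Fin 5)) * e ⟨p, hp⟩ := by
        rcases hcond with rfl | hne
        · exact Or.inl rfl
        · refine Or.inr fun q => hne ?_
          rw [← Subgroup.coe_mul, ← Subgroup.coe_mul, ← map_mul, ← map_mul] at q
          exact congrArg Subtype.val (e.injective (Subtype.ext q))
      have h1 := alt_product_order _ s1 s2 s3 _ t1 t2 t3 hc'
      rw [← Subgroup.coe_mul, ← map_mul, ← SubgroupClass.coe_pow, ← map_pow] at h1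
      have h2 : ((⟨p, hp⟩ : M0) * ⟨m, hm⟩) ^ 15 = 1 := e.injective (by rw [map_one]; exact Subtype.ext h1)
      simpa using congrArg Subtype.val h2
    have hrw : p * (t * m) = t * (p * m) := by rw [← mul_assoc, ← (hct p hp).eq, mul_assoc]
    refine Subgroup.mem_zpowers_iff.2 ⟨(15 : ℕ), ?_⟩
    rw [zpow_natCast, hrw, ((hct p hp).mul_right (hct m hm)).mul_pow, h15, mul_one,
      show (15 : ℕ) = 2 * 7 + 1 from rfl, pow_succ, pow_mul, pow_two, h.tsq, one_pow, one_mul]

theorem card_pairs_t (h : Setting z Q u t) (hs : TStr z t V M0) :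
    Nat.card {p : G × G // IsConj z p.1 ∧ IsConj t p.2 ∧ t ∈ Subgroup.zpowers (p.1 * p.2)} = 195 := by
  classical
  obtain ⟨e⟩ := hs.iso
  let I := {σ : Equiv.Perm (Fin 5) // Equiv.Perm.sign σ = 1 ∧ σ * σ = 1 ∧ σ ≠ 1}
  let J : I → Type := fun σ => {τ : Equiv.Perm (Fin 5) //
      (Equiv.Perm.sign τ = 1 ∧ τ * τ = 1 ∧ τ ≠ 1) ∧ (τ = σ.1 ∨ σ.1 * τ ≠ τ * σ.1)}
  let lift : ∀ σ : Equiv.Perm (Fin 5), Equiv.Perm.sign σ = 1 → M0 := fun σ hσ =>
    e.symm ⟨σ, Equiv.Perm.mem_alternatingGroup.2 hσ⟩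
  have hlift : ∀ σ hσ, σ * σ = 1 → σ ≠ 1 →
      (lift σ hσ : G) ∈ M0 ∧ (lift σ hσ : G) * lift σ hσ = 1 ∧ (lift σ hσ : G) ≠ 1 := by
    intro σ hσ h2 h1
    refine ⟨(lift σ hσ).2, ?_, fun e' => h1 ?_⟩
    · rw [← Subgroup.coe_mul, ← map_mul]
      exact (congrArg Subtype.val (congrArg e.symm (Subtype.ext h2) : e.symm _ = e.symm 1)).trans
        (by rw [map_one]; rfl)
    · have e'' : lift σ hσ = 1 := Subtype.ext e'
      have := congrArg e e''
      rw [e.apply_symm_apply, map_one] at this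
      exact congrArg Subtype.val this
  have hinj : ∀ σ hσ τ hτ, (lift σ hσ : G) = lift τ hτ → σ = τ := fun σ hσ τ hτ e' =>
    congrArg Subtype.val (e.symm.injective (Subtype.ext e'))
  let f : (Σ σ : I, J σ) → {p : G × G // IsConj z p.1 ∧ IsConj t p.2 ∧ t ∈ Subgroup.zpowers (p.1 * p.2)} :=
    fun x => ⟨((lift x.1.1 x.1.2.1 : G), t * lift x.2.1 x.2.2.1.1),
      (hs.mem_zpowers_iff h _ _).2 ⟨lift x.2.1 x.2.2.1.1, hlift _ x.1.2.1 x.1.2.2.1 x.1.2.2.2,
        ⟨(hlift _ x.2.2.1.1 x.2.2.1.2.1 x.2.2.1.2.2).1, (hlift _ x.2.2.1.1 x.2.2.1.2.1 x.2.2.1.2.2).2.1,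
          (hlift _ x.2.2.1.1 x.2.2.1.2.1 x.2.2.1.2.2).2.2, by
          rcases x.2.2.2 with q | q
          · left
            exact congrArg Subtype.val (congrArg e.symm (Subtype.ext q) : e.symm _ = e.symm _)
          · refine Or.inr fun q' => q ?_
            have h1 : lift x.1.1 x.1.2.1 * lift x.2.1 x.2.2.1.1 = lift x.2.1 x.2.2.1.1 * lift x.1.1 x.1.2.1 :=
              Subtype.ext q'
            have h2 := congrArg e h1
            rw [map_mul, map_mul, e.apply_symm_apply, e.apply_symm_apply] at h2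
            exact congrArg Subtype.val h2⟩, rfl⟩⟩
  have hf : Function.Bijective f := by
    constructor
    · rintro ⟨σ, τ⟩ ⟨σ', τ'⟩ e'
      simp only [f, Subtype.mk.injEq, Prod.mk.injEq] at e'
      have h1 : σ = σ' := Subtype.ext (hinj _ σ.2.1 _ σ'.2.1 e'.1)
      subst h1
      have h2 : τ = τ' := Subtype.ext (hinj _ τ.2.1.1 _ τ'.2.1.1 (mul_left_cancel e'.2))
      rw [h2]
    · rintro ⟨⟨p, q⟩, hpq⟩
      obtain ⟨m, ⟨hp, hp2, hp1⟩, ⟨hm, hm2, hm1, hcond⟩, hq⟩ := (hs.mem_zpowers_iff h p q).1 hpq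
      have hh : ∀ (a : G) (ha : a ∈ M0), a * a = 1 → a ≠ 1 →
          Equiv.Perm.sign (e ⟨a, ha⟩ : Equiv.Perm (Fin 5)) = 1 ∧
          (e ⟨a, ha⟩ : Equiv.Perm (Fin 5)) * e ⟨a, ha⟩ = 1 ∧ (e ⟨a, ha⟩ : Equiv.Perm (Fin 5)) ≠ 1 := by
        intro a ha ha2 ha1
        refine ⟨Equiv.Perm.mem_alternatingGroup.1 (e ⟨a, ha⟩).2, ?_, fun h1 => ha1 ?_⟩
        · rw [← Subgroup.coe_mul, ← map_mul, show (⟨a, ha⟩ : M0) * ⟨a, ha⟩ = 1 from Subtype.ext ha2, map_one]
          rfl
        · exact congrArg Subtype.val (show (⟨a, ha⟩ : M0) = 1 from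
            e.injective (by rw [map_one]; exact Subtype.ext h1))
      refine ⟨⟨⟨_, hh p hp hp2 hp1⟩, ⟨(e ⟨m, hm⟩ : Equiv.Perm (Fin 5)), hh m hm hm2 hm1, ?_⟩⟩, ?_⟩
      · rcases hcond with q' | q'
        · left; subst q'; rfl
        · refine Or.inr fun r => q' ?_
          rw [← Subgroup.coe_mul, ← Subgroup.coe_mul, ← map_mul, ← map_mul] at r
          exact congrArg Subtype.val (e.injective (Subtype.ext r))
      · refine Subtype.ext (Prod.ext ?_ ?_)
        · show ((e.symm ⟨(e ⟨p, hp⟩ : Equiv.Perm (Fin 5)), _⟩ : M0) : G) = p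
          rw [Subtype.coe_eta, e.symm_apply_apply]
        · show t * ((e.symm ⟨(e ⟨m, hm⟩ : Equiv.Perm (Fin 5)), _⟩ : M0) : G) = q
          rw [Subtype.coe_eta, e.symm_apply_apply, hq]
  rw [← Nat.card_congr (Equiv.ofBijective f hf), Nat.card_sigma]
  rw [Finset.sum_congr rfl fun σ _ => (Nat.card_eq_fintype_card (α := J σ)).trans
    (alt_pair_counts σ.1 σ.2.1 σ.2.2.1 σ.2.2.2), Finset.sum_const, smul_eq_mul, Finset.card_univ, card_invol]

end TStr

namespace Setting

/-- The class of `z` has more than `27` elements. -/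
theorem class_z_large (h : Setting z Q u t) (hle : Nat.card {x : G // IsConj z x} ≤ 27) : False := by
  classical
  obtain ⟨v, hv, hvC⟩ : ∃ v, IsConj z v ∧ v ∉ Subgroup.centralizer ({z} : Set G) := by
    by_contra hall
    simp only [not_exists, not_and, not_not] at hall
    obtain ⟨g, hg⟩ := isConj_iff.1 (h.isConj 0)
    have h1 := commute_of_mem (hall (g⁻¹ * u 1 * g) ((h.isConj 1).trans
      (isConj_iff.2 ⟨g⁻¹, by rw [inv_inv]⟩)))
    have h2 := h1.map (MulAut.conj g)
    simp only [MulAut.conj_apply, mul_assoc, mul_inv_cancel_left, mul_inv_cancel, mul_one] at h2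
    have h3 : Commute (u 1) (u 0) := by rw [← hg]; simpa [mul_assoc] using h2
    exact h.es.ne (by
      have h4 := h.anti_mul (show (1 : Fin 5) ≠ 0 by decide)
      rw [← h3.eq] at h4
      exact mul_eq_left.1 h4.symm)
  set X := Subgroup.centralizer ({z} : Set G) ⊓ Subgroup.centralizer ({v} : Set G) with hX
  set C := Subgroup.centralizer ({z} : Set G) with hC
  -- the orbit of `v`
  let orb : C ⧸ X.subgroupOf C → {x : G // IsConj z x} := fun q => Quotient.liftOn' q
    (fun c : C => (⟨(c : G) * v * (c : G)⁻¹, hv.trans (isConj_iff.2 ⟨c, rfl⟩)⟩ : {x : G // IsConj z x}))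
    (fun a b hab => by
      rw [QuotientGroup.leftRel_apply] at hab
      have hc : Commute ((a : G)⁻¹ * b) v := commute_of_mem hab.2
      refine Subtype.ext ?_
      show (a : G) * v * (a : G)⁻¹ = b * v * (b : G)⁻¹
      calc (a : G) * v * (a : G)⁻¹ = (a : G) * (v * ((a : G)⁻¹ * b)) * (b : G)⁻¹ := by group
        _ = (a : G) * ((a : G)⁻¹ * b * v) * (b : G)⁻¹ := by rw [hc.eq]
        _ = b * v * (b : G)⁻¹ := by group)
  let F : Option (Fin 5 × Bool) ⊕ (C ⧸ X.subgroupOf C) → {x : G // IsConj z x} :=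
    Sum.elim (fun o => ⟨o.elim z (Five.sing u z), by
      cases o with
      | none => exact IsConj.refl _
      | some p => exact h.isConj_sing p⟩) orb
  have hout : ∀ q, (orb q).1 ∉ C := by
    intro q
    induction q using QuotientGroup.induction_on with
    | _ c =>
      intro hc
      refine hvC ?_
      show v ∈ C
      rw [show v = (c : G)⁻¹ * ((c : G) * v * (c : G)⁻¹) * c by group]
      exact mul_mem (mul_mem (inv_mem c.2) hc) c.2
  have hin : ∀ o : Option (Fin 5 × Bool), o.elim z (Five.sing u z) ∈ C := fun o => by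
    cases o with
    | none => exact mem_centralizer_of_commute (Commute.refl z)
    | some p => exact h.toBase.z_mem_centralizer (h.sing_mem p)
  have hF : Function.Injective F := by
    rintro (o | q) (o' | q') e
    · have e' : o.elim z (Five.sing u z) = o'.elim z (Five.sing u z) := congrArg Subtype.val e
      cases o <;> cases o' <;> simp only [Option.elim] at e'
      · rfl
      · rename_i p; obtain ⟨i, b⟩ := p; cases b <;> simp [Five.sing] at e'
        · exact absurd e'.symm (h.toFive.u_ne_z i)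
        · exact absurd e' (h.toFive.u_ne_one i)
      · rename_i p; obtain ⟨i, b⟩ := p; cases b <;> simp [Five.sing] at e'
        · exact absurd e' (h.toFive.u_ne_z i)
        · exact absurd e' (h.toFive.u_ne_one i)
      · rw [h.sing_injective e']
    · exact absurd (congrArg Subtype.val e ▸ hin o : (orb q').1 ∈ C) (hout q')
    · exact absurd ((congrArg Subtype.val e).symm ▸ hin o' : (orb q).1 ∈ C) (hout q)
    · induction q using QuotientGroup.induction_on with
      | _ a =>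
      induction q' using QuotientGroup.induction_on with
      | _ b =>
        refine congrArg Sum.inr (QuotientGroup.eq.2 (Subgroup.mem_inf.2
          ⟨Subgroup.mul_mem _ (Subgroup.inv_mem _ a.2) b.2, mem_centralizer_of_commute ?_⟩))
        have h1 : (a : G) * v * (a : G)⁻¹ = b * v * (b : G)⁻¹ := congrArg Subtype.val e
        refine mul_inv_eq_iff_eq_mul.1 ?_
        show (a : G)⁻¹ * b * v * ((a : G)⁻¹ * b)⁻¹ = v
        rw [show (a : G)⁻¹ * b * v * ((a : G)⁻¹ * b)⁻¹ = (a : G)⁻¹ * (b * v * (b : G)⁻¹) * a by group, ← h1]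
        group
  have hidx : (X.subgroupOf C).index ≤ 16 := by
    have h1 := (Nat.card_le_card_of_injective F hF).trans hle
    rw [Nat.card_sum, Nat.card_eq_fintype_card (α := Option (Fin 5 × Bool)), Fintype.card_option,
      Fintype.card_prod, Fintype.card_fin, Fintype.card_bool, ← Subgroup.index_eq_card] at h1
    omega
  have hX120 : 120 ≤ Nat.card X := by
    have h1 := Subgroup.card_mul_index (X.subgroupOf C)
    rw [Nat.card_congr (Subgroup.subgroupOfEquivOfLe (inf_le_left : X ≤ C)).toEquiv, h.cent] at h1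
    by_contra hlt
    have h2 : Nat.card X * (X.subgroupOf C).index ≤ 119 * 16 := Nat.mul_le_mul (by omega) hidx
    change Nat.card X * _ = 1920 at h1
    omega
  -- the kernel on the five points
  let φ : X →* Equiv.Perm (Fin 5) := h.perm.comp (Subgroup.inclusion (inf_le_left : X ≤ C))
  have hφ : ∀ x : X, φ x = h.pr x := fun x => (h.pr_eq x.2.1).symm
  have hkQ : ∀ x : X, φ x = 1 → (x : G) ∈ Q := fun x hx => h.mem_of_pr x.2.1 ((hφ x).symm.trans hx)
  have hzX : ∀ x : X, (x : G) ≠ z := fun x e => hvC (by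
    have := x.2.2
    rw [e] at this
    exact mem_centralizer_of_commute (commute_of_mem this).symm)
  have hk2 : ∀ x : X, φ x = 1 → (x : G) = 1 ∨ ∃ p, (x : G) = Five.sing u z p := by
    intro x hx
    have hsq : (x : G) * x = 1 := (h.es.sq_cases (hkQ x hx)).resolve_right
      (fun e => hzX (x * x) (by rw [Subgroup.coe_mul, e]))
    rcases h.singular (hkQ x hx) hsq with e | e | ⟨i, e | e⟩
    · exact Or.inl e
    · exact absurd e (hzX x)
    · exact Or.inr ⟨(i, false), by simp [Five.sing, e]⟩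
    · exact Or.inr ⟨(i, true), by simp [Five.sing, e]⟩
  have huniq : ∀ x y : X, φ x = 1 → φ y = 1 → (x : G) ≠ 1 → (y : G) ≠ 1 → x = y := by
    intro x y hx hy hx1 hy1
    obtain ⟨p, hp⟩ := (hk2 x hx).resolve_left hx1
    obtain ⟨q, hq⟩ := (hk2 y hy).resolve_left hy1
    have hxy : (x : G) * y = y * x := by
      have hsqk : ∀ w : X, φ w = 1 → (w : G) * w = 1 := fun w hw =>
        (h.es.sq_cases (hkQ w hw)).resolve_right (fun e => hzX (w * w) (by rw [Subgroup.coe_mul, e]))
      have e1 := hsqk (x * y) (by rw [map_mul, hx, hy, one_mul])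
      rw [Subgroup.coe_mul] at e1
      calc (x : G) * y = ((x : G) * y)⁻¹ := (inv_eq_of_mul_eq_one_right e1).symm
        _ = (y : G)⁻¹ * (x : G)⁻¹ := mul_inv_rev _ _
        _ = y * x := by rw [inv_eq_of_mul_eq_one_right (hsqk x hx), inv_eq_of_mul_eq_one_right (hsqk y hy)]
    refine Subtype.ext ?_
    obtain ⟨i, b⟩ := p
    obtain ⟨j, c⟩ := q
    by_cases hij : i = j
    · subst hij
      cases b <;> cases c <;> simp [Five.sing] at hp hq
      · rw [hp, hq]
      · exact absurd (by rw [Subgroup.coe_mul, hp, hq, ← mul_assoc, h.sq, one_mul]) (hzX (x * y))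
      · exact absurd (by rw [Subgroup.coe_mul, hp, hq, ← mul_assoc, h.sq, one_mul]) (hzX (y * x))
      · rw [hp, hq]
    · exfalso
      have hchi : chi (x : G) (y : G) = chi (u i) (u j) := by
        have e1 : ∀ (b : Bool) (a : G) (ha : a ∈ Q) (k : Fin 5),
            chi (Five.sing u z (k, b)) a = chi (u k) a := by
          intro b a ha k
          cases b
          · rfl
          · show chi (u k * z) a = chi (u k) a
            rw [h.es.chi_mul_left (h.mem k) h.es.mem ha, h.es.chi_comm (q := z) (v := a),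
              h.es.chi_center_right ha, add_zero]
        rw [hp, hq, e1 b _ (h.sing_mem _) i, h.es.chi_comm, e1 c _ (h.mem i) j, h.es.chi_comm]
      rw [h.anti i j hij, chi_eq_zero.2 hxy] at hchi
      exact zero_ne_one hchi
  have hk : Nat.card φ.ker ≤ 2 := by
    refine (Nat.card_le_card_of_injective (fun x : φ.ker => decide ((x.1.1 : G) = 1)) ?_).trans
      (by rw [Nat.card_eq_fintype_card, Fintype.card_bool])
    intro x y e
    simp only [decide_eq_decide] at e
    by_cases hx : (x.1.1 : G) = 1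
    · exact Subtype.ext (Subtype.ext (hx.trans (e.1 hx).symm))
    · exact Subtype.ext (huniq x.1 y.1 x.2 y.2 hx (fun hy => hx (e.2 hy)))
  have hrle : φ.range ≤ alternatingGroup (Fin 5) := by
    rintro _ ⟨x, rfl⟩
    rw [hφ]
    exact Equiv.Perm.mem_alternatingGroup.2 (h.pr_sign x.2.1)
  have hA60 : Nat.card (alternatingGroup (Fin 5)) = 60 := by rw [Nat.card_eq_fintype_card]; rfl
  have hr60 : Nat.card φ.range ≤ 60 := hA60 ▸ Subgroup.card_le_of_le hrle
  have hprod : Nat.card φ.ker * Nat.card φ.range = Nat.card X := by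
    rw [← Subgroup.index_ker, Subgroup.card_mul_index]
  have hr : φ.range = alternatingGroup (Fin 5) := Subgroup.eq_of_le_of_card_ge hrle (by
    rw [hA60]
    by_contra hlt
    have := Nat.mul_le_mul hk (show Nat.card φ.range ≤ 59 by omega)
    omega)
  have hk1 : 1 < Nat.card φ.ker := by
    by_contra hlt
    have := Nat.mul_le_mul (show Nat.card φ.ker ≤ 1 by omega) hr60
    omega
  haveI : Nontrivial φ.ker := Finite.one_lt_card_iff_nontrivial.1 hk1
  obtain ⟨⟨k, hkk⟩, hkne⟩ := exists_ne (1 : φ.ker)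
  have hk1' : (k : G) ≠ 1 := fun e => hkne (Subtype.ext (Subtype.ext e))
  obtain ⟨⟨i, b⟩, hp⟩ := (hk2 k hkk).resolve_left hk1'
  obtain ⟨g, hg, hgi⟩ := transitive_fix i (i + 1)
  obtain ⟨x, hx⟩ : g ∈ φ.range := hr ▸ Equiv.Perm.mem_alternatingGroup.2 hg
  have hxk : x * k * x⁻¹ = k := by
    refine huniq _ _ (by rw [map_mul, map_mul, map_inv, (hkk : φ k = 1), mul_one, mul_inv_cancel]) hkk ?_ hk1'
    intro e
    exact hk1' (by
      have : x * k * x⁻¹ = 1 := Subtype.ext e
      rw [conj_eq_one_iff.1 this]; rfl)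
  have h1 := h.phi_pr x.2.1 (hkQ k hkk)
  have h2 : (x : G) * k * (x : G)⁻¹ = k := congrArg Subtype.val hxk
  have hphik : phi u (k : G) = allBut i := by
    rw [hp]
    cases b
    · exact h.phi_u i
    · show phi u (u i * z) = _
      rw [h.phi_mul (h.mem i) h.es.mem, h.phi_u, h.phi_z, add_zero]
  have h3 := h1 i
  rw [h2, hphik, ← hφ, hx, hgi] at h3
  have key : ∀ i : Fin 5, allBut i (i + 1) ≠ allBut i i := by decide +kernel
  exact key i h3

/-- If `C(t)` normalises `A` there are just three pairs over `t`, and `z` would have too few conjugates. -/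
theorem normal_false (h : Setting z Q u t)
    (hn : ∀ y ∈ Subgroup.centralizer ({t} : Set G), ∀ x ∈ cA z t, y * x * y⁻¹ ∈ cA z t) : False := by
  classical
  haveI : Fact (Nat.Prime 2) := ⟨Nat.prime_two⟩
  have hinvA : ∀ x ∈ Subgroup.centralizer ({t} : Set G), x * x = 1 → x ∈ cA z t := by
    intro x hx hx2
    obtain ⟨S, hS⟩ := h.exists_sylow_A
    have hSn : (S : Subgroup (Subgroup.centralizer ({t} : Set G))).Normal := by
      rw [hS]; exact ⟨fun a ha g => hn g g.2 a ha⟩
    have hp : IsPGroup 2 (Subgroup.zpowers (⟨x, hx⟩ : Subgroup.centralizer ({t} : Set G))) := by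
      refine fun a => ⟨1, ?_⟩
      obtain ⟨k, hk⟩ := Subgroup.mem_zpowers_iff.1 a.2
      refine Subtype.ext ?_
      rw [SubgroupClass.coe_pow, ← hk, pow_one, ← zpow_natCast, ← zpow_mul, mul_comm, zpow_mul, zpow_natCast,
        pow_two, show (⟨x, hx⟩ : Subgroup.centralizer ({t} : Set G)) * ⟨x, hx⟩ = 1 from Subtype.ext hx2,
        one_zpow]
      rfl
    obtain ⟨T, hT⟩ := hp.exists_le_sylow
    have := Sylow.unique_of_normal S hSn
    have hTS : T = S := Subsingleton.elim _ _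
    exact hS.le (hTS ▸ hT (Subgroup.mem_zpowers _))
  have hpairs : Nat.card {p : G × G // IsConj z p.1 ∧ IsConj t p.2 ∧ t ∈ Subgroup.zpowers (p.1 * p.2)} ≤ 3 := by
    let s : Finset (G × G) := {(z, z * t), (u h.pt, u h.pt * t), (u h.pt * z, u h.pt * z * t)}
    refine (Nat.card_le_card_of_injective (fun p => (⟨p.1, ?_⟩ : s)) fun p q e => Subtype.ext
      (by simpa using e)).trans (by rw [Nat.card_eq_fintype_card, Fintype.card_coe]; exact Finset.card_le_three)
    obtain ⟨⟨p, q⟩, hp, hq, hz⟩ := p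
    obtain ⟨k, hk⟩ := Subgroup.mem_zpowers_iff.1 hz
    have hp2 := (invol_iff.1 (h.orderOf_of_isConj hp)).1
    have hq2 := (invol_iff.1 (h.orderOf_of_isConj_t hq)).1
    have hpi : p⁻¹ = p := inv_eq_of_mul_eq_one_right hp2
    have hqi : q⁻¹ = q := inv_eq_of_mul_eq_one_right hq2
    have hcom : ∀ a ∈ ({p, q} : Set G), a ∈ Subgroup.centralizer ({t} : Set G) := by
      intro a ha
      have hinv : a * (p * q) * a⁻¹ = (p * q)⁻¹ := by
        rcases ha with rfl | rfl
        · rw [mul_inv_rev, hqi, hpi, ← mul_assoc a a q, hp2, one_mul]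
        · rw [mul_inv_rev, hqi, hpi, mul_assoc, mul_assoc p a a, hq2, mul_one]
      rw [Subgroup.mem_centralizer_singleton_iff]
      refine mul_inv_eq_iff_eq_mul.1 ?_
      rw [← hk, ← conj_zpow, hinv, inv_zpow, hk]
      exact inv_eq_of_mul_eq_one_right h.tsq
    have hpA := hinvA p (hcom p (by simp)) hp2
    have hqA := hinvA q (hcom q (by simp)) hq2
    have hpq2 := h.sq_A _ (mul_mem hpA hqA)
    have ht1 : t ≠ 1 := fun e => h.tnot (e ▸ one_mem Q)
    have hqe : q = p * t := by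
      obtain ⟨j, hj | hj⟩ := Int.even_or_odd' k
      · rw [hj, zpow_mul, zpow_two, hpq2, one_zpow] at hk
        exact absurd hk.symm ht1
      · rw [hj, zpow_add, zpow_mul, zpow_two, hpq2, one_zpow, zpow_one, one_mul] at hk
        rw [← hk, ← mul_assoc, hp2, one_mul]
    simp only [s, Finset.mem_insert, Finset.mem_singleton, Prod.mk.injEq]
    rcases h.conj_cases_A hp hpA with e | e | e <;> dsimp only at e ⊢ <;> simp [e, hqe]
  have hord := Cfsg.Agent.Lib.Involutions.Thompson.order_formula z t h.ord h.orderOf_t h.nconj h.classes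
  rw [h.card_pairs_z, h.cent] at hord
  have hM := h.card_le_of_normal hn
  have hcl := Cfsg.Agent.Lib.Involutions.Thompson.card_class_mul (G := G) z
  rw [h.cent, hord] at hcl
  apply h.class_z_large
  omega

theorem exists_str (h : Setting z Q u t) : ∃ V M0 : Subgroup G, TStr z t V M0 :=
  h.dichotomy.resolve_left h.normal_false

theorem card_group (h : Setting z Q u t) : Nat.card G = 604800 := by
  obtain ⟨V, M0, hs⟩ := h.exists_str
  have hord := Cfsg.Agent.Lib.Involutions.Thompson.order_formula z t h.ord h.orderOf_t h.nconj h.classes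
  rw [h.card_pairs_z, h.cent, hs.card_centralizer, hs.card_pairs_t h] at hord
  omega

theorem card_centralizer_t (h : Setting z Q u t) : Nat.card (Subgroup.centralizer ({t} : Set G)) = 240 := by
  obtain ⟨V, M0, hs⟩ := h.exists_str
  exact hs.card_centralizer

end Setting

end Cfsg.Agent.Lib.HallJanko
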