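import Mathlib
import Cfsg.Agent.Lib.LargeExtra.Basic
import Cfsg.Agent.Lib.DihedralCentralizer.Klein
import Cfsg.Agent.Lib.LargeExtraspecial.Basic

/-!
# Centralisers modulo a central subgroup of odd order

Owner: helper99.
-/

set_option autoImplicit false
set_option linter.style.haveILetI false

namespace Cfsg.Agent.Lib.HallJanko.Quot

/-- Three involutions generating a four-group, each fixing only the identity, fix an odd subgroup trivially. -/
theorem odd_trivial {H : Type*} [Group H] [Finite H] {a b : H} (ha : a * a = 1) (hb : b * b = 1)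
    (N : Subgroup H) (hn : N.Normal)
    (fa : ∀ k ∈ N, a * k * a⁻¹ = k → k = 1) (fb : ∀ k ∈ N, b * k * b⁻¹ = k → k = 1)
    (fab : ∀ k ∈ N, a * b * k * (a * b)⁻¹ = k → k = 1) : N = ⊥ := by
  have ia := Cfsg.Agent.Lib.LargeExtra.Basic.inverts_of_fixedPointFree ha N (fun k hk => hn.conj_mem k hk a) fa
  have ib := Cfsg.Agent.Lib.LargeExtra.Basic.inverts_of_fixedPointFree hb N (fun k hk => hn.conj_mem k hk b) fb
  refine (Subgroup.eq_bot_iff_forall N).2 fun k hk => fab k hk ?_
  calc a * b * k * (a * b)⁻¹ = a * (b * k * b⁻¹) * a⁻¹ := by group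
    _ = (a * k * a⁻¹)⁻¹ := by rw [ib k hk]; group
    _ = k := by rw [ia k hk, inv_inv]

/-- Modulo a normal subgroup of exponent `p` odd centralised by `v`, fixed cosets are cosets of fixed points. -/
theorem commute_of_quot {H : Type*} [Group H] {p : ℕ} (hp : Odd p) (Z : Subgroup H) [Z.Normal]
    (hZ : ∀ c ∈ Z, c ^ p = 1) {v x : H} (hv : v * v = 1) (hvZ : ∀ c ∈ Z, Commute v c)
    (h : Commute (QuotientGroup.mk' Z x) (QuotientGroup.mk' Z v)) : Commute x v := by
  set c := v⁻¹ * (x * v * x⁻¹) with hc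
  have hcZ : c ∈ Z := by
    rw [← QuotientGroup.eq_one_iff c, ← QuotientGroup.mk'_apply, hc, map_mul, map_inv, map_mul, map_mul,
      map_inv, mul_inv_eq_iff_eq_mul.2 h.eq, inv_mul_cancel]
  have e : x * v * x⁻¹ = v * c := by rw [hc, mul_inv_cancel_left]
  have h2 : c * c = 1 := by
    have h1 : v * c * (v * c) = 1 := by
      rw [← e, show x * v * x⁻¹ * (x * v * x⁻¹) = x * (v * v) * x⁻¹ by group, hv, mul_one, mul_inv_cancel]
    rwa [(hvZ c hcZ).symm.mul_mul_mul_comm, hv, one_mul] at h1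
  have hc1 : c = 1 := by
    obtain ⟨m, hm⟩ := hp
    have h3 := hZ c hcZ
    rwa [hm, pow_succ, pow_mul, pow_two, h2, one_pow, one_mul] at h3
  rw [hc1, mul_one] at e
  exact mul_inv_eq_iff_eq_mul.1 e

/-- A group whose involutions in a four-group `W` have centraliser exactly `W`. -/
theorem klein_cases {L : Type*} [Group L] [Finite L] (W : Subgroup L) (hW : Nat.card W = 4)
    (hsq : ∀ x ∈ W, x * x = 1) (hc : ∀ w ∈ W, w ≠ 1 → ∀ x, Commute x w → x ∈ W) :
    Nat.card L = 4 ∨ W.Normal ∨ Nonempty (L ≃* alternatingGroup (Fin 5)) := by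
  haveI : Fact (Nat.Prime 2) := ⟨Nat.prime_two⟩
  haveI : Nontrivial W := Finite.one_lt_card_iff_nontrivial.1 (by rw [hW]; norm_num)
  have hcomm : ∀ x ∈ W, ∀ y ∈ W, Commute x y := fun x hx y hy =>
    Cfsg.Agent.Lib.LargeExtraspecial.Basic.commute_of_sq hsq hx hy
  have hWp : IsPGroup 2 W := IsPGroup.of_card (n := 2) (by rw [hW]; norm_num)
  obtain ⟨P, hP⟩ := hWp.exists_le_sylow
  obtain ⟨⟨a, haW⟩, ha1⟩ := exists_ne (1 : W)
  have ha1' : a ≠ 1 := fun e => ha1 (Subtype.ext e)
  have hPW : (P : Subgroup L) = W := by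
    haveI : Nontrivial (P : Subgroup L) := ⟨⟨⟨a, hP haW⟩, 1, fun e => ha1' (congrArg Subtype.val e)⟩⟩
    haveI := P.2.center_nontrivial
    obtain ⟨⟨c, hcC⟩, hc1⟩ := exists_ne (1 : Subgroup.center (P : Subgroup L))
    have hcall : ∀ x ∈ (P : Subgroup L), Commute x (c : L) := fun x hx =>
      congrArg Subtype.val (Subgroup.mem_center_iff.1 hcC ⟨x, hx⟩)
    have hc1' : (c : L) ≠ 1 := fun e => hc1 (Subtype.ext (Subtype.ext e))
    have hcW : (c : L) ∈ W := hc a haW ha1' _ (hcall a (hP haW)).symm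
    exact le_antisymm (fun x hx => hc _ hcW hc1' x (hcall x hx)) hP
  have hao : orderOf a = 2 := orderOf_eq_prime (by rw [pow_two]; exact hsq a haW) ha1'
  have hCa : Subgroup.centralizer ({a} : Set L) = (P : Subgroup L) := by
    rw [hPW]
    ext x
    rw [Subgroup.mem_centralizer_singleton_iff]
    exact ⟨fun hx => hc a haW ha1' x hx, fun hx => hcomm x hx a haW⟩
  have hPK : IsKleinFour (P : Subgroup L) := by
    rw [hPW]
    exact ⟨hW, Monoid.exponent_eq_prime_iff Nat.prime_two |>.2 fun g hg =>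
      orderOf_eq_prime (by rw [pow_two]; exact Subtype.ext (hsq g g.2)) hg⟩
  obtain ⟨b, hbW, hb1, hba⟩ : ∃ b ∈ W, b ≠ 1 ∧ b ≠ a := by
    by_contra hcon
    simp only [not_exists, not_and, not_not] at hcon
    haveI : Fintype W := Fintype.ofFinite _
    classical
    have hsub : (Finset.univ : Finset W) ⊆ {1, ⟨a, haW⟩} := fun x _ => by
      by_cases hx : x = 1
      · simp [hx]
      · rw [Finset.mem_insert, Finset.mem_singleton]
        exact Or.inr (Subtype.ext (hcon x x.2 fun e => hx (Subtype.ext e)))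
    have := (Finset.card_le_card hsub).trans Finset.card_le_two
    rw [Finset.card_univ, ← Nat.card_eq_fintype_card, hW] at this
    omega
  have hab : a * b ∈ W := mul_mem haW hbW
  have hab1 : a * b ≠ 1 := fun e => hba (by
    rw [eq_inv_of_mul_eq_one_right e, inv_eq_of_mul_eq_one_right (hsq a haW)])
  have hfix : ∀ w ∈ W, w ≠ 1 → ∀ N : Subgroup L, Odd (Nat.card N) → ∀ k ∈ N, w * k * w⁻¹ = k → k = 1 := by
    intro w hw hw1 N hN k hk e
    have hkW := hc w hw hw1 k (mul_inv_eq_iff_eq_mul.1 e).symm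
    refine orderOf_eq_one_iff.1 ?_
    have h1 : orderOf k ∣ 2 := orderOf_dvd_of_pow_eq_one (by rw [pow_two, hsq k hkW])
    have h2 : Odd (orderOf k) := hN.of_dvd_nat (Subgroup.orderOf_dvd_natCard N hk)
    rcases (Nat.dvd_prime Nat.prime_two).1 h1 with e' | e'
    · exact e'
    · rw [e'] at h2; exact absurd h2 (by decide)
  have hO : ∀ N : Subgroup L, N.Normal → Odd (Nat.card N) → N = ⊥ := fun N hn hN =>
    odd_trivial (hsq a haW) (hsq b hbW) N hn (hfix a haW ha1' N hN) (hfix b hbW hb1 N hN) (hfix _ hab hab1 N hN)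
  rcases Cfsg.Agent.Lib.DihedralCentralizer.Klein.cases P hPK hao hCa hO with hnc | hn | hi
  · left
    obtain ⟨P', N, hN, hcomp⟩ := hnc
    have hP' : Nat.card (P' : Subgroup L) = 4 := by
      rw [Sylow.card_eq_multiplicity, ← P.card_eq_multiplicity, hPW, hW]
    have hodd : Odd (Nat.card N) := by
      have h1 := P'.not_dvd_index
      rw [hcomp.index_eq_card] at h1
      exact Nat.odd_iff.2 (Nat.two_dvd_ne_zero.1 h1)
    rw [← hcomp.card_mul_card, hO N hN hodd, Subgroup.card_bot, one_mul, hP']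
  · exact Or.inr (Or.inl (hPW ▸ hn))
  · exact Or.inr (Or.inr hi)

end Cfsg.Agent.Lib.HallJanko.Quot
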