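import Mathlib
import Cfsg.Agent.Lib.HallJanko.Order
import Cfsg.Agent.Lib.HallJanko.Quot
import Cfsg.Agent.Lib.Involutions.IndexTwo

/-!
# Hall-Janko type: the centralisers of the elements of order five

Owner: helper99.
-/

set_option autoImplicit false
set_option linter.style.haveILetI false

namespace Cfsg.Agent.Lib.HallJanko

open Cfsg.Agent.Lib.LargeExtraspecial.Basic Cfsg.Agent.Lib.HallJanko.Model
open Cfsg.Agent.Lib.Involutions.Basic (invol_iff orderOf_conj_eq)

variable {G : Type*} [Group G] [Finite G] {z : G} {Q : Subgroup G} {u : Fin 5 → G} {t : G}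
variable {V M0 : Subgroup G}

set_option synthInstance.maxSize 4000 in
theorem alt_cent_odd : ∀ σ : Equiv.Perm (Fin 5), Equiv.Perm.sign σ = 1 → σ ≠ 1 → (σ * σ * σ = 1 ∨ σ * σ * σ * σ * σ = 1) →
    ∀ τ : Equiv.Perm (Fin 5), Equiv.Perm.sign τ = 1 → σ * τ = τ * σ → ∃ i : Fin 5, τ = σ ^ i.val := by decide +kernel

theorem alt_inverted : ∀ σ : Equiv.Perm (Fin 5), Equiv.Perm.sign σ = 1 →
    ∃ τ : Equiv.Perm (Fin 5), Equiv.Perm.sign τ = 1 ∧ τ * σ * τ⁻¹ = σ⁻¹ := by decide +kernel

theorem sylow_five_card (h : Setting z Q u t) (P : Sylow 5 G) :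
    Nat.card (P : Subgroup G) = 25 ∧ ∀ x ∈ (P : Subgroup G), ∀ y ∈ (P : Subgroup G), Commute x y := by
  haveI : Fact (Nat.Prime 5) := ⟨by norm_num⟩
  have hfac : (Nat.card G).factorization 5 = 2 := by
    rw [h.card_group, show (604800 : ℕ) = 5 ^ 2 * 24192 by norm_num,
      Nat.factorization_mul (by norm_num) (by norm_num), Finsupp.add_apply, Nat.factorization_pow,
      Finsupp.smul_apply, Nat.Prime.factorization_self (by norm_num),
      Nat.factorization_eq_zero_of_not_dvd (by norm_num)]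
    rfl
  have h25 : Nat.card (P : Subgroup G) = 25 := by rw [Sylow.card_eq_multiplicity, hfac]; norm_num
  refine ⟨h25, fun x hx y hy => ?_⟩
  haveI := IsPGroup.isMulCommutative_of_card_eq_prime_sq (p := 5) (G := (P : Subgroup G)) (by rw [h25]; norm_num)
  exact congrArg Subtype.val (mul_comm' (⟨x, hx⟩ : (P : Subgroup G)) ⟨y, hy⟩)

namespace TStr

theorem exists_orderOf (hs : TStr z t V M0) (p : ℕ) [Fact p.Prime] (hp : p ∣ 60) :
    ∃ x ∈ M0, orderOf x = p := by
  obtain ⟨x, hx⟩ := exists_prime_orderOf_dvd_card' (G := M0) p (by rwa [hs.cardM0])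
  exact ⟨x, x.2, by rw [Subgroup.orderOf_coe]; exact hx⟩

/-- The involutions of `V` have the same centraliser as `t`. -/
theorem centralizer_eq (h : Setting z Q u t) (hs : TStr z t V M0) {v : G} (hv : v ∈ V) (hv1 : v ≠ 1) :
    IsConj t v ∧ Subgroup.centralizer ({v} : Set G) = Subgroup.centralizer ({t} : Set G) := by
  have hv2 := hs.Vsq v hv
  have hnot : ¬ IsConj z v := fun hc => hv1 (hs.disj v hv ((hs.conj_iff v (hs.Vle hv)).1 hc).1)
  have hconj : IsConj t v := (h.classes v (invol_iff.2 ⟨hv2, hv1⟩)).resolve_left hnot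
  refine ⟨hconj, (Subgroup.eq_of_le_of_card_ge (fun x hx => ?_) ?_).symm⟩
  · obtain ⟨w, hw, m, hm, rfl⟩ := hs.decomp x hx
    refine mem_centralizer_of_commute (Commute.mul_left ?_ ((hs.comm v hv m hm).symm))
    exact commute_of_sq hs.Vsq hw hv
  · obtain ⟨g, rfl⟩ := isConj_iff.1 hconj
    refine le_of_eq ?_
    have h1 := Cfsg.Agent.Lib.Involutions.Thompson.card_class_mul (G := G) t
    have h2 := Cfsg.Agent.Lib.Involutions.Thompson.card_class_mul (G := G) (g * t * g⁻¹)
    have h3 : Nat.card {u : G // IsConj (g * t * g⁻¹) u} = Nat.card {u : G // IsConj t u} :=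
      Nat.card_congr (Equiv.subtypeEquivRight fun x => ⟨fun hx => hconj.trans hx, fun hx => hconj.symm.trans hx⟩)
    rw [h3, ← h1] at h2
    exact Nat.eq_of_mul_eq_mul_left (Nat.pos_of_ne_zero (fun e => by
      rw [e, zero_mul] at h1
      exact (Nat.card_pos (α := G)).ne' h1.symm)) h2

/-- `C(t) ∩ C(b) = V × ⟨b⟩` for `b ∈ M₀` of order three or five. -/
theorem cent_elt (hs : TStr z t V M0) {b : G} (hb : b ∈ M0) (hb1 : b ≠ 1) (hord : orderOf b = 3 ∨ orderOf b = 5)
    {x : G} (hx : x ∈ Subgroup.centralizer ({t} : Set G)) (hxb : Commute x b) :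
    ∃ v ∈ V, ∃ c ∈ Subgroup.zpowers b, x = v * c := by
  obtain ⟨v, hv, m, hm, rfl⟩ := hs.decomp x hx
  refine ⟨v, hv, m, ?_, rfl⟩
  obtain ⟨e⟩ := hs.iso
  have hmb : (⟨b, hb⟩ : M0) * ⟨m, hm⟩ = ⟨m, hm⟩ * ⟨b, hb⟩ := Subtype.ext (by
    have h1 := (hs.comm v hv b hb).inv_left.mul_left hxb
    rw [inv_mul_cancel_left] at h1
    exact h1.eq.symm)
  set σ : Equiv.Perm (Fin 5) := (e ⟨b, hb⟩ : Equiv.Perm (Fin 5)) with hσ
  have hσ1 : σ ≠ 1 := fun q => hb1 (congrArg Subtype.val
    (show (⟨b, hb⟩ : M0) = 1 from e.injective (by rw [map_one]; exact Subtype.ext q)))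
  have hpow : ∀ n : ℕ, b ^ n = 1 → σ ^ n = 1 := fun n hn => by
    rw [hσ, ← SubgroupClass.coe_pow, ← map_pow, show (⟨b, hb⟩ : M0) ^ n = 1 from Subtype.ext (by simpa using hn),
      map_one]
    rfl
  have hσn : σ * σ * σ = 1 ∨ σ * σ * σ * σ * σ = 1 := by
    rcases hord with q | q
    · left
      have := hpow 3 (q ▸ pow_orderOf_eq_one b)
      simpa [pow_succ] using this
    · right
      have := hpow 5 (q ▸ pow_orderOf_eq_one b)
      simpa [pow_succ] using this
  obtain ⟨i, hi⟩ := alt_cent_odd σ (Equiv.Perm.mem_alternatingGroup.1 (e ⟨b, hb⟩).2) hσ1 hσn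
    (e ⟨m, hm⟩ : Equiv.Perm (Fin 5)) (Equiv.Perm.mem_alternatingGroup.1 (e ⟨m, hm⟩).2)
    (by rw [hσ, ← Subgroup.coe_mul, ← Subgroup.coe_mul, ← map_mul, ← map_mul, hmb])
  have h2 : (⟨m, hm⟩ : M0) = ⟨b, hb⟩ ^ i.val := e.injective (Subtype.ext (by
    rw [map_pow, SubgroupClass.coe_pow]; exact hi))
  rw [show m = b ^ i.val by simpa using congrArg Subtype.val h2]
  exact Subgroup.npow_mem_zpowers b _

end TStr

/-- The quotient of `C(b)` by `⟨b⟩` and the four-group in it, for `b ∈ M₀` of order `3` or `5`. -/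
theorem TStr.quot_facts (h : Setting z Q u t) (hs : TStr z t V M0) {b : G} (hb : b ∈ M0) {p : ℕ}
    (hp : p = 3 ∨ p = 5) (hord : orderOf b = p) :
    ∃ (_ : (Subgroup.zpowers (⟨b, mem_centralizer_of_commute (Commute.refl b)⟩ :
        Subgroup.centralizer ({b} : Set G))).Normal) (W : Subgroup (Subgroup.centralizer ({b} : Set G) ⧸
          Subgroup.zpowers (⟨b, mem_centralizer_of_commute (Commute.refl b)⟩ :
            Subgroup.centralizer ({b} : Set G)))),
      Nat.card W = 4 ∧ (∀ x ∈ W, x * x = 1) ∧ ∀ w ∈ W, w ≠ 1 → ∀ x, Commute x w → x ∈ W := by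
  set B : Subgroup.centralizer ({b} : Set G) := ⟨b, mem_centralizer_of_commute (Commute.refl b)⟩ with hB
  have hBc : ∀ x : Subgroup.centralizer ({b} : Set G), Commute x B := fun x => Subtype.ext (commute_of_mem x.2).eq
  have hn : (Subgroup.zpowers B).Normal := by
    refine ⟨fun c hc x => ?_⟩
    obtain ⟨k, rfl⟩ := Subgroup.mem_zpowers_iff.1 hc
    rw [mul_inv_eq_iff_eq_mul.2 ((hBc x).zpow_right k).eq]
    exact Subgroup.zpow_mem_zpowers _ _
  haveI := hn
  have hb1 : b ≠ 1 := fun e => by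
    rw [e, orderOf_one] at hord; omega
  have hVC : V ≤ Subgroup.centralizer ({b} : Set G) := fun v hv =>
    mem_centralizer_of_commute (hs.comm v hv b hb)
  let ι : V →* (Subgroup.centralizer ({b} : Set G) ⧸ Subgroup.zpowers B) :=
    (QuotientGroup.mk' (Subgroup.zpowers B)).comp (Subgroup.inclusion hVC)
  have hBp : ∀ c ∈ Subgroup.zpowers B, c ^ p = 1 := fun c hc => by
    obtain ⟨k, rfl⟩ := Subgroup.mem_zpowers_iff.1 hc
    rw [← zpow_natCast, zpow_comm, zpow_natCast, show B ^ p = 1 from Subtype.ext (by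
      rw [SubgroupClass.coe_pow, ← hord]; exact pow_orderOf_eq_one b), one_zpow]
  have hmemB : ∀ c ∈ Subgroup.zpowers B, (c : G) ∈ Subgroup.zpowers b := fun c hc => by
    obtain ⟨k, rfl⟩ := Subgroup.mem_zpowers_iff.1 hc
    rw [SubgroupClass.coe_zpow]
    exact Subgroup.zpow_mem_zpowers _ _
  have hιinj : Function.Injective ι := by
    rw [injective_iff_map_eq_one]
    intro v hv
    have h1 : Subgroup.inclusion hVC v ∈ Subgroup.zpowers B := (QuotientGroup.eq_one_iff _).1 hv
    have h2 : (v : G) ∈ Subgroup.zpowers b := hmemB _ h1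
    exact Subtype.ext (hs.disj v.1 v.2 ((Subgroup.zpowers_le.2 hb) h2))
  refine ⟨hn, ι.range, ?_, ?_, ?_⟩
  · rw [← Nat.card_congr (MonoidHom.ofInjective hιinj).toEquiv, hs.cardV]
  · rintro _ ⟨v, rfl⟩
    rw [← map_mul, show v * v = 1 from Subtype.ext (hs.Vsq v v.2), map_one]
  · rintro _ ⟨v, rfl⟩ hw x hx
    obtain ⟨y, rfl⟩ := QuotientGroup.mk'_surjective _ x
    have hv1 : (v : G) ≠ 1 := fun e => hw (by rw [show v = 1 from Subtype.ext e, map_one])
    have hc := Quot.commute_of_quot (p := p) (by rcases hp with rfl | rfl <;> decide) (Subgroup.zpowers B) hBp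
      (v := Subgroup.inclusion hVC v) (x := y) (Subtype.ext (hs.Vsq v.1 v.2)) (fun c hc => by
        obtain ⟨k, rfl⟩ := Subgroup.mem_zpowers_iff.1 hc
        exact (hBc _).zpow_right k) hx
    obtain ⟨-, hCv⟩ := hs.centralizer_eq h v.2 hv1
    have hyt : (y : G) ∈ Subgroup.centralizer ({t} : Set G) := by
      rw [← hCv]; exact mem_centralizer_of_commute (congrArg Subtype.val hc.eq : (y : G) * v = v * y)
    obtain ⟨w, hw', c, hc', e⟩ := hs.cent_elt hb hb1 (by rw [hord]; exact hp) hyt (commute_of_mem y.2)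
    refine ⟨⟨w, hw'⟩, ?_⟩
    show QuotientGroup.mk' _ (Subgroup.inclusion hVC ⟨w, hw'⟩) = QuotientGroup.mk' _ y
    refine QuotientGroup.eq.2 ?_
    obtain ⟨k, hk⟩ := Subgroup.mem_zpowers_iff.1 hc'
    refine Subgroup.mem_zpowers_iff.2 ⟨k, Subtype.ext ?_⟩
    show b ^ k = w⁻¹ * (y : G)
    rw [hk, e, inv_mul_cancel_left]

namespace TStr

/-- The centraliser of `f' ∈ M₀` of order five. -/
theorem cent_five (h : Setting z Q u t) (hs : TStr z t V M0) {f : G} (hf : f ∈ M0) (hf5 : orderOf f = 5) :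
    Nat.card (Subgroup.centralizer ({f} : Set G)) = 300 ∧
      ∀ P : Sylow 5 G, f ∈ (P : Subgroup G) →
        (∀ x, (∀ y ∈ (P : Subgroup G), Commute x y) → x ∈ (P : Subgroup G)) ∧
          Nat.card (Subgroup.centralizer ({f} : Set G) ⊓ Subgroup.normalizer ((P : Subgroup G) : Set G) :
            Subgroup G) = 50 := by
  haveI : Fact (Nat.Prime 5) := ⟨by norm_num⟩
  set C := Subgroup.centralizer ({f} : Set G) with hC
  set B : C := ⟨f, mem_centralizer_of_commute (Commute.refl f)⟩ with hB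
  obtain ⟨hn, W, hW4, hWsq, hWc⟩ := hs.quot_facts h hf (Or.inr rfl) hf5
  haveI := hn
  have hB5 : Nat.card (Subgroup.zpowers B) = 5 := by
    rw [Nat.card_zpowers, ← Subgroup.orderOf_coe]; exact hf5
  have hcardC : Nat.card C = 5 * Nat.card (C ⧸ Subgroup.zpowers B) := by
    rw [← hB5, ← Subgroup.index_eq_card, Subgroup.card_mul_index]
  have h25 : 25 ∣ Nat.card C := by
    have hp : IsPGroup 5 (Subgroup.zpowers f) := IsPGroup.of_card (n := 1) (by rw [Nat.card_zpowers, hf5, pow_one])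
    obtain ⟨P, hP⟩ := hp.exists_le_sylow
    obtain ⟨h25, hab⟩ := sylow_five_card h P
    exact h25 ▸ Subgroup.card_dvd_of_le (fun x hx =>
      mem_centralizer_of_commute (hab x hx f (hP (Subgroup.mem_zpowers f))))
  have h5L : 5 ∣ Nat.card (C ⧸ Subgroup.zpowers B) := by
    rw [hcardC] at h25
    exact Nat.dvd_of_mul_dvd_mul_left (by norm_num) (show 5 * 5 ∣ _ from h25)
  obtain ⟨e⟩ : Nonempty ((C ⧸ Subgroup.zpowers B) ≃* alternatingGroup (Fin 5)) := by
    rcases Quot.klein_cases W hW4 hWsq hWc with h4 | hnorm | hi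
    · exfalso; rw [h4] at h5L; norm_num at h5L
    · exfalso
      obtain ⟨x, hx⟩ := exists_prime_orderOf_dvd_card' (G := C ⧸ Subgroup.zpowers B) 5 h5L
      -- `x` permutes the three involutions of `W`
      classical
      haveI : Fintype W := Fintype.ofFinite _
      let c : Equiv.Perm W :=
        { toFun := fun w => ⟨x * w * x⁻¹, hnorm.conj_mem w w.2 x⟩
          invFun := fun w => ⟨x⁻¹ * w * x, by simpa using hnorm.conj_mem w w.2 x⁻¹⟩
          left_inv := fun w => Subtype.ext (by show x⁻¹ * (x * (w : C ⧸ Subgroup.zpowers B) * x⁻¹) * x = _; group)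
          right_inv := fun w => Subtype.ext (by show x * (x⁻¹ * (w : C ⧸ Subgroup.zpowers B) * x) * x⁻¹ = _; group) }
      have hc5 : c ^ 5 = 1 := by
        have key : ∀ (n : ℕ) (w : W), ((c ^ n) w : C ⧸ Subgroup.zpowers B) = x ^ n * w * (x ^ n)⁻¹ := by
          intro n
          induction n with
          | zero => intro w; simp
          | succ n ih =>
            intro w
            rw [pow_succ', Equiv.Perm.mul_apply]
            show x * ((c ^ n) w : C ⧸ Subgroup.zpowers B) * x⁻¹ = _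
            rw [ih, pow_succ']; group
        refine Equiv.ext fun w => Subtype.ext ?_
        rw [key, ← hx, pow_orderOf_eq_one, inv_one, mul_one, one_mul]; rfl
      have hc1 : c = 1 := by
        rcases (Nat.dvd_prime (by norm_num : Nat.Prime 5)).1 (orderOf_dvd_of_pow_eq_one hc5) with q | q
        · exact orderOf_eq_one_iff.1 q
        · have h1 := orderOf_dvd_natCard c
          rw [q, Nat.card_perm, hW4] at h1
          exact absurd h1 (by decide)
      haveI : Nontrivial W := Finite.one_lt_card_iff_nontrivial.1 (by rw [hW4]; norm_num)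
      obtain ⟨w, hw1⟩ := exists_ne (1 : W)
      have hxw : x * (w : C ⧸ Subgroup.zpowers B) * x⁻¹ = w := congrArg (fun σ : Equiv.Perm W => (σ w).1) hc1
      have hxW := hWc w w.2 (fun q => hw1 (Subtype.ext q)) x (mul_inv_eq_iff_eq_mul.1 hxw)
      have h1 := Subgroup.orderOf_dvd_natCard W hxW
      rw [hx, hW4] at h1
      norm_num at h1
    · exact hi
  have hA60 : Nat.card (alternatingGroup (Fin 5)) = 60 := by rw [Nat.card_eq_fintype_card]; rfl
  have hC300 : Nat.card C = 300 := by rw [hcardC, Nat.card_congr e.toEquiv, hA60]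
  refine ⟨hC300, fun P hfP => ?_⟩
  obtain ⟨hP25, hPab⟩ := sylow_five_card h P
  have hPC : (P : Subgroup G) ≤ C := fun x hx => mem_centralizer_of_commute (hPab x hx f hfP)
  -- the image of `P` in `A₅`
  let q : C →* Equiv.Perm (Fin 5) :=
    (alternatingGroup (Fin 5)).subtype.comp (e.toMonoidHom.comp (QuotientGroup.mk' (Subgroup.zpowers B)))
  have hqk : q.ker = Subgroup.zpowers B := by
    ext x
    rw [MonoidHom.mem_ker, ← QuotientGroup.eq_one_iff (N := Subgroup.zpowers B)]
    constructor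
    · intro hx
      exact e.injective (by rw [map_one]; exact Subtype.ext hx)
    · intro hx
      show ((e (QuotientGroup.mk x) : alternatingGroup (Fin 5)) : Equiv.Perm (Fin 5)) = 1
      rw [hx, map_one]; rfl
  obtain ⟨g, hgP, hg1⟩ : ∃ g : C, (g : G) ∈ (P : Subgroup G) ∧ q g ≠ 1 := by
    by_contra hall
    simp only [not_exists, not_and, not_not] at hall
    have hle : (P : Subgroup G).subgroupOf C ≤ Subgroup.zpowers B := fun x hx => hqk ▸ hall x hx
    have h1 := Subgroup.card_le_of_le hle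
    rw [Nat.card_congr (Subgroup.subgroupOfEquivOfLe hPC).toEquiv, hP25, hB5] at h1
    omega
  have hg5 : orderOf (q g) = 5 := by
    have hd : orderOf (q g) ∣ 25 := by
      rw [← hP25]
      refine (orderOf_map_dvd q g).trans ?_
      rw [← Subgroup.orderOf_coe]
      exact Subgroup.orderOf_dvd_natCard _ hgP
    have h60 : orderOf (q g) ∣ 60 := by
      show orderOf ((e (QuotientGroup.mk g) : alternatingGroup (Fin 5)) : Equiv.Perm (Fin 5)) ∣ 60
      rw [Subgroup.orderOf_coe, ← hA60]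
      exact orderOf_dvd_natCard _
    exact ((Nat.dvd_prime (by norm_num : Nat.Prime 5)).1 ((Nat.dvd_gcd hd h60).trans (by norm_num))).resolve_left
      fun e' => hg1 (orderOf_eq_one_iff.1 e')
  have hgσ : q g * q g * q g * q g * q g = 1 := by
    have := pow_orderOf_eq_one (q g)
    rw [hg5] at this
    simpa [pow_succ] using this
  refine ⟨fun x hx => ?_, ?_⟩
  · have hxC : x ∈ C := mem_centralizer_of_commute (hx f hfP)
    obtain ⟨i, hi⟩ := alt_cent_odd (q g) (Equiv.Perm.mem_alternatingGroup.1 (e _).2) hg1 (Or.inr hgσ)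
      (q ⟨x, hxC⟩) (Equiv.Perm.mem_alternatingGroup.1 (e _).2)
      (by rw [← map_mul, ← map_mul, show g * ⟨x, hxC⟩ = ⟨x, hxC⟩ * g from Subtype.ext (hx g hgP).eq.symm])
    have hk : (g ^ i.val)⁻¹ * ⟨x, hxC⟩ ∈ q.ker := by
      rw [MonoidHom.mem_ker, map_mul, map_inv, map_pow, hi, inv_mul_cancel]
    rw [hqk] at hk
    obtain ⟨k, hk⟩ := Subgroup.mem_zpowers_iff.1 hk
    have hx' : x = (g : G) ^ i.val * f ^ k := by
      have := congrArg Subtype.val hk
      simp only [SubgroupClass.coe_zpow, Subgroup.coe_mul, Subgroup.coe_inv, SubgroupClass.coe_pow] at this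
      rw [show f ^ k = ((B : C) : G) ^ k from rfl, this, mul_inv_cancel_left]
    rw [hx']
    exact mul_mem (pow_mem hgP _) (zpow_mem hfP _)
  · set N := C ⊓ Subgroup.normalizer ((P : Subgroup G) : Set G) with hN
    let P' : Sylow 5 C := P.subtype hPC
    have hcongr : Nat.card (Sylow 5 C) ≡ 1 [MOD 5] := card_sylow_modEq_one 5 C
    have hidx : Nat.card (Sylow 5 C) * Nat.card N = 300 := by
      rw [P'.card_eq_index_normalizer, ← hC300,
        ← Subgroup.card_mul_index (Subgroup.normalizer ((P' : Subgroup C) : Set C)), mul_comm]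
      congr 1
      refine Nat.card_congr
        { toFun := fun x => ⟨⟨x.1, x.2.1⟩, ?_⟩
          invFun := fun x => ⟨(x.1 : G), x.1.2, ?_⟩
          left_inv := fun x => rfl
          right_inv := fun x => rfl }
      · exact Subgroup.mem_normalizer_iff.2 fun a => Subgroup.mem_normalizer_iff.1 x.2.2 (a : G)
      · refine Subgroup.mem_normalizer_iff.2 fun a => ?_
        have hx := Subgroup.mem_normalizer_iff.1 x.2
        constructor
        · intro ha
          exact (hx ⟨a, hPC ha⟩).1 ha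
        · intro ha
          have haC : a ∈ C := by
            rw [show a = (x.1 : G)⁻¹ * ((x.1 : G) * a * (x.1 : G)⁻¹) * (x.1 : G) by group]
            exact mul_mem (mul_mem (inv_mem x.1.2) (hPC ha)) x.1.2
          exact (hx ⟨a, haC⟩).2 ha
    have h25N : 25 ∣ Nat.card N := hP25 ▸ Subgroup.card_dvd_of_le (le_inf hPC Subgroup.le_normalizer)
    have hne : Nat.card (Sylow 5 C) ≠ 1 := by
      intro h1
      -- `P` would be normal, so its image normal in `A₅`
      haveI : IsSimpleGroup (alternatingGroup (Fin 5)) := alternatingGroup.isSimpleGroup_five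
      obtain ⟨hsub, -⟩ := Nat.card_eq_one_iff_unique.1 h1
      haveI : (P' : Subgroup C).Normal := Subgroup.normalizer_eq_top_iff.1 (by
        rw [← Subgroup.index_eq_one]; exact P'.card_eq_index_normalizer.symm.trans h1)
      have hmapn : ((P' : Subgroup C).map (e.toMonoidHom.comp (QuotientGroup.mk' (Subgroup.zpowers B)))).Normal :=
        Subgroup.Normal.map inferInstance _ (e.surjective.comp (QuotientGroup.mk'_surjective _))
      rcases IsSimpleGroup.eq_bot_or_eq_top_of_normal _ hmapn with hb | ht'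
      · refine hg1 ?_
        have h2 : e (QuotientGroup.mk g) ∈
            (P' : Subgroup C).map (e.toMonoidHom.comp (QuotientGroup.mk' (Subgroup.zpowers B))) := ⟨g, hgP, rfl⟩
        rw [hb, Subgroup.mem_bot] at h2
        exact congrArg Subtype.val h2
      · have h2 := Subgroup.card_map_dvd (P' : Subgroup C)
          (e.toMonoidHom.comp (QuotientGroup.mk' (Subgroup.zpowers B)))
        rw [ht', Subgroup.card_top, hA60, Sylow.coe_subtype,
          Nat.card_congr (Subgroup.subgroupOfEquivOfLe hPC).toEquiv, hP25] at h2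
        norm_num at h2
    obtain ⟨m, hm⟩ := h25N
    rw [hm] at hidx ⊢
    have hdvd : Nat.card (Sylow 5 C) ∣ 12 := ⟨m, by rw [← mul_assoc, mul_comm _ 25, mul_assoc] at hidx; omega⟩
    have hle := Nat.le_of_dvd (by norm_num) hdvd
    unfold Nat.ModEq at hcongr
    generalize Nat.card (Sylow 5 C) = s at hidx hdvd hle hcongr hne
    interval_cases s <;> omega

end TStr

namespace Setting

/-- The centraliser of an element of order five of `C(z)`. -/
theorem cent_five_z (h : Setting z Q u t) {f : G} (hf : f ∈ Subgroup.centralizer ({z} : Set G))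
    (hf5 : orderOf f = 5) (hself : ∀ P : Sylow 5 G, ∀ x, (∀ y ∈ (P : Subgroup G), Commute x y) → x ∈ (P : Subgroup G)) :
    Nat.card (Subgroup.centralizer ({f} : Set G)) = 50 ∧ IsConj f f⁻¹ := by
  classical
  haveI : Fact (Nat.Prime 5) := ⟨by norm_num⟩
  haveI : Fact (Nat.Prime 2) := ⟨Nat.prime_two⟩
  refine ⟨?_, ?_⟩
  swap
  · obtain ⟨τ, hτ, hτσ⟩ := alt_inverted (h.pr f) (h.pr_sign hf)
    obtain ⟨c, hc, hcτ⟩ := h.exists_lift τ hτ
    -- Sylow's theorem in `⟨Q, f⟩`
    set C := Subgroup.centralizer ({z} : Set G) with hC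
    set R : Subgroup C := (Subgroup.zpowers (⟨f, hf⟩ : C)) with hR
    have hRcard : Nat.card R = 5 := by rw [hR, Nat.card_zpowers, ← Subgroup.orderOf_coe]; exact hf5
    have hmem : c * f * c⁻¹ * f ∈ Q := by
      refine h.mem_of_pr (mul_mem (mul_mem (mul_mem hc hf) (inv_mem hc)) hf) ?_
      rw [h.pr_mul (mul_mem (mul_mem hc hf) (inv_mem hc)) hf, h.pr_mul (mul_mem hc hf) (inv_mem hc),
        h.pr_mul hc hf, h.pr_inv hc, hcτ, hτσ, inv_mul_cancel]
    -- the group `H = Q⟨f⟩` as a preimage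
    let π : C →* Equiv.Perm (Fin 5) := h.perm
    set H : Subgroup C := Subgroup.comap π (R.map π) with hH
    have hπ : ∀ x : C, π x = h.pr x := fun x => (h.pr_eq x.2).symm
    have hfH : (⟨f, hf⟩ : C) ∈ H := Subgroup.mem_comap.2 ⟨_, Subgroup.mem_zpowers _, rfl⟩
    have hgH : (⟨c * f * c⁻¹, mul_mem (mul_mem hc hf) (inv_mem hc)⟩ : C) ∈ H := by
      refine Subgroup.mem_comap.2 ⟨(⟨f, hf⟩ : C)⁻¹, inv_mem (Subgroup.mem_zpowers _), ?_⟩
      rw [map_inv, hπ, hπ, h.pr_mul (mul_mem hc hf) (inv_mem hc), h.pr_mul hc hf, h.pr_inv hc, hcτ, hτσ]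
    have hker : π.ker = Q.subgroupOf C := by
      ext x
      exact ⟨fun hx => h.mem_of_perm_eq_one x hx, fun hx => h.perm_of_mem x hx⟩
    have hcardH : Nat.card H = 32 * 5 := by
      have hRH : R ≤ H := Subgroup.le_comap_map _ _
      have h1 := Subgroup.card_mul_index (π.ker.subgroupOf H)
      have hkH : π.ker ≤ H := fun x hx => by
        refine Subgroup.mem_comap.2 ?_
        rw [MonoidHom.mem_ker.1 hx]; exact one_mem _
      have h32 : Nat.card π.ker = 32 := by
        rw [hker, Nat.card_congr (Subgroup.subgroupOfEquivOfLe h.toBase.z_mem_centralizer).toEquiv, h.card]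
      rw [Nat.card_congr (Subgroup.subgroupOfEquivOfLe hkH).toEquiv, h32] at h1
      have h2 : (π.ker.subgroupOf H).index = Nat.card (R.map π) := by
        have e : π.ker.subgroupOf H = (π.domRestrict H).ker := by
          ext x; rfl
        rw [e, Subgroup.index_ker, MonoidHom.domRestrict_range, hH,
          Subgroup.map_comap_eq_self (Subgroup.map_le_range _ _)]
      have h5 : Nat.card (R.map π) = 5 := by
        have hd := Subgroup.card_map_dvd R π
        rw [hRcard] at hd
        refine ((Nat.dvd_prime (by norm_num : Nat.Prime 5)).1 hd).resolve_left fun e1 => ?_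
        have h0 : π ⟨f, hf⟩ ∈ R.map π := ⟨_, Subgroup.mem_zpowers _, rfl⟩
        rw [Subgroup.card_eq_one.1 e1, Subgroup.mem_bot, hπ] at h0
        have hq := Subgroup.orderOf_dvd_natCard Q (h.mem_of_pr hf h0)
        rw [hf5, h.card] at hq
        norm_num at hq
      rw [← h1, h2, h5]
    let Rf : Subgroup H := Subgroup.zpowers ⟨_, hfH⟩
    let Rg : Subgroup H := Subgroup.zpowers ⟨_, hgH⟩
    have hcf : Nat.card Rf = 5 := by
      rw [Nat.card_zpowers, ← Subgroup.orderOf_coe, ← Subgroup.orderOf_coe]; exact hf5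
    have hcg : Nat.card Rg = 5 := by
      rw [Nat.card_zpowers, ← Subgroup.orderOf_coe, ← Subgroup.orderOf_coe]
      exact (orderOf_conj_eq c f).trans hf5
    have hfac : (Nat.card H).factorization 5 = 1 := by
      rw [hcardH, Nat.factorization_mul (by norm_num) (by norm_num), Finsupp.add_apply,
        Nat.Prime.factorization_self (by norm_num), Nat.factorization_eq_zero_of_not_dvd (by norm_num)]
    let S1 : Sylow 5 H := Sylow.ofCard Rf (by rw [hcf, hfac]; norm_num)
    let S2 : Sylow 5 H := Sylow.ofCard Rg (by rw [hcg, hfac]; norm_num)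
    obtain ⟨w, hw⟩ := MulAction.exists_smul_eq H S2 S1
    have hmem2 : w * ⟨_, hgH⟩ * w⁻¹ ∈ Rf := by
      have : w * ⟨_, hgH⟩ * w⁻¹ ∈ (S1 : Subgroup H) := by
        rw [← hw, Sylow.coe_subgroup_smul]
        exact ⟨⟨_, hgH⟩, Subgroup.mem_zpowers _, rfl⟩
      exact this
    obtain ⟨k, hk⟩ := Subgroup.mem_zpowers_iff.1 hmem2
    have hk' : (w.1.1 : G) * (c * f * c⁻¹) * (w.1.1 : G)⁻¹ = f ^ k := by
      have := congrArg (fun x : H => ((x : C) : G)) hk
      simp only [Subgroup.coe_zpow, Subgroup.coe_mul, Subgroup.coe_inv] at this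
      exact this.symm
    -- compare on the five points
    have hwC : (w.1.1 : G) ∈ C := w.1.2
    obtain ⟨r, hr, hrw⟩ := Subgroup.mem_map.1 (Subgroup.mem_comap.1 w.2)
    obtain ⟨j, rfl⟩ := Subgroup.mem_zpowers_iff.1 hr
    rw [map_zpow, hπ, hπ] at hrw
    have hprk : h.pr f ^ k = (h.pr f)⁻¹ := by
      have h1 : h.pr (f ^ k) = h.pr f ^ k := by
        rw [← hπ ⟨f, hf⟩, ← map_zpow, hπ]
        rfl
      rw [← h1, ← hk', h.pr_mul (mul_mem hwC (mul_mem (mul_mem hc hf) (inv_mem hc))) (inv_mem hwC),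
        h.pr_mul hwC (mul_mem (mul_mem hc hf) (inv_mem hc)), h.pr_mul (mul_mem hc hf) (inv_mem hc),
        h.pr_mul hc hf, h.pr_inv hwC, h.pr_inv hc, hcτ, hτσ, ← hrw]
      exact (((Commute.refl (h.pr f)).zpow_left j).inv_right.eq ▸ mul_inv_cancel_right _ _)
    have hq : f ^ k * f ∈ Q := by
      refine h.mem_of_pr (mul_mem (zpow_mem hf k) hf) ?_
      rw [h.pr_mul (zpow_mem hf k) hf]
      have h1 : h.pr (f ^ k) = h.pr f ^ k := by
        rw [← hπ ⟨f, hf⟩, ← map_zpow, hπ]
        rfl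
      rw [h1, hprk, inv_mul_cancel]
    have h1 : f ^ k * f = 1 := by
      refine orderOf_eq_one_iff.1 ?_
      have ha : orderOf (f ^ k * f) ∣ 5 := by
        rw [← zpow_add_one, ← hf5]; exact orderOf_dvd_of_pow_eq_one (by
          rw [← zpow_natCast, ← zpow_mul, mul_comm, zpow_mul, zpow_natCast, pow_orderOf_eq_one, one_zpow])
      have hb := Subgroup.orderOf_dvd_natCard Q hq
      rw [h.card] at hb
      exact Nat.dvd_one.1 ((Nat.dvd_gcd ha hb).trans (by norm_num))
    refine isConj_iff.2 ⟨(w.1.1 : G) * c, ?_⟩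
    rw [eq_inv_of_mul_eq_one_left h1] at hk'
    rw [← hk']; group
  -- the order of `C(f)`
  set H := Subgroup.centralizer ({f} : Set G) with hH
  have hzH : z ∈ H := mem_centralizer_of_commute (commute_of_mem hf).symm
  set zH : H := ⟨z, hzH⟩ with hzH'
  have hz2 : orderOf zH = 2 := by rw [← Subgroup.orderOf_coe]; exact h.ord
  have hR10 := (h.toFive.cent_five hf hf5)
  have hCz : Nat.card (Subgroup.centralizer ({zH} : Set H)) = 10 := by
    rw [← hR10]
    refine Nat.card_congr
      { toFun := fun x => ⟨(x.1 : G), mem_centralizer_of_commute (congrArg Subtype.val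
          (Subgroup.mem_centralizer_singleton_iff.1 x.2) : (x.1 : G) * z = z * x.1), x.1.2⟩
        invFun := fun x => ⟨⟨x.1, x.2.2⟩, Subgroup.mem_centralizer_singleton_iff.2
          (Subtype.ext (commute_of_mem x.2.1).eq)⟩
        left_inv := fun x => rfl
        right_inv := fun x => rfl }
  obtain ⟨T, hT⟩ := (IsPGroup.of_card (G := Subgroup.zpowers zH) (n := 1)
    (by rw [Nat.card_zpowers, hz2, pow_one])).exists_le_sylow
  have hTz : (T : Subgroup H) = Subgroup.zpowers zH := by
    by_contra hne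
    haveI : Group.IsNilpotent (T : Subgroup H) := T.2.isNilpotent
    have hlt : (Subgroup.zpowers zH).subgroupOf (T : Subgroup H) < ⊤ :=
      lt_top_iff_ne_top.2 fun e => hne (le_antisymm (Subgroup.subgroupOf_eq_top.1 e) hT)
    obtain ⟨y, hyN, hy⟩ := SetLike.exists_of_lt (Group.normalizerCondition_of_isNilpotent _ hlt)
    have h1 : (y : H) * zH * (y : H)⁻¹ ∈ Subgroup.zpowers zH :=
      (Subgroup.mem_normalizer_iff.1 hyN ⟨zH, hT (Subgroup.mem_zpowers _)⟩).1 (Subgroup.mem_zpowers _)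
    rcases Cfsg.Agent.Lib.LargeExtra.Basic.eq_one_or_eq hz2 h1 with e | e
    · exact h.es.ne (congrArg Subtype.val (conj_eq_one_iff.1 e))
    · let K := (T : Subgroup H) ⊓ Subgroup.centralizer ({zH} : Set H)
      have hKp : IsPGroup 2 K := T.2.to_le inf_le_left
      obtain ⟨n, hn⟩ := hKp.exists_card_eq
      have hd : Nat.card K ∣ 10 := hCz ▸ Subgroup.card_dvd_of_le inf_le_right
      have hn1 : n ≤ 1 := by
        rcases n with _ | _ | n
        · omega
        · omega
        · exfalso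
          have h4 : 4 ∣ 10 := (Dvd.intro (2 ^ n) (by rw [hn]; ring)).trans hd
          norm_num at h4
      have hzK : Subgroup.zpowers zH ≤ K := Subgroup.zpowers_le.2
        ⟨hT (Subgroup.mem_zpowers _), Subgroup.mem_centralizer_singleton_iff.2 rfl⟩
      have hKz : Subgroup.zpowers zH = K := Subgroup.eq_of_le_of_card_ge hzK (by
        rw [hn, Nat.card_zpowers, hz2]
        calc 2 ^ n ≤ 2 ^ 1 := Nat.pow_le_pow_right (by norm_num) hn1
          _ = 2 := rfl)
      refine hy ?_
      show (y : H) ∈ Subgroup.zpowers zH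
      rw [hKz]
      exact ⟨y.2, Subgroup.mem_centralizer_singleton_iff.2 (mul_inv_eq_iff_eq_mul.1 e)⟩
  obtain ⟨N, hN⟩ := Cfsg.Agent.Lib.Involutions.IndexTwo.exists_index_two_of_cyclic_sylow
    (by rw [even_iff_two_dvd, ← hz2]; exact orderOf_dvd_natCard zH) T (by rw [hTz]; infer_instance)
  haveI hNn : N.Normal := Subgroup.normal_of_index_eq_two hN
  have hNodd : Odd (Nat.card N) := by
    rw [← Nat.not_even_iff_odd, even_iff_two_dvd]
    intro hd
    have h1 : 4 ∣ Nat.card H := by
      rw [← Subgroup.card_mul_index N, hN]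
      exact Nat.mul_dvd_mul hd dvd_rfl
    have h2 := Subgroup.card_mul_index (T : Subgroup H)
    rw [hTz, Nat.card_zpowers, hz2] at h2
    have h3 := T.not_dvd_index
    rw [hTz] at h3
    rw [← h2] at h1
    exact h3 (Nat.dvd_of_mul_dvd_mul_left (by norm_num) (show 2 * 2 ∣ 2 * _ from h1))
  have hzN : zH ∉ N := fun hm => by
    have h1 := hNodd.of_dvd_nat (Subgroup.orderOf_dvd_natCard N hm)
    rw [hz2] at h1
    exact absurd h1 (by decide)
  obtain ⟨P, hP⟩ := (IsPGroup.of_card (G := Subgroup.zpowers f) (n := 1)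
    (by rw [Nat.card_zpowers, hf5, pow_one])).exists_le_sylow
  obtain ⟨hP25, hPab⟩ := sylow_five_card h P
  have hPH : (P : Subgroup G) ≤ H := fun x hx => mem_centralizer_of_commute (hPab x hx f (hP (Subgroup.mem_zpowers f)))
  have hoddN : ∀ x : H, Odd (orderOf x) → x ∈ N := by
    intro x hx
    by_contra hxN
    obtain ⟨m, hm⟩ := hx
    have h1 : x ^ (2 * m + 1) ∈ N := by rw [← hm, pow_orderOf_eq_one]; exact one_mem _
    rw [pow_succ, pow_mul] at h1
    have h2 : (x ^ 2) ^ m ∈ N := pow_mem (by rw [pow_two]; exact Subgroup.mul_self_mem_of_index_two hN x) m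
    exact hxN ((Subgroup.mul_mem_cancel_left N h2).1 h1)
  have hPN : ∀ x (hx : x ∈ (P : Subgroup G)), (⟨x, hPH hx⟩ : H) ∈ N := fun x hx => hoddN _ (by
    rw [← Subgroup.orderOf_coe]
    exact (show Odd (Nat.card (P : Subgroup G)) by rw [hP25]; decide).of_dvd_nat (Subgroup.orderOf_dvd_natCard _ hx))
  -- commutators of `N` lie in `⟨f⟩`
  set B : H := ⟨f, mem_centralizer_of_commute (Commute.refl f)⟩ with hB
  have hBc : ∀ x : H, Commute x B := fun x => Subtype.ext (commute_of_mem x.2).eq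
  haveI hBn : (Subgroup.zpowers B).Normal := by
    refine ⟨fun c hc x => ?_⟩
    obtain ⟨k, rfl⟩ := Subgroup.mem_zpowers_iff.1 hc
    rw [mul_inv_eq_iff_eq_mul.2 ((hBc x).zpow_right k).eq]
    exact Subgroup.zpow_mem_zpowers _ _
  have hcomm : ∀ x ∈ N, ∀ y ∈ N, x * y * x⁻¹ * y⁻¹ ∈ Subgroup.zpowers B := by
    let π := QuotientGroup.mk' (Subgroup.zpowers B)
    have hB5 : ∀ c ∈ Subgroup.zpowers B, c ^ 5 = 1 := fun c hc => by
      obtain ⟨k, rfl⟩ := Subgroup.mem_zpowers_iff.1 hc
      rw [← zpow_natCast, zpow_comm, zpow_natCast, show B ^ 5 = 1 from Subtype.ext (by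
        rw [SubgroupClass.coe_pow, ← hf5]; exact pow_orderOf_eq_one f), one_zpow]
    have hzz : zH * zH = 1 := Subtype.ext h.es.sq
    have hfix : ∀ k ∈ N.map π, π zH * k * (π zH)⁻¹ = k → k = 1 := by
      rintro _ ⟨a, ha, rfl⟩ hk
      have hc := Quot.commute_of_quot (p := 5) (by decide) (Subgroup.zpowers B) hB5 (v := zH) (x := a) hzz
        (fun c hc => by
          obtain ⟨k, rfl⟩ := Subgroup.mem_zpowers_iff.1 hc
          exact (hBc _).zpow_right k) (mul_inv_eq_iff_eq_mul.1 hk).symm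
      have haK : a ∈ N ⊓ Subgroup.centralizer ({zH} : Set H) :=
        ⟨ha, Subgroup.mem_centralizer_singleton_iff.2 hc.eq⟩
      have h5 : Nat.card (N ⊓ Subgroup.centralizer ({zH} : Set H) : Subgroup H) ∣ 5 := by
        have hd : Nat.card (N ⊓ Subgroup.centralizer ({zH} : Set H) : Subgroup H) ∣ 10 :=
          hCz ▸ Subgroup.card_dvd_of_le inf_le_right
        have ho : Odd (Nat.card (N ⊓ Subgroup.centralizer ({zH} : Set H) : Subgroup H)) :=
          hNodd.of_dvd_nat (Subgroup.card_dvd_of_le inf_le_left)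
        exact (Nat.Coprime.dvd_of_dvd_mul_right (Nat.coprime_two_right.2 ho) (show _ ∣ 5 * 2 from hd))
      have hBmem : B ∈ N ⊓ Subgroup.centralizer ({zH} : Set H) :=
        ⟨hoddN B (by rw [← Subgroup.orderOf_coe]; show Odd (orderOf f); rw [hf5]; decide),
          Subgroup.mem_centralizer_singleton_iff.2 (hBc zH).eq.symm⟩
      have heq : Subgroup.zpowers B = N ⊓ Subgroup.centralizer ({zH} : Set H) :=
        Subgroup.eq_of_le_of_card_ge (Subgroup.zpowers_le.2 hBmem) (by
          rw [Nat.card_zpowers, ← Subgroup.orderOf_coe]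
          show _ ≤ orderOf f
          rw [hf5]; exact Nat.le_of_dvd (by norm_num) h5)
      exact (QuotientGroup.eq_one_iff a).2 (heq ▸ haK)
    have hinv := Cfsg.Agent.Lib.LargeExtra.Basic.inverts_of_fixedPointFree
      (t := π zH) (by rw [← map_mul, hzz, map_one]) (N.map π)
      (fun k hk => by
        obtain ⟨a, ha, rfl⟩ := hk
        exact ⟨zH * a * zH⁻¹, hNn.conj_mem a ha zH, by rw [map_mul, map_mul, map_inv]⟩) hfix
    intro x hx y hy
    rw [← QuotientGroup.eq_one_iff, ← QuotientGroup.mk'_apply]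
    have e1 := hinv _ ⟨x, hx, rfl⟩
    have e2 := hinv _ ⟨y, hy, rfl⟩
    have e3 := hinv _ ⟨x * y, mul_mem hx hy, rfl⟩
    rw [map_mul, mul_inv_rev] at e3
    have hc : Commute (π x) (π y) := by
      have e4 : π zH * (π x * π y) * (π zH)⁻¹ = (π x)⁻¹ * (π y)⁻¹ := by
        calc π zH * (π x * π y) * (π zH)⁻¹ = (π zH * π x * (π zH)⁻¹) * (π zH * π y * (π zH)⁻¹) := by group
          _ = (π x)⁻¹ * (π y)⁻¹ := by rw [e1, e2]
      rw [e3, ← mul_inv_rev, ← mul_inv_rev] at e4
      exact inv_inj.1 e4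
    show π (x * y * x⁻¹ * y⁻¹) = 1
    rw [map_mul, map_mul, map_mul, map_inv, map_inv, hc.eq, mul_inv_cancel_right, mul_inv_cancel]
  have hNp : IsPGroup 5 N := by
    intro a
    obtain ⟨k, m, hm5, hm⟩ := Nat.exists_eq_pow_mul_and_not_dvd (orderOf_pos a).ne' 5 (by norm_num)
    refine ⟨k, ?_⟩
    set x := a ^ 5 ^ k with hx
    have hxm : x ^ m = 1 := by rw [hx, ← pow_mul, ← hm, pow_orderOf_eq_one]
    have hxP : ∀ y ∈ (P : Subgroup G), Commute ((x : H) : G) y := by
      intro y hy
      set yy : H := ⟨y, hPH hy⟩ with hyy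
      have hc := hcomm (x : H) x.2 yy (hPN y hy)
      set c := (x : H) * yy * (x : H)⁻¹ * yy⁻¹ with hcdef
      have e : (x : H) * yy * (x : H)⁻¹ = c * yy := by rw [hcdef, inv_mul_cancel_right]
      have hcc : ∀ w : H, Commute w c := fun w => by
        obtain ⟨j, hj⟩ := Subgroup.mem_zpowers_iff.1 hc
        rw [← hj]; exact (hBc w).zpow_right j
      have key : ∀ n : ℕ, (x : H) ^ n * yy * ((x : H) ^ n)⁻¹ = c ^ n * yy := by
        intro n
        induction n with
        | zero => simp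
        | succ n ih =>
          calc (x : H) ^ (n + 1) * yy * ((x : H) ^ (n + 1))⁻¹
              = (x : H) * ((x : H) ^ n * yy * ((x : H) ^ n)⁻¹) * (x : H)⁻¹ := by rw [pow_succ']; group
            _ = ((x : H) * c ^ n * (x : H)⁻¹) * ((x : H) * yy * (x : H)⁻¹) := by rw [ih]; group
            _ = c ^ n * (c * yy) := by rw [mul_inv_eq_iff_eq_mul.2 ((hcc (x : H)).pow_right n).eq, e]
            _ = c ^ (n + 1) * yy := by rw [pow_succ]; exact (mul_assoc _ _ _).symm
      have h1 := key m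
      rw [← SubgroupClass.coe_pow, hxm, OneMemClass.coe_one, one_mul, inv_one, mul_one] at h1
      have hcm : c ^ m = 1 := mul_eq_right.1 h1.symm
      have hc5 : c ^ 5 = 1 := by
        obtain ⟨j, hj⟩ := Subgroup.mem_zpowers_iff.1 hc
        rw [← hj, ← zpow_natCast, zpow_comm, zpow_natCast, show B ^ 5 = 1 from Subtype.ext (by
          rw [SubgroupClass.coe_pow, ← hf5]; exact pow_orderOf_eq_one f), one_zpow]
      have hc1 : c = 1 := by
        have h2 := pow_gcd_eq_one.2 ⟨hcm, hc5⟩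
        rwa [show m.gcd 5 = 1 from ((Nat.Prime.coprime_iff_not_dvd (by norm_num)).2 hm5).symm, pow_one] at h2
      rw [hc1, one_mul] at e
      exact congrArg Subtype.val (mul_inv_eq_iff_eq_mul.1 e)
    have hxPm := hself P _ hxP
    have hd := Subgroup.orderOf_dvd_natCard _ hxPm
    rw [hP25, Subgroup.orderOf_coe, Subgroup.orderOf_coe] at hd
    refine orderOf_eq_one_iff.1 (Nat.eq_one_of_dvd_coprimes ?_ hd (orderOf_dvd_of_pow_eq_one hxm))
    rw [show (25 : ℕ) = 5 ^ 2 by norm_num]
    exact ((Nat.Prime.coprime_iff_not_dvd (by norm_num)).2 hm5).pow_left 2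
  obtain ⟨n, hn⟩ := hNp.exists_card_eq
  have hd : Nat.card N ∣ 604800 := h.card_group ▸ (Subgroup.card_subgroup_dvd_card N).trans
    (Subgroup.card_subgroup_dvd_card H)
  have hn2 : n ≤ 2 := by
    by_contra hlt
    rw [hn] at hd
    have := (pow_dvd_pow 5 (show 3 ≤ n by omega)).trans hd
    norm_num at this
  have h25 : 25 ≤ Nat.card N := by
    rw [← hP25]
    exact Nat.card_le_card_of_injective (fun x : (P : Subgroup G) => (⟨⟨x.1, hPH x.2⟩, hPN x.1 x.2⟩ : N))
      (fun a b e => Subtype.ext (congrArg (fun w : N => ((w : H) : G)) e))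
  rw [hn] at h25
  rw [← Subgroup.card_mul_index N, hN, hn]
  interval_cases n <;> omega

end Setting

end Cfsg.Agent.Lib.HallJanko
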