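import Mathlib
import Cfsg.Agent.Lib.HallJanko.FiveCent

/-!
# Hall-Janko type: the Sylow `5`-subgroups

Owner: helper99.
-/

set_option autoImplicit false
set_option linter.style.haveILetI false

namespace Cfsg.Agent.Lib.HallJanko

open Cfsg.Agent.Lib.Involutions.Basic (invol_iff orderOf_conj_eq)
open Cfsg.Agent.Lib.Involutions.Thompson (card_class_mul)

variable {G : Type*} [Group G] [Finite G] {z : G} {Q : Subgroup G} {u : Fin 5 → G} {t : G}

theorem card_centralizer_of_isConj {a b : G} (h : IsConj a b) :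
    Nat.card (Subgroup.centralizer ({a} : Set G)) = Nat.card (Subgroup.centralizer ({b} : Set G)) := by
  have h1 := card_class_mul (G := G) a
  have h2 := card_class_mul (G := G) b
  have h3 : Nat.card {u : G // IsConj b u} = Nat.card {u : G // IsConj a u} :=
    Nat.card_congr (Equiv.subtypeEquivRight fun x => ⟨fun hx => h.trans hx, fun hx => h.symm.trans hx⟩)
  rw [h3] at h2
  rw [← h1] at h2
  exact (Nat.eq_of_mul_eq_mul_left (Nat.pos_of_ne_zero (fun e => by
    rw [e, zero_mul] at h1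
    exact (Nat.card_pos (α := G)).ne' h1.symm)) h2).symm

theorem centralizer_zpowers_pow {a : G} {p : ℕ} (hp : p.Prime) (ha : orderOf a = p) {i : ℤ}
    (hi : a ^ i ≠ 1) : Subgroup.centralizer ({a ^ i} : Set G) = Subgroup.centralizer ({a} : Set G) := by
  haveI : Fact p.Prime := ⟨hp⟩
  have h5 : Nat.card (Subgroup.zpowers a) = p := by rw [Nat.card_zpowers, ha]
  have hmem : a ∈ Subgroup.zpowers (a ^ i) := by
    have hle : Subgroup.zpowers (a ^ i) ≤ Subgroup.zpowers a :=
      Subgroup.zpowers_le.2 (Subgroup.zpow_mem_zpowers _ _)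
    rw [Subgroup.eq_of_le_of_card_ge hle (by
      rw [h5, Nat.card_zpowers]
      have hd : orderOf (a ^ i) ∣ p := h5 ▸ Subgroup.orderOf_dvd_natCard _ (Subgroup.zpow_mem_zpowers _ _)
      rcases (Nat.dvd_prime hp).1 hd with e | e
      · exact absurd (orderOf_eq_one_iff.1 e) hi
      · rw [e])]
    exact Subgroup.mem_zpowers a
  obtain ⟨j, hj⟩ := Subgroup.mem_zpowers_iff.1 hmem
  ext x
  rw [Subgroup.mem_centralizer_singleton_iff, Subgroup.mem_centralizer_singleton_iff]
  exact ⟨fun hx => hj ▸ (show Commute x (a ^ i) from hx).zpow_right j,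
    fun hx => (show Commute x a from hx).zpow_right i⟩

theorem mem_normalizer_of_conj (H : Subgroup G) {g : G} (h : ∀ x ∈ H, g * x * g⁻¹ ∈ H) :
    g ∈ Subgroup.normalizer (H : Set G) := by
  refine Subgroup.mem_normalizer_iff_map_conj_eq.2 (Subgroup.eq_of_le_of_card_ge ?_ ?_)
  · rintro _ ⟨x, hx, rfl⟩
    exact h x hx
  · exact (Subgroup.card_map_of_injective (MulAut.conj g).injective).ge

/-- The orbit of `f` under the normalizer of `P`. -/
theorem card_orbit_mul (N : Subgroup G) {f : G} (hf : f ∈ N) :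
    Nat.card {y : G // ∃ n ∈ N, n * f * n⁻¹ = y} *
      Nat.card (N ⊓ Subgroup.centralizer ({f} : Set G) : Subgroup G) = Nat.card N := by
  have h1 := card_class_mul (G := N) ⟨f, hf⟩
  have e1 : Nat.card {y : N // IsConj (⟨f, hf⟩ : N) y} = Nat.card {y : G // ∃ n ∈ N, n * f * n⁻¹ = y} := by
    refine Nat.card_congr (Equiv.ofBijective (fun y => ⟨(y.1 : G), ?_⟩) ⟨fun a b e => ?_, fun y => ?_⟩)
    · obtain ⟨c, hc⟩ := isConj_iff.1 y.2
      exact ⟨c, c.2, congrArg Subtype.val hc⟩
    · exact Subtype.ext (Subtype.ext (congrArg (fun w => w.1) e))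
    · obtain ⟨y, n, hn, hny⟩ := y
      have hyN : y ∈ N := hny ▸ mul_mem (mul_mem hn hf) (inv_mem hn)
      exact ⟨⟨⟨y, hyN⟩, isConj_iff.2 ⟨⟨n, hn⟩, Subtype.ext hny⟩⟩, rfl⟩
  have e2 : Nat.card (Subgroup.centralizer ({(⟨f, hf⟩ : N)} : Set N)) =
      Nat.card (N ⊓ Subgroup.centralizer ({f} : Set G) : Subgroup G) := by
    refine Nat.card_congr
      { toFun := fun x => ⟨(x.1 : G), x.1.2, mem_centralizer_of_commute
          (congrArg Subtype.val (Subgroup.mem_centralizer_singleton_iff.1 x.2) : (x.1 : G) * f = f * x.1)⟩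
        invFun := fun x => ⟨⟨x.1, x.2.1⟩, Subgroup.mem_centralizer_singleton_iff.2
          (Subtype.ext (commute_of_mem x.2.2).eq)⟩
        left_inv := fun x => rfl
        right_inv := fun x => rfl }
  rwa [e1, e2] at h1

namespace Setting

theorem self_five (h : Setting z Q u t) (P : Sylow 5 G) {x : G}
    (hx : ∀ y ∈ (P : Subgroup G), Commute x y) : x ∈ (P : Subgroup G) := by
  haveI : Fact (Nat.Prime 5) := ⟨by norm_num⟩
  obtain ⟨V, M0, hs⟩ := h.exists_str
  obtain ⟨f', hf', hf'5⟩ := hs.exists_orderOf 5 (by norm_num)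
  obtain ⟨P₀, hP₀⟩ := (IsPGroup.of_card (G := Subgroup.zpowers f') (n := 1)
    (by rw [Nat.card_zpowers, hf'5, pow_one])).exists_le_sylow
  obtain ⟨g, hg⟩ := MulAction.exists_smul_eq G P P₀
  have hself := ((hs.cent_five h hf' hf'5).2 P₀ (hP₀ (Subgroup.mem_zpowers f'))).1
  have hgx : g * x * g⁻¹ ∈ (P₀ : Subgroup G) := by
    refine hself _ fun y hy => ?_
    rw [← hg, Sylow.coe_subgroup_smul] at hy
    obtain ⟨y', hy', rfl⟩ := hy
    exact (hx y' hy').map (MulAut.conj g)
  rw [← hg, Sylow.coe_subgroup_smul] at hgx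
  obtain ⟨w, hw, e⟩ := hgx
  have : x = w := (MulAut.conj g).injective (show MulAut.conj g x = MulAut.conj g w from e.symm)
  exact this ▸ hw

/-- A Sylow `5`-subgroup contains representatives `f`, `f'` of two kinds. -/
theorem exists_pair (h : Setting z Q u t) (P : Sylow 5 G) :
    ∃ f ∈ (P : Subgroup G), ∃ f' ∈ (P : Subgroup G), orderOf f = 5 ∧ orderOf f' = 5 ∧ IsConj f f⁻¹ ∧
      Nat.card (Subgroup.centralizer ({f} : Set G)) = 50 ∧ Nat.card (Subgroup.centralizer ({f'} : Set G)) = 300 ∧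
      Nat.card (Subgroup.normalizer ((P : Subgroup G) : Set G) ⊓ Subgroup.centralizer ({f'} : Set G) :
        Subgroup G) = 50 := by
  haveI : Fact (Nat.Prime 5) := ⟨by norm_num⟩
  obtain ⟨V, M0, hs⟩ := h.exists_str
  obtain ⟨a, ha, ha5⟩ := hs.exists_orderOf 5 (by norm_num)
  obtain ⟨b, hb⟩ := exists_prime_orderOf_dvd_card' (G := Subgroup.centralizer ({z} : Set G)) 5
    (by rw [h.cent]; norm_num)
  have hb5 : orderOf (b : G) = 5 := by rw [Subgroup.orderOf_coe]; exact hb
  obtain ⟨hb50, hbr⟩ := h.cent_five_z b.2 hb5 fun P x hx => h.self_five P hx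
  have key : ∀ c : G, orderOf c = 5 → ∃ g : G, g * c * g⁻¹ ∈ (P : Subgroup G) := by
    intro c hc
    obtain ⟨T, hT⟩ := (IsPGroup.of_card (G := Subgroup.zpowers c) (n := 1)
      (by rw [Nat.card_zpowers, hc, pow_one])).exists_le_sylow
    obtain ⟨g, hg⟩ := MulAction.exists_smul_eq G T P
    refine ⟨g, ?_⟩
    rw [← hg, Sylow.coe_subgroup_smul]
    exact ⟨c, hT (Subgroup.mem_zpowers c), rfl⟩
  obtain ⟨g, hgP⟩ := key _ hb5
  obtain ⟨k, hkP⟩ := key a ha5
  have hcb : IsConj (b : G) (g * b * g⁻¹) := isConj_iff.2 ⟨g, rfl⟩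
  have hca : IsConj a (k * a * k⁻¹) := isConj_iff.2 ⟨k, rfl⟩
  obtain ⟨ha300, haP⟩ := hs.cent_five h ha ha5
  refine ⟨_, hgP, _, hkP, (orderOf_conj_eq g (b : G)).trans hb5, (orderOf_conj_eq k a).trans ha5, ?_,
    (card_centralizer_of_isConj hcb).symm.trans hb50, (card_centralizer_of_isConj hca).symm.trans ha300, ?_⟩
  · refine hcb.symm.trans (hbr.trans (isConj_iff.2 ⟨g, ?_⟩))
    group
  · -- move to a Sylow subgroup containing `a`
    set P' : Sylow 5 G := k⁻¹ • P with hP'
    have haP' : a ∈ (P' : Subgroup G) := by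
      rw [hP', Sylow.coe_subgroup_smul]
      exact ⟨k * a * k⁻¹, hkP, by simp [mul_assoc]⟩
    rw [← (haP P' haP').2]
    have hmemN : ∀ x, x ∈ Subgroup.normalizer ((P' : Subgroup G) : Set G) ↔
        k * x * k⁻¹ ∈ Subgroup.normalizer ((P : Subgroup G) : Set G) := by
      intro x
      have hmem : ∀ y, y ∈ (P' : Subgroup G) ↔ k * y * k⁻¹ ∈ (P : Subgroup G) := fun y => by
        rw [hP', Sylow.coe_subgroup_smul, Subgroup.mem_pointwise_smul_iff_inv_smul_mem]
        simp [MulAut.smul_def, mul_assoc]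
      simp only [Subgroup.mem_normalizer_iff, hmem]
      constructor
      · intro hx y
        have := hx (k⁻¹ * y * k)
        simpa [mul_assoc] using this
      · intro hx y
        have := hx (k * y * k⁻¹)
        simpa [mul_assoc] using this
    refine Nat.card_congr
      { toFun := fun x => ⟨k⁻¹ * x.1 * k, ?_, ?_⟩
        invFun := fun x => ⟨k * x.1 * k⁻¹, ?_, ?_⟩
        left_inv := fun x => Subtype.ext (by show k * (k⁻¹ * (x : G) * k) * k⁻¹ = x; group)
        right_inv := fun x => Subtype.ext (by show k⁻¹ * (k * (x : G) * k⁻¹) * k = x; group) }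
    · refine mem_centralizer_of_commute ?_
      have := (commute_of_mem x.2.2).map (MulAut.conj k⁻¹)
      simpa [mul_assoc] using this
    · refine (hmemN _).2 ?_
      simpa [mul_assoc] using x.2.1
    · exact (hmemN _).1 x.2.2
    · exact mem_centralizer_of_commute ((commute_of_mem x.2.1).map (MulAut.conj k))

theorem sylow_five_full (h : Setting z Q u t) (P : Sylow 5 G) :
    (∃ f' : G, Nat.card (Subgroup.centralizer ({f'} : Set G)) = 300 ∧ ∀ c : G, orderOf c = 5 →
      Nat.card (Subgroup.centralizer ({c} : Set G)) = 50 ∨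
        (Nat.card (Subgroup.centralizer ({c} : Set G)) = 300 ∧
          ∃ g : G, ∀ x, Commute x c ↔ Commute (g * x * g⁻¹) f')) ∧
    Subgroup.centralizer ((P : Subgroup G) : Set G) = P ∧ Nat.card P = 25 ∧
      Nat.card (Subgroup.normalizer ((P : Subgroup G) : Set G)) = 300 ∧
      ∃ X Y : Subgroup G, Nat.card X = 5 ∧ Nat.card Y = 5 ∧ (∀ g : G, X.map (MulAut.conj g).toMonoidHom ≠ Y) ∧
        ∀ W : Subgroup G, Nat.card W = 5 → ∃ g : G, W.map (MulAut.conj g).toMonoidHom = X ∨
          W.map (MulAut.conj g).toMonoidHom = Y := by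
  classical
  haveI : Fact (Nat.Prime 5) := ⟨by norm_num⟩
  have hP25 : Nat.card (P : Subgroup G) = 25 := (sylow_five_card h P).1
  have hPab := (sylow_five_card h P).2
  have hCP : Subgroup.centralizer ((P : Subgroup G) : Set G) = P := by
    refine le_antisymm (fun x hx => h.self_five P fun y hy => ((Subgroup.mem_centralizer_iff.1 hx y hy)).symm)
      fun x hx => Subgroup.mem_centralizer_iff.2 fun y hy => hPab y hy x hx
  set N := Subgroup.normalizer ((P : Subgroup G) : Set G) with hN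
  have hPN : (P : Subgroup G) ≤ N := Subgroup.le_normalizer
  obtain ⟨f, hfP, f', hf'P, hf5, hf'5, hreal, hCf, hCf', hNf'⟩ := h.exists_pair P
  have hNf : Nat.card (N ⊓ Subgroup.centralizer ({f} : Set G) : Subgroup G) = 50 := by
    rw [← hCf]
    congr 1
    suffices hle : Subgroup.centralizer ({f} : Set G) ≤ N by rw [inf_eq_right.2 hle]
    -- `P` is normal of index two in `C(f)`
    have hPC : (P : Subgroup G) ≤ Subgroup.centralizer ({f} : Set G) := fun x hx =>
      mem_centralizer_of_commute (hPab x hx f hfP)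
    have hi : ((P : Subgroup G).subgroupOf (Subgroup.centralizer ({f} : Set G))).index = 2 := by
      have h1 := Subgroup.card_mul_index ((P : Subgroup G).subgroupOf (Subgroup.centralizer ({f} : Set G)))
      rw [Nat.card_congr (Subgroup.subgroupOfEquivOfLe hPC).toEquiv, hP25, hCf] at h1
      omega
    exact (Subgroup.normal_subgroupOf_iff_le_normalizer hPC).1 (Subgroup.normal_of_index_eq_two hi)
  have hof := card_orbit_mul N (hPN hfP)
  have hof' := card_orbit_mul N (hPN hf'P)
  rw [hNf] at hof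
  rw [hNf'] at hof'
  let orb : G → Finset G := fun a => (Set.toFinite {y : G | ∃ n ∈ N, n * a * n⁻¹ = y}).toFinset
  have horb : ∀ a y, y ∈ orb a ↔ ∃ n ∈ N, n * a * n⁻¹ = y := fun a y => by
    simp only [orb, Set.Finite.mem_toFinset, Set.mem_setOf_eq]
  have hocard : ∀ a, (orb a).card = Nat.card {y : G // ∃ n ∈ N, n * a * n⁻¹ = y} := fun a => by
    rw [← Fintype.card_coe, ← Nat.card_eq_fintype_card]
    exact Nat.card_congr (Equiv.subtypeEquivRight fun y => horb a y)
  let Ps : Finset G := (Set.toFinite {y : G | y ∈ (P : Subgroup G) ∧ y ≠ 1}).toFinset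
  have hPs : ∀ y, y ∈ Ps ↔ y ∈ (P : Subgroup G) ∧ y ≠ 1 := fun y => by
    simp only [Ps, Set.Finite.mem_toFinset, Set.mem_setOf_eq]
  have hPsc : Ps.card + 1 = 25 := by
    haveI : Fintype (P : Subgroup G) := Fintype.ofFinite _
    have h1 : Ps = ((Finset.univ : Finset (P : Subgroup G)).image Subtype.val).erase 1 := by
      ext y
      rw [hPs, Finset.mem_erase, Finset.mem_image]
      exact ⟨fun hy => ⟨hy.2, ⟨y, hy.1⟩, Finset.mem_univ _, rfl⟩, by
        rintro ⟨hy, ⟨w, hw⟩, -, rfl⟩
        exact ⟨hw, hy⟩⟩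
    have h1' : (1 : G) ∈ (Finset.univ : Finset (P : Subgroup G)).image Subtype.val :=
      Finset.mem_image.2 ⟨(1 : (P : Subgroup G)), Finset.mem_univ _, rfl⟩
    rw [h1, Finset.card_erase_add_one h1',
      Finset.card_image_of_injective _ Subtype.val_injective, Finset.card_univ, ← Nat.card_eq_fintype_card, hP25]
  have hne1 : ∀ a : G, orderOf a = 5 → a ≠ 1 := fun a ha e => by
    rw [e, orderOf_one] at ha; omega
  have hsub : ∀ a, a ∈ (P : Subgroup G) → orderOf a = 5 → orb a ⊆ Ps := by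
    intro a haP ha y hy
    obtain ⟨n, hn, rfl⟩ := (horb a y).1 hy
    exact (hPs _).2 ⟨(Subgroup.mem_normalizer_iff.1 hn a).1 haP, fun e => hne1 a ha (conj_eq_one_iff.1 e)⟩
  have hcC : ∀ (a : G) (i : ℕ), orderOf a = 5 → ¬ 5 ∣ i →
      Nat.card (Subgroup.centralizer ({a ^ i} : Set G)) = Nat.card (Subgroup.centralizer ({a} : Set G)) := by
    intro a i ha hi
    rw [← zpow_natCast, centralizer_zpowers_pow (by norm_num : Nat.Prime 5) ha]
    rw [zpow_natCast]
    exact fun e => hi (ha ▸ orderOf_dvd_of_pow_eq_one e)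
  have hdisj_ff' : ∀ i j : ℕ, ¬ 5 ∣ i → ¬ 5 ∣ j → ¬ IsConj (f ^ i) (f' ^ j) := by
    intro i j hi hj hc
    have h1 := card_centralizer_of_isConj hc
    rw [hcC f i hf5 hi, hcC f' j hf'5 hj, hCf, hCf'] at h1
    omega
  have hoeq : (orb f).card = (orb f').card := by
    have : (orb f).card * 50 = (orb f').card * 50 := by rw [hocard, hocard, hof, hof']
    omega
  have hle24 : (orb f).card + (orb f').card ≤ 24 := by
    rw [← Finset.card_union_of_disjoint]
    · exact (Finset.card_le_card (Finset.union_subset (hsub f hfP hf5) (hsub f' hf'P hf'5))).trans (by omega)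
    · rw [Finset.disjoint_left]
      intro y h1 h2
      obtain ⟨n, -, e1⟩ := (horb f y).1 h1
      obtain ⟨m, -, e2⟩ := (horb f' y).1 h2
      refine hdisj_ff' 1 1 (by norm_num) (by norm_num) ?_
      rw [pow_one, pow_one]
      exact (isConj_iff.2 ⟨n, e1⟩).trans (isConj_iff.2 ⟨m, e2⟩).symm
  have h2le : 2 ≤ (orb f).card := by
    obtain ⟨g, hg⟩ := isConj_iff.1 hreal
    have hgN : g ∈ N := by
      -- `g` normalises `C(f)` and so its normal Sylow subgroup
      have hPC : (P : Subgroup G) ≤ Subgroup.centralizer ({f} : Set G) := fun x hx =>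
        mem_centralizer_of_commute (hPab x hx f hfP)
      have hCN : Subgroup.centralizer ({f} : Set G) ≤ N := by
        rw [← inf_eq_right]
        exact Subgroup.eq_of_le_of_card_ge inf_le_right (by rw [hCf, hNf])
      let P' : Sylow 5 (Subgroup.centralizer ({f} : Set G)) := P.subtype hPC
      have hP'n : (P' : Subgroup (Subgroup.centralizer ({f} : Set G))).Normal :=
        (Subgroup.normal_subgroupOf_iff_le_normalizer hPC).2 hCN
      have hin : ∀ a ∈ (P : Subgroup G), g * a * g⁻¹ ∈ (P : Subgroup G) := by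
        intro a ha
        have hac : g * a * g⁻¹ ∈ Subgroup.centralizer ({f} : Set G) := by
          refine mem_centralizer_of_commute ?_
          have h1 := (hPab a ha f hfP).map (MulAut.conj g)
          simp only [MulAut.conj_apply] at h1
          rw [hg] at h1
          simpa using h1.inv_right
        have hp : IsPGroup 5 (Subgroup.zpowers (⟨_, hac⟩ : Subgroup.centralizer ({f} : Set G))) := by
          have hd : orderOf (g * a * g⁻¹) ∣ 5 ^ 2 := by
            rw [orderOf_conj_eq]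
            have := Subgroup.orderOf_dvd_natCard _ ha
            rw [hP25] at this
            exact this
          obtain ⟨k, -, hk⟩ := (Nat.dvd_prime_pow (by norm_num : Nat.Prime 5)).1 hd
          exact IsPGroup.of_card (n := k) (by rw [Nat.card_zpowers, ← Subgroup.orderOf_coe]; exact hk)
        obtain ⟨T, hT⟩ := hp.exists_le_sylow
        have := Sylow.unique_of_normal P' hP'n
        have hTP : T = P' := Subsingleton.elim _ _
        have hm := hT (Subgroup.mem_zpowers _)
        rw [hTP] at hm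
        exact hm
      refine Subgroup.mem_normalizer_iff.2 fun a => ⟨hin a, fun ha => ?_⟩
      have hg2 : g * g ∈ Subgroup.centralizer ({f} : Set G) := mem_centralizer_of_commute
        (mul_inv_eq_iff_eq_mul.1 (by
          calc g * g * f * (g * g)⁻¹ = g * (g * f * g⁻¹) * g⁻¹ := by group
            _ = g * f⁻¹ * g⁻¹ := by rw [hg]
            _ = (g * f * g⁻¹)⁻¹ := by group
            _ = f := by rw [hg, inv_inv]))
      have h2 := hin _ ha
      rw [show g * (g * a * g⁻¹) * g⁻¹ = g * g * a * (g * g)⁻¹ by group] at h2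
      exact (Subgroup.mem_normalizer_iff.1 (hCN hg2) a).2 h2
    have hpair : ({f, f⁻¹} : Finset G) ⊆ orb f := by
      intro y hy
      rw [horb]
      rcases Finset.mem_insert.1 hy with rfl | hy
      · exact ⟨1, one_mem _, by group⟩
      · exact ⟨g, hgN, hg.trans (Finset.mem_singleton.1 hy).symm⟩
    have hne : f ≠ f⁻¹ := fun e => by
      have h1 : f ^ 2 = 1 := by rw [pow_two]; nth_rw 2 [e]; exact mul_inv_cancel f
      have := orderOf_dvd_of_pow_eq_one h1
      rw [hf5] at this
      norm_num at this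
    exact (Finset.card_pair hne).ge.trans (Finset.card_le_card hpair)
  have hN300 : Nat.card N = 300 ∧ (orb f).card = 6 := by
    have hc := card_sylow_modEq_one 5 G
    have hidx : Nat.card (Sylow 5 G) * Nat.card N = 604800 := by
      rw [← h.card_group, ← Subgroup.card_mul_index N, mul_comm]
      congr 1
      exact P.card_eq_index_normalizer
    rw [← hof, ← hocard] at hidx ⊢
    have ho : (orb f).card ≤ 12 := by omega
    unfold Nat.ModEq at hc
    generalize (orb f).card = o at hidx ho h2le ⊢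
    generalize Nat.card (Sylow 5 G) = s at hidx hc
    interval_cases o <;> omega
  -- powers
  have hsq : ∀ a, a ∈ (P : Subgroup G) → orderOf a = 5 →
      Nat.card (N ⊓ Subgroup.centralizer ({a} : Set G) : Subgroup G) = 50 → (orb a).card = 6 →
      Disjoint (orb a) (orb (a ^ 2)) ∧ (orb (a ^ 2)).card = 6 := by
    intro a haP ha ha50 ha6
    refine ⟨?_, ?_⟩
    · rw [Finset.disjoint_left]
      intro y h1 h2
      obtain ⟨n₁, hn₁, e1⟩ := (horb a y).1 h1
      obtain ⟨n₂, hn₂, e2⟩ := (horb _ y).1 h2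
      set n := n₂⁻¹ * n₁ with hn
      have hnN : n ∈ N := mul_mem (inv_mem hn₂) hn₁
      have e : n * a * n⁻¹ = a ^ 2 := by
        calc n * a * n⁻¹ = n₂⁻¹ * (n₁ * a * n₁⁻¹) * n₂ := by rw [hn]; group
          _ = a ^ 2 := by rw [e1, ← e2]; group
      -- every element of the orbit is then a power of `a`
      let S : Subgroup G := N ⊓ Subgroup.normalizer ((Subgroup.zpowers a : Subgroup G) : Set G)
      have hnS : n ∈ S := by
        refine Subgroup.mem_inf.2 ⟨hnN, mem_normalizer_of_conj _ fun x hx => ?_⟩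
        obtain ⟨k, rfl⟩ := Subgroup.mem_zpowers_iff.1 hx
        rw [← conj_zpow, e]
        exact zpow_mem (Subgroup.npow_mem_zpowers a 2) k
      have hCS : N ⊓ Subgroup.centralizer ({a} : Set G) ≤ S := fun x hx => by
        refine Subgroup.mem_inf.2 ⟨hx.1, mem_normalizer_of_conj _ fun y hy => ?_⟩
        obtain ⟨k, rfl⟩ := Subgroup.mem_zpowers_iff.1 hy
        rw [← conj_zpow, mul_inv_eq_iff_eq_mul.2 (commute_of_mem hx.2).eq]
        exact Subgroup.zpow_mem_zpowers _ _
      have h200 : 200 ≤ Nat.card S := by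
        let F : Fin 4 × (N ⊓ Subgroup.centralizer ({a} : Set G) : Subgroup G) → S := fun p =>
          ⟨n ^ (p.1 : ℕ) * p.2.1, mul_mem (pow_mem hnS _) (hCS p.2.2)⟩
        have hconj : ∀ k : ℕ, n ^ k * a * (n ^ k)⁻¹ = a ^ (2 ^ k) := by
          intro k
          induction k with
          | zero => simp
          | succ k ih =>
            calc n ^ (k + 1) * a * (n ^ (k + 1))⁻¹ = n ^ k * (n * a * n⁻¹) * (n ^ k)⁻¹ := by
                  rw [pow_succ]; group
              _ = (n ^ k * a * (n ^ k)⁻¹) ^ 2 := by rw [e, conj_pow]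
              _ = a ^ (2 ^ (k + 1)) := by rw [ih, ← pow_mul, pow_succ]
        have hF : Function.Injective F := by
          rintro ⟨i, x⟩ ⟨j, y⟩ hxy
          have hxy' : n ^ (i : ℕ) * x.1 = n ^ (j : ℕ) * y.1 := congrArg Subtype.val hxy
          have hij : i = j := by
            have h1 : (n ^ (i : ℕ) * x.1) * a * (n ^ (i : ℕ) * x.1)⁻¹ = a ^ (2 ^ (i : ℕ)) := by
              rw [← hconj, show n ^ (i : ℕ) * x.1 * a * (n ^ (i : ℕ) * x.1)⁻¹ =
                n ^ (i : ℕ) * (x.1 * a * x.1⁻¹) * (n ^ (i : ℕ))⁻¹ by group,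
                mul_inv_eq_iff_eq_mul.2 (commute_of_mem x.2.2).eq]
            have h2 : (n ^ (j : ℕ) * y.1) * a * (n ^ (j : ℕ) * y.1)⁻¹ = a ^ (2 ^ (j : ℕ)) := by
              rw [← hconj, show n ^ (j : ℕ) * y.1 * a * (n ^ (j : ℕ) * y.1)⁻¹ =
                n ^ (j : ℕ) * (y.1 * a * y.1⁻¹) * (n ^ (j : ℕ))⁻¹ by group,
                mul_inv_eq_iff_eq_mul.2 (commute_of_mem y.2.2).eq]
            rw [hxy', h2] at h1
            have h3 := pow_eq_pow_iff_modEq.1 h1
            rw [ha] at h3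
            unfold Nat.ModEq at h3
            fin_cases i <;> fin_cases j <;> simp_all
          subst hij
          exact Prod.ext rfl (Subtype.ext (mul_left_cancel hxy'))
        have h4 := Nat.card_le_card_of_injective F hF
        rw [Nat.card_prod, Nat.card_fin, ha50] at h4
        omega
      have hSN : S = N := by
        have hd : Nat.card S ∣ 300 := hN300.1 ▸ Subgroup.card_dvd_of_le inf_le_left
        refine Subgroup.eq_of_le_of_card_ge inf_le_left ?_
        obtain ⟨m, hm⟩ := hd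
        rw [hN300.1]
        rcases m with _ | _ | m
        · omega
        · omega
        · have := Nat.mul_le_mul h200 (show 2 ≤ m + 1 + 1 by omega)
          omega
      have h5 : orb a ⊆ ({a, a ^ 2, a ^ 3, a ^ 4} : Finset G) := by
        intro w hw
        obtain ⟨m, hm, rfl⟩ := (horb a w).1 hw
        have hmS : m ∈ S := hSN.symm ▸ hm
        obtain ⟨k, hk⟩ := Subgroup.mem_zpowers_iff.1
          ((Subgroup.mem_normalizer_iff.1 hmS.2 a).1 (Subgroup.mem_zpowers a))
        have hne : a ^ (k % 5) ≠ 1 := by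
          rw [show (5 : ℤ) = ((orderOf a : ℕ) : ℤ) by rw [ha]; rfl, zpow_mod_orderOf, hk]
          exact fun e' => hne1 a ha (conj_eq_one_iff.1 e')
        rw [← hk, ← zpow_mod_orderOf, ha]
        have h0 : (0 : ℤ) ≤ k % 5 := Int.emod_nonneg k (by norm_num)
        have h5' : k % 5 < 5 := Int.emod_lt_of_pos k (by norm_num)
        show a ^ (k % ((5 : ℕ) : ℤ)) ∈ _
        push_cast
        generalize k % 5 = r at h0 h5' hne ⊢
        interval_cases r <;> first | exact absurd (zpow_zero a) hne | simp [zpow_ofNat]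
      have := (Finset.card_le_card h5).trans Finset.card_le_four
      omega
    · have h1 := card_orbit_mul N (pow_mem (hPN haP) 2)
      rw [← zpow_natCast, centralizer_zpowers_pow (by norm_num : Nat.Prime 5) ha (by
        rw [zpow_natCast]; intro e'
        have := orderOf_dvd_of_pow_eq_one e'
        rw [ha] at this; norm_num at this), ha50, hN300.1, zpow_natCast] at h1
      rw [hocard]
      omega
  obtain ⟨hd1, hc1⟩ := hsq f hfP hf5 hNf hN300.2
  obtain ⟨hd2, hc2⟩ := hsq f' hf'P hf'5 hNf' (hoeq ▸ hN300.2)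
  have hcover : ∀ y ∈ (P : Subgroup G), y ≠ 1 →
      IsConj f y ∨ IsConj (f ^ 2) y ∨ IsConj f' y ∨ IsConj (f' ^ 2) y := by
    intro y hy hy1
    have hx : ∀ (i j : ℕ), ¬ 5 ∣ i → ¬ 5 ∣ j → Disjoint (orb (f ^ i)) (orb (f' ^ j)) := by
      intro i j hi hj
      rw [Finset.disjoint_left]
      intro w h1 h2
      obtain ⟨n, -, e1⟩ := (horb _ w).1 h1
      obtain ⟨m, -, e2⟩ := (horb _ w).1 h2
      exact hdisj_ff' i j hi hj ((isConj_iff.2 ⟨n, e1⟩).trans (isConj_iff.2 ⟨m, e2⟩).symm)
    have h5o : ∀ a : G, orderOf a = 5 → orderOf (a ^ 2) = 5 := fun a ha => by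
      rw [orderOf_pow' a (by norm_num), ha]; rfl
    have hUsub : (orb f ∪ orb (f ^ 2)) ∪ (orb f' ∪ orb (f' ^ 2)) ⊆ Ps :=
      Finset.union_subset (Finset.union_subset (hsub f hfP hf5) (hsub _ (pow_mem hfP 2) (h5o f hf5)))
        (Finset.union_subset (hsub f' hf'P hf'5) (hsub _ (pow_mem hf'P 2) (h5o f' hf'5)))
    have hU : (orb f ∪ orb (f ^ 2)) ∪ (orb f' ∪ orb (f' ^ 2)) = Ps := by
      refine Finset.eq_of_subset_of_card_le hUsub ?_
      have hdd : Disjoint (orb f ∪ orb (f ^ 2)) (orb f' ∪ orb (f' ^ 2)) := by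
        have h11 := hx 1 1 (by norm_num) (by norm_num)
        have h12 := hx 1 2 (by norm_num) (by norm_num)
        have h21 := hx 2 1 (by norm_num) (by norm_num)
        rw [pow_one, pow_one] at h11
        rw [pow_one] at h12 h21
        simp only [Finset.disjoint_union_left, Finset.disjoint_union_right]
        exact ⟨⟨h11, h21⟩, h12, hx 2 2 (by norm_num) (by norm_num)⟩
      rw [Finset.card_union_of_disjoint hdd, Finset.card_union_of_disjoint hd1,
        Finset.card_union_of_disjoint hd2, hc1, hc2, hN300.2, ← hoeq, hN300.2]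
      omega
    have hm := (hPs y).2 ⟨hy, hy1⟩
    rw [← hU, Finset.mem_union, Finset.mem_union, Finset.mem_union] at hm
    rcases hm with (e | e) | (e | e) <;> obtain ⟨n, -, en⟩ := (horb _ y).1 e
    · exact Or.inl (isConj_iff.2 ⟨n, en⟩)
    · exact Or.inr (Or.inl (isConj_iff.2 ⟨n, en⟩))
    · exact Or.inr (Or.inr (Or.inl (isConj_iff.2 ⟨n, en⟩)))
    · exact Or.inr (Or.inr (Or.inr (isConj_iff.2 ⟨n, en⟩)))
  have hall : ∀ c : G, orderOf c = 5 → Nat.card (Subgroup.centralizer ({c} : Set G)) = 50 ∨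
      (Nat.card (Subgroup.centralizer ({c} : Set G)) = 300 ∧
        ∃ g : G, ∀ x, Commute x c ↔ Commute (g * x * g⁻¹) f') := by
    intro c hc
    obtain ⟨T, hT⟩ := (IsPGroup.of_card (G := Subgroup.zpowers c) (n := 1)
      (by rw [Nat.card_zpowers, hc, pow_one])).exists_le_sylow
    obtain ⟨g, hg⟩ := MulAction.exists_smul_eq G T P
    have hgc : g * c * g⁻¹ ∈ (P : Subgroup G) := by
      rw [← hg, Sylow.coe_subgroup_smul]
      exact ⟨c, hT (Subgroup.mem_zpowers _), rfl⟩
    have key : ∀ (i : ℕ), ¬ 5 ∣ i → IsConj (f' ^ i) (g * c * g⁻¹) →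
        Nat.card (Subgroup.centralizer ({c} : Set G)) = 300 ∧
          ∃ k : G, ∀ x, Commute x c ↔ Commute (k * x * k⁻¹) f' := by
      intro i hi hcon
      have hcon' : IsConj c (f' ^ i) := (isConj_iff.2 ⟨g, rfl⟩ : IsConj c (g * c * g⁻¹)).trans hcon.symm
      refine ⟨(card_centralizer_of_isConj hcon').trans ((hcC f' i hf'5 hi).trans hCf'), ?_⟩
      obtain ⟨k, hk⟩ := isConj_iff.1 hcon'
      have he : Subgroup.centralizer ({f' ^ i} : Set G) = Subgroup.centralizer ({f'} : Set G) := by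
        rw [← zpow_natCast, centralizer_zpowers_pow (by norm_num : Nat.Prime 5) hf'5]
        rw [zpow_natCast]
        exact fun e => hi (hf'5 ▸ orderOf_dvd_of_pow_eq_one e)
      refine ⟨k, fun x => ?_⟩
      have h1 : Commute x c ↔ k * x * k⁻¹ ∈ Subgroup.centralizer ({f' ^ i} : Set G) := by
        rw [← hk, Subgroup.mem_centralizer_singleton_iff]
        exact ⟨fun e => (e.map (MulAut.conj k)).eq, fun e => by
          have h2 := (show Commute (k * x * k⁻¹) (k * c * k⁻¹) from e).map (MulAut.conj k⁻¹)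
          simpa [mul_assoc] using h2⟩
      rw [h1, he, Subgroup.mem_centralizer_singleton_iff]
      rfl
    rcases hcover _ hgc (fun e => hne1 c hc (conj_eq_one_iff.1 e)) with q | q | q | q
    · left
      exact ((card_centralizer_of_isConj (isConj_iff.2 ⟨g, rfl⟩ : IsConj c (g * c * g⁻¹))).trans
        (card_centralizer_of_isConj q).symm).trans hCf
    · left
      exact ((card_centralizer_of_isConj (isConj_iff.2 ⟨g, rfl⟩ : IsConj c (g * c * g⁻¹))).trans
        (card_centralizer_of_isConj q).symm).trans ((hcC f 2 hf5 (by norm_num)).trans hCf)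
    · exact Or.inr (key 1 (by norm_num) (by rwa [pow_one]))
    · exact Or.inr (key 2 (by norm_num) q)
  refine ⟨⟨f', hCf', hall⟩, hCP, hP25, hN300.1, Subgroup.zpowers f, Subgroup.zpowers f', by rw [Nat.card_zpowers, hf5],
    by rw [Nat.card_zpowers, hf'5], fun g hg => ?_, fun W hW => ?_⟩
  · have hm : g * f * g⁻¹ ∈ Subgroup.zpowers f' := hg ▸ ⟨f, Subgroup.mem_zpowers f, rfl⟩
    obtain ⟨k, hk⟩ := Subgroup.mem_zpowers_iff.1 hm
    have hne : f' ^ k ≠ 1 := fun e => hne1 f hf5 (conj_eq_one_iff.1 (hk ▸ e))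
    have h1 := card_centralizer_of_isConj (show IsConj f (f' ^ k) from isConj_iff.2 ⟨g, hk.symm⟩)
    rw [centralizer_zpowers_pow (by norm_num : Nat.Prime 5) hf'5 hne, hCf, hCf'] at h1
    omega
  · obtain ⟨w, hw⟩ := exists_prime_orderOf_dvd_card' (G := W) 5 (by rw [hW])
    have hw5 : orderOf (w : G) = 5 := by rw [Subgroup.orderOf_coe]; exact hw
    have hWw : W = Subgroup.zpowers (w : G) := (Subgroup.eq_of_le_of_card_ge (Subgroup.zpowers_le.2 w.2)
      (by rw [hW, Nat.card_zpowers, hw5])).symm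
    obtain ⟨T, hT⟩ := (IsPGroup.of_card (G := Subgroup.zpowers (w : G)) (n := 1)
      (by rw [Nat.card_zpowers, hw5, pow_one])).exists_le_sylow
    obtain ⟨g, hg⟩ := MulAction.exists_smul_eq G T P
    have hgw : g * w * g⁻¹ ∈ (P : Subgroup G) := by
      rw [← hg, Sylow.coe_subgroup_smul]
      exact ⟨w, hT (Subgroup.mem_zpowers _), rfl⟩
    have key : ∀ a : G, ∀ i : ℕ, orderOf a = 5 → IsConj (a ^ i) (g * w * g⁻¹) →
        ∃ k : G, W.map (MulAut.conj k).toMonoidHom = Subgroup.zpowers a := by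
      intro a i ha hc
      obtain ⟨c, hc⟩ := isConj_iff.1 hc
      refine ⟨c⁻¹ * g, Subgroup.eq_of_le_of_card_ge ?_ ?_⟩
      · rw [hWw, MonoidHom.map_zpowers, Subgroup.zpowers_le]
        refine Subgroup.mem_zpowers_iff.2 ⟨(i : ℤ), ?_⟩
        show a ^ (i : ℤ) = c⁻¹ * g * (w : G) * (c⁻¹ * g)⁻¹
        rw [zpow_natCast, show c⁻¹ * g * (w : G) * (c⁻¹ * g)⁻¹ = c⁻¹ * (g * w * g⁻¹) * c by group, ← hc]
        group
      · rw [Subgroup.card_map_of_injective (f := (MulAut.conj (c⁻¹ * g)).toMonoidHom)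
          (MulAut.conj (c⁻¹ * g)).injective, hW, Nat.card_zpowers, ha]
    rcases hcover _ hgw (fun e => hne1 _ hw5 (conj_eq_one_iff.1 e)) with c | c | c | c
    · obtain ⟨k, hk⟩ := key f 1 hf5 (by rwa [pow_one])
      exact ⟨k, Or.inl hk⟩
    · obtain ⟨k, hk⟩ := key f 2 hf5 c
      exact ⟨k, Or.inl hk⟩
    · obtain ⟨k, hk⟩ := key f' 1 hf'5 (by rwa [pow_one])
      exact ⟨k, Or.inr hk⟩
    · obtain ⟨k, hk⟩ := key f' 2 hf'5 c
      exact ⟨k, Or.inr hk⟩

theorem sylow_five_structure (h : Setting z Q u t) (P : Sylow 5 G) :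
    Subgroup.centralizer ((P : Subgroup G) : Set G) = P ∧ Nat.card P = 25 ∧
      Nat.card (Subgroup.normalizer ((P : Subgroup G) : Set G)) = 300 ∧
      ∃ X Y : Subgroup G, Nat.card X = 5 ∧ Nat.card Y = 5 ∧ (∀ g : G, X.map (MulAut.conj g).toMonoidHom ≠ Y) ∧
        ∀ W : Subgroup G, Nat.card W = 5 → ∃ g : G, W.map (MulAut.conj g).toMonoidHom = X ∨
          W.map (MulAut.conj g).toMonoidHom = Y :=
  (h.sylow_five_full P).2

end Setting

end Cfsg.Agent.Lib.HallJanko
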