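import Mathlib
import Cfsg.Prelude.Def_Solvable
import Cfsg.Agent.Lib.Alternating.Aut
import Cfsg.Agent.Lib.DicksonId.Small
import Cfsg.Agent.Lib.HallJanko.SylowFive

/-!
# Hall-Janko type: the centraliser of the second involution and the normaliser of its four-group

Owner: helper99.
-/

set_option autoImplicit false
set_option linter.style.haveILetI false

namespace Cfsg.Agent.Lib.HallJanko

open Cfsg.Agent.Lib.LargeExtraspecial.Basic Cfsg.Agent.Lib.HallJanko.Model
open Cfsg.Agent.Lib.Involutions.Basic (invol_iff orderOf_conj_eq)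

variable {G : Type*} [Group G]

/-- `C(t) = V × M` with all involutions of the four-group `V` conjugate to `t`, with the same centraliser. -/
structure TPair (t : G) (V M : Subgroup G) : Prop where
  Vle : V ≤ Subgroup.centralizer ({t} : Set G)
  Mle : M ≤ Subgroup.centralizer ({t} : Set G)
  cardV : Nat.card V = 4
  Vsq : ∀ v ∈ V, v * v = 1
  tV : t ∈ V
  tne : t ≠ 1
  iso : Nonempty (M ≃* alternatingGroup (Fin 5))
  comm : ∀ v ∈ V, ∀ m ∈ M, Commute v m
  decomp : ∀ x ∈ Subgroup.centralizer ({t} : Set G), ∃ v ∈ V, ∃ m ∈ M, x = v * m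
  disj : ∀ x ∈ V, x ∈ M → x = 1
  conjV : ∀ v ∈ V, v ≠ 1 → IsConj t v ∧
    Subgroup.centralizer ({v} : Set G) = Subgroup.centralizer ({t} : Set G)

theorem TStr.tpair [Finite G] {z t : G} {Q : Subgroup G} {u : Fin 5 → G} {V M0 : Subgroup G}
    (h : Setting z Q u t) (hs : TStr z t V M0) : TPair t V M0 :=
  { Vle := hs.Vle, Mle := hs.M0le, cardV := hs.cardV, Vsq := hs.Vsq, tV := hs.tV
    tne := fun e => h.tnot (e ▸ one_mem Q)
    iso := hs.iso, comm := hs.comm, decomp := hs.decomp, disj := hs.disj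
    conjV := fun _ hv hv1 => hs.centralizer_eq h hv hv1 }

namespace TPair

variable {t : G} {V M : Subgroup G}

theorem map (hp : TPair t V M) (φ : MulAut G) :
    TPair (φ t) (V.map φ.toMonoidHom) (M.map φ.toMonoidHom) := by
  have hC : ∀ x y : G, φ y ∈ Subgroup.centralizer ({φ x} : Set G) ↔ y ∈ Subgroup.centralizer ({x} : Set G) :=
    fun x y => by
      rw [Subgroup.mem_centralizer_singleton_iff, Subgroup.mem_centralizer_singleton_iff, ← map_mul, ← map_mul,
        φ.injective.eq_iff]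
  refine ⟨?_, ?_, ?_, ?_, ⟨t, hp.tV, rfl⟩, fun e => hp.tne (φ.injective (by rw [e, map_one])), ?_, ?_, ?_, ?_, ?_⟩
  · rintro _ ⟨v, hv, rfl⟩; exact (hC t v).2 (hp.Vle hv)
  · rintro _ ⟨m, hm, rfl⟩; exact (hC t m).2 (hp.Mle hm)
  · rw [Subgroup.card_map_of_injective φ.injective, hp.cardV]
  · rintro _ ⟨v, hv, rfl⟩
    show φ v * φ v = 1
    rw [← map_mul, hp.Vsq v hv, map_one]
  · obtain ⟨e⟩ := hp.iso
    exact ⟨(M.equivMapOfInjective φ.toMonoidHom φ.injective).symm.trans e⟩
  · rintro _ ⟨v, hv, rfl⟩ _ ⟨m, hm, rfl⟩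
    exact (hp.comm v hv m hm).map φ
  · intro x hx
    obtain ⟨y, rfl⟩ := φ.surjective x
    obtain ⟨v, hv, m, hm, e⟩ := hp.decomp y ((hC t y).1 hx)
    exact ⟨φ v, ⟨v, hv, rfl⟩, φ m, ⟨m, hm, rfl⟩, by rw [e, map_mul]⟩
  · rintro _ ⟨v, hv, rfl⟩ ⟨m, hm, e⟩
    have e' : m = v := φ.injective e
    show φ v = 1
    rw [hp.disj v hv (e' ▸ hm), map_one]
  · rintro _ ⟨v, hv, rfl⟩ hne
    obtain ⟨h1, h2⟩ := hp.conjV v hv (fun e => hne (by rw [e]; exact map_one φ))
    obtain ⟨g, hg⟩ := isConj_iff.1 h1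
    refine ⟨isConj_iff.2 ⟨φ g, ?_⟩, ?_⟩
    · show φ g * φ t * (φ g)⁻¹ = φ v
      rw [← map_inv, ← map_mul, ← map_mul, hg]
    ext x
    obtain ⟨y, rfl⟩ := φ.surjective x
    show φ y ∈ Subgroup.centralizer ({φ v} : Set G) ↔ _
    rw [hC, hC, h2]

theorem commute_V (hp : TPair t V M) {v w : G} (hv : v ∈ V) (hw : w ∈ V) : Commute v w :=
  commute_of_sq hp.Vsq hv hw

theorem unique (hp : TPair t V M) {v v' m m' : G} (hv : v ∈ V) (hv' : v' ∈ V) (hm : m ∈ M) (hm' : m' ∈ M)
    (e : v * m = v' * m') : v = v' ∧ m = m' := by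
  have h1 : v'⁻¹ * v = m' * m⁻¹ := by
    rw [eq_mul_inv_iff_mul_eq, mul_assoc, e, inv_mul_cancel_left]
  have h2 := hp.disj _ (mul_mem (inv_mem hv') hv) (h1 ▸ mul_mem hm' (inv_mem hm))
  have h3 : v = v' := (inv_mul_eq_one.1 h2).symm
  subst h3
  exact ⟨rfl, mul_left_cancel e⟩

theorem exists_prodEquiv (hp : TPair t V M) :
    ∃ E : V × M ≃* Subgroup.centralizer ({t} : Set G), ∀ p : V × M, ((E p : _) : G) = p.1.1 * p.2.1 := by
  let f : V × M →* Subgroup.centralizer ({t} : Set G) :=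
    { toFun := fun p => ⟨p.1.1 * p.2.1, mul_mem (hp.Vle p.1.2) (hp.Mle p.2.2)⟩
      map_one' := Subtype.ext (by simp)
      map_mul' := fun p q => Subtype.ext (by
        show p.1.1 * q.1.1 * (p.2.1 * q.2.1) = p.1.1 * p.2.1 * (q.1.1 * q.2.1)
        rw [mul_assoc, ← mul_assoc q.1.1, (hp.comm q.1.1 q.1.2 p.2.1 p.2.2).eq]
        simp only [mul_assoc]) }
  have hb : Function.Bijective f := by
    refine ⟨fun p q e => ?_, fun x => ?_⟩
    · obtain ⟨e1, e2⟩ := hp.unique p.1.2 q.1.2 p.2.2 q.2.2 (congrArg Subtype.val e)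
      exact Prod.ext (Subtype.ext e1) (Subtype.ext e2)
    · obtain ⟨v, hv, m, hm, e⟩ := hp.decomp x.1 x.2
      exact ⟨(⟨v, hv⟩, ⟨m, hm⟩), Subtype.ext e.symm⟩
  exact ⟨MulEquiv.ofBijective f hb, fun p => rfl⟩

variable [Finite G]

theorem card_M (hp : TPair t V M) : Nat.card M = 60 := by
  obtain ⟨e⟩ := hp.iso
  rw [Nat.card_congr e.toEquiv, Nat.card_eq_fintype_card]
  rfl

theorem card_cent (hp : TPair t V M) : Nat.card (Subgroup.centralizer ({t} : Set G)) = 240 := by
  obtain ⟨E, -⟩ := hp.exists_prodEquiv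
  rw [← Nat.card_congr E.toEquiv, Nat.card_prod, hp.cardV, hp.card_M]

theorem isSimple_M (hp : TPair t V M) : IsSimpleGroup M := by
  obtain ⟨e⟩ := hp.iso
  exact e.isSimpleGroup_congr.2 inferInstance

theorem nonempty_iso (hp : TPair t V M) : Nonempty (↥(Subgroup.centralizer ({t} : Set G)) ≃*
    (Multiplicative (ZMod 2) × Multiplicative (ZMod 2)) × alternatingGroup (Fin 5)) := by
  obtain ⟨E, -⟩ := hp.exists_prodEquiv
  obtain ⟨e⟩ := hp.iso
  haveI : Nontrivial V := Finite.one_lt_card_iff_nontrivial.1 (by rw [hp.cardV]; norm_num)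
  haveI : IsKleinFour V := ⟨hp.cardV, (Monoid.exponent_eq_prime_iff Nat.prime_two).2 fun v hv =>
    invol_iff.2 ⟨Subtype.ext (hp.Vsq v v.2), hv⟩⟩
  obtain ⟨k⟩ : Nonempty (V ≃* Multiplicative (ZMod 2 × ZMod 2)) := IsKleinFour.nonempty_mulEquiv
  exact ⟨E.symm.trans (MulEquiv.prodCongr (k.trans (MulEquiv.prodMultiplicative _ _)) e)⟩

/-- `V` contains every `2`-subgroup normalised by `C(t)`. -/
theorem le_V (hp : TPair t V M) (W : Subgroup G) (hW : W ≤ Subgroup.centralizer ({t} : Set G))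
    (hW2 : IsPGroup 2 W)
    (hn : ∀ c ∈ Subgroup.centralizer ({t} : Set G), ∀ w ∈ W, c * w * c⁻¹ ∈ W) : W ≤ V := by
  haveI := hp.isSimple_M
  set C := Subgroup.centralizer ({t} : Set G) with hC
  obtain ⟨E, hE⟩ : ∃ E : V × M ≃* C, ∀ p : V × M, ((E p : C) : G) = p.1.1 * p.2.1 := hp.exists_prodEquiv
  let π : C →* M := (MonoidHom.snd V M).comp E.symm.toMonoidHom
  have hsur : Function.Surjective π := fun m => ⟨E (1, m), by simp [π]⟩
  haveI : (W.subgroupOf C).Normal := ⟨fun w hw c => hn c c.2 w hw⟩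
  haveI : ((W.subgroupOf C).map π).Normal := Subgroup.Normal.map inferInstance π hsur
  have hp2 : IsPGroup 2 ((W.subgroupOf C).map π) := (hW2.comap_of_injective C.subtype C.subtype_injective).map π
  rcases IsSimpleGroup.eq_bot_or_eq_top_of_normal ((W.subgroupOf C).map π) inferInstance with e | e
  · intro w hw
    have h1 : π ⟨w, hW hw⟩ = 1 := Subgroup.mem_bot.1 (e ▸ ⟨⟨w, hW hw⟩, hw, rfl⟩)
    have h2 := hE (E.symm ⟨w, hW hw⟩)
    rw [E.apply_symm_apply] at h2
    have h3 : ((E.symm ⟨w, hW hw⟩).2 : G) = 1 := congrArg Subtype.val h1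
    rw [h3, mul_one] at h2
    show w ∈ V
    rw [show w = _ from h2]
    exact (E.symm ⟨w, hW hw⟩).1.2
  · haveI : Fact (Nat.Prime 2) := ⟨Nat.prime_two⟩
    obtain ⟨n, hn2⟩ := hp2.exists_card_eq
    rw [e, Subgroup.card_top, hp.card_M] at hn2
    exfalso
    have h3 : 3 ∣ 2 ^ n := ⟨20, by rw [← hn2]⟩
    have := Nat.prime_three.dvd_of_dvd_pow h3
    norm_num at this

theorem pCore_eq (hp : TPair t V M) :
    (Cfsg.pCore 2 ↥(Subgroup.centralizer ({t} : Set G))).map
      (Subgroup.subtype (Subgroup.centralizer ({t} : Set G))) = V := by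
  haveI : Fact (Nat.Prime 2) := ⟨Nat.prime_two⟩
  refine le_antisymm ?_ ?_
  · rw [Subgroup.map_le_iff_le_comap]
    refine sSup_le ?_
    rintro N ⟨hN, hN2⟩
    rw [← Subgroup.map_le_iff_le_comap]
    refine hp.le_V _ (Subgroup.map_subtype_le _) (hN2.map _) ?_
    rintro c hc _ ⟨w, hw, rfl⟩
    exact ⟨⟨c, hc⟩ * w * ⟨c, hc⟩⁻¹, hN.conj_mem w hw _, rfl⟩
  · intro v hv
    refine ⟨⟨v, hp.Vle hv⟩, ?_, rfl⟩
    have hn : (V.subgroupOf (Subgroup.centralizer ({t} : Set G))).Normal := ⟨fun w hw c => by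
      obtain ⟨v', hv', m, hm, e⟩ := hp.decomp c.1 c.2
      have hcomm : Commute (c : G) (w : G) := by
        rw [e]
        exact (hp.commute_V hv' hw).mul_left (hp.comm _ hw m hm).symm
      rw [Subgroup.mem_subgroupOf] at hw ⊢
      show (c : G) * (w : G) * (c : G)⁻¹ ∈ V
      rw [hcomm.eq, mul_inv_cancel_right]
      exact hw⟩
    exact (le_sSup (show V.subgroupOf _ ∈ {N : Subgroup ↥(Subgroup.centralizer ({t} : Set G)) |
        N.Normal ∧ IsPGroup 2 N} from ⟨hn, ((IsPGroup.of_card (n := 2) (by rw [hp.cardV]; norm_num) :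
          IsPGroup 2 V).comap_of_injective _ (Subgroup.subtype_injective _))⟩) :) hv

theorem nonempty_iso_normalizer (hp : TPair t V M) :
    Nonempty (↥(Subgroup.normalizer (V : Set G)) ≃* alternatingGroup (Fin 4) × alternatingGroup (Fin 5)) := by
  classical
  haveI : Fact (Nat.Prime 2) := ⟨Nat.prime_two⟩
  haveI := hp.isSimple_M
  obtain ⟨eM⟩ := hp.iso
  set C := Subgroup.centralizer ({t} : Set G) with hC
  set N := Subgroup.normalizer (V : Set G) with hN
  have hVN : V ≤ N := Subgroup.le_normalizer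
  have hcV : ∀ c ∈ C, ∀ v ∈ V, Commute c v := by
    intro c hc v hv
    obtain ⟨v', hv', m, hm, rfl⟩ := hp.decomp c hc
    exact (hp.commute_V hv' hv).mul_left (hp.comm v hv m hm).symm
  have hCN : C ≤ N := fun c hc => mem_normalizer_of_conj _ fun v hv => by
    rw [(hcV c hc v hv).eq, mul_inv_cancel_right]; exact hv
  have hMN : M ≤ N := hp.Mle.trans hCN
  -- `N` normalises `C(t)`
  have hNC : ∀ x ∈ N, ∀ c ∈ C, x * c * x⁻¹ ∈ C := by
    intro x hx c hc
    have hv : x⁻¹ * t * x ∈ V := by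
      have := (Subgroup.mem_normalizer_iff.1 (inv_mem hx) t).1 hp.tV
      rwa [inv_inv] at this
    have h1 := (Commute.conj_iff x).2 (hcV c hc _ hv)
    rw [show x * (x⁻¹ * t * x) * x⁻¹ = t by group] at h1
    exact mem_centralizer_of_commute h1
  -- and `M`
  have hNM : ∀ x ∈ N, ∀ m ∈ M, x * m * x⁻¹ ∈ M := by
    intro x hx
    obtain ⟨E, hE⟩ := hp.exists_prodEquiv
    let χ : M →* V :=
      { toFun := fun m => (E.symm ⟨x * m * x⁻¹, hNC x hx m (hp.Mle m.2)⟩).1
        map_one' := by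
          have h1 : (⟨x * ((1 : M) : G) * x⁻¹, hNC x hx _ (hp.Mle (1 : M).2)⟩ : C) = 1 := Subtype.ext (by simp)
          rw [h1, map_one, Prod.fst_one]
        map_mul' := fun a b => by
          have h1 : (⟨x * ((a * b : M) : G) * x⁻¹, hNC x hx _ (hp.Mle (a * b).2)⟩ : C) =
              ⟨x * a * x⁻¹, hNC x hx _ (hp.Mle a.2)⟩ * ⟨x * b * x⁻¹, hNC x hx _ (hp.Mle b.2)⟩ :=
            Subtype.ext (by
              show x * ((a : G) * b) * x⁻¹ = x * a * x⁻¹ * (x * b * x⁻¹)
              rw [conj_mul])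
          rw [h1, map_mul, Prod.fst_mul] }
    have hk : χ.ker = ⊤ := by
      refine (IsSimpleGroup.eq_bot_or_eq_top_of_normal χ.ker inferInstance).resolve_left fun e => ?_
      have h1 := Nat.card_le_card_of_injective χ ((MonoidHom.ker_eq_bot_iff χ).1 e)
      rw [hp.card_M, hp.cardV] at h1
      omega
    intro m hm
    have h1 : χ ⟨m, hm⟩ = 1 := MonoidHom.mem_ker.1 (hk ▸ Subgroup.mem_top _)
    have h2 := hE (E.symm ⟨x * m * x⁻¹, hNC x hx m (hp.Mle hm)⟩)
    rw [E.apply_symm_apply] at h2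
    have h3 : ((E.symm ⟨x * m * x⁻¹, hNC x hx m (hp.Mle hm)⟩).1 : G) = 1 := congrArg Subtype.val h1
    rw [h3, one_mul] at h2
    show x * m * x⁻¹ ∈ M
    rw [show x * m * x⁻¹ = _ from h2]
    exact (E.symm ⟨x * m * x⁻¹, hNC x hx m (hp.Mle hm)⟩).2.2
  -- `N` is transitive on the involutions of `V`
  have horb : {y : G | ∃ n ∈ N, n * t * n⁻¹ = y} = (V : Set G) \ {1} := by
    ext y
    constructor
    · rintro ⟨n, hn, rfl⟩
      exact ⟨(Subgroup.mem_normalizer_iff.1 hn t).1 hp.tV, fun e => hp.tne (conj_eq_one_iff.1 e)⟩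
    · rintro ⟨hy, hy1⟩
      obtain ⟨hconj, hCy⟩ := hp.conjV y hy hy1
      obtain ⟨g, rfl⟩ := isConj_iff.1 hconj
      refine ⟨g, mem_normalizer_of_conj _ ?_, rfl⟩
      have hgC : ∀ c ∈ C, g * c * g⁻¹ ∈ C := fun c hc => by
        rw [hC, ← hCy]
        exact mem_centralizer_of_commute ((Commute.conj_iff g).2 (commute_of_mem hc))
      have hinv : ∀ c ∈ C, g⁻¹ * c * g ∈ C := fun c hc => by
        rw [hC, ← hCy] at hc
        have h1 := (Commute.conj_iff g⁻¹).2 (commute_of_mem hc)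
        rw [inv_inv, show g⁻¹ * (g * t * g⁻¹) * g = t by group] at h1
        exact mem_centralizer_of_commute h1
      have hle := hp.le_V (V.map (MulAut.conj g).toMonoidHom) (by
          rintro _ ⟨v, hv, rfl⟩; exact hgC v (hp.Vle hv))
        ((IsPGroup.of_card (n := 2) (by rw [hp.cardV]; norm_num) : IsPGroup 2 V).map _) (by
          rintro c hc _ ⟨v, hv, rfl⟩
          refine ⟨v, hv, ?_⟩
          show g * v * g⁻¹ = c * (g * v * g⁻¹) * c⁻¹
          have h1 := (Commute.conj_iff g).2 (hcV _ (hinv c hc) v hv)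
          rw [show g * (g⁻¹ * c * g) * g⁻¹ = c by group] at h1
          rw [h1.eq, mul_inv_cancel_right])
      exact fun v hv => hle ⟨v, hv, rfl⟩
  have hcardN : Nat.card N = 720 := by
    have h1 := card_orbit_mul N (hVN hp.tV)
    have h2 : Nat.card {y : G // ∃ n ∈ N, n * t * n⁻¹ = y} = 3 := by
      show Nat.card ↥{y : G | ∃ n ∈ N, n * t * n⁻¹ = y} = 3
      rw [horb, Nat.card_coe_set_eq, Set.ncard_diff_singleton_of_mem (one_mem V)]
      have : (V : Set G).ncard = 4 := by rw [← Nat.card_coe_set_eq]; exact hp.cardV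
      omega
    rw [h2, inf_eq_right.2 hCN, hp.card_cent] at h1
    omega
  -- the action on `M`
  let ψ : N →* MulAut M :=
    { toFun := fun x =>
        { toFun := fun m => ⟨(x : G) * m * (x : G)⁻¹, hNM x x.2 m m.2⟩
          invFun := fun m => ⟨(x : G)⁻¹ * m * x, by
            have := hNM (x : G)⁻¹ (inv_mem x.2) m m.2
            rwa [inv_inv] at this⟩
          left_inv := fun m => Subtype.ext (by
            show (x : G)⁻¹ * ((x : G) * m * (x : G)⁻¹) * x = m; group)
          right_inv := fun m => Subtype.ext (by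
            show (x : G) * ((x : G)⁻¹ * m * x) * (x : G)⁻¹ = m; group)
          map_mul' := fun a b => Subtype.ext (by
            show (x : G) * ((a : G) * b) * (x : G)⁻¹ = (x : G) * a * (x : G)⁻¹ * ((x : G) * b * (x : G)⁻¹)
            rw [conj_mul]) }
      map_one' := MulEquiv.ext fun m => Subtype.ext (by simp)
      map_mul' := fun x y => MulEquiv.ext fun m => Subtype.ext (by
        show (x : G) * y * m * ((x : G) * y)⁻¹ = (x : G) * ((y : G) * m * (y : G)⁻¹) * (x : G)⁻¹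
        group) }
  set K := ψ.ker with hK
  have hKcomm : ∀ x ∈ K, ∀ m ∈ M, Commute (x : G) m := fun x hx m hm =>
    mul_inv_eq_iff_eq_mul.1 (congrArg (fun σ : MulAut M => ((σ ⟨m, hm⟩ : M) : G)) (MonoidHom.mem_ker.1 hx))
  have hVK : V.subgroupOf N ≤ K := fun v hv => MonoidHom.mem_ker.2 (MulEquiv.ext fun m => Subtype.ext (by
    show (v : G) * m * (v : G)⁻¹ = m
    rw [(hp.comm v hv m m.2).eq, mul_inv_cancel_right]))
  -- the centre of `M`
  have hMcen : ∀ m ∈ M, (∀ m' ∈ M, Commute m m') → m = 1 := by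
    intro m hm hcm
    rcases IsSimpleGroup.eq_bot_or_eq_top_of_normal (Subgroup.center M) inferInstance with e | e
    · have h1 : (⟨m, hm⟩ : M) ∈ Subgroup.center M := Subgroup.mem_center_iff.2
        fun y => Subtype.ext (hcm y y.2).eq.symm
      rw [e] at h1
      exact congrArg Subtype.val (Subgroup.mem_bot.1 h1)
    · exfalso
      have key : ∀ a b : alternatingGroup (Fin 5), a * b = b * a := fun a b => by
        obtain ⟨a, rfl⟩ := eM.surjective a
        obtain ⟨b, rfl⟩ := eM.surjective b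
        rw [← map_mul, ← map_mul, (Subgroup.mem_center_iff.1 (e ▸ Subgroup.mem_top b) a : a * b = b * a)]
      exact absurd key (by decide +kernel)
  have hK12 : Nat.card K = 12 := by
    have hinn : 60 ≤ Nat.card ψ.range := by
      rw [← hp.card_M]
      refine Nat.card_le_card_of_injective (fun m => ⟨ψ ⟨m.1, hMN m.2⟩, ⟨_, rfl⟩⟩) fun a b e => ?_
      have h1 : ∀ c ∈ M, (a : G) * c * (a : G)⁻¹ = (b : G) * c * (b : G)⁻¹ := fun c hc =>
        congrArg (fun σ : MulAut M => ((σ ⟨c, hc⟩ : M) : G)) (congrArg Subtype.val e : ψ ⟨a.1, hMN a.2⟩ = ψ ⟨b.1, hMN b.2⟩)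
      have h2 := hMcen _ (mul_mem (inv_mem b.2) a.2) fun c hc => by
        show (b : G)⁻¹ * a * c = c * ((b : G)⁻¹ * a)
        calc (b : G)⁻¹ * a * c = (b : G)⁻¹ * ((a : G) * c * (a : G)⁻¹) * a := by group
          _ = (b : G)⁻¹ * ((b : G) * c * (b : G)⁻¹) * a := by rw [h1 c hc]
          _ = c * ((b : G)⁻¹ * a) := by group
      exact Subtype.ext (inv_mul_eq_one.1 h2).symm
    have h120 : Nat.card (MulAut M) = 120 := by
      rw [Nat.card_congr (MulAut.congr eM).toEquiv,
        Cfsg.Agent.Lib.Alternating.nat_card_mulAut_alt (by simp) (by simp)]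
      rfl
    have hr := Subgroup.card_subgroup_dvd_card ψ.range
    rw [h120] at hr
    have h1 := Subgroup.card_mul_index K
    rw [hK, Subgroup.index_ker, hcardN] at h1
    have h4 : 4 ∣ Nat.card K := by
      have := Subgroup.card_dvd_of_le hVK
      rwa [Nat.card_congr (Subgroup.subgroupOfEquivOfLe hVN).toEquiv, hp.cardV] at this
    rw [hK] at h4 ⊢
    obtain ⟨q, hq⟩ := hr
    have hq2 : q ≤ 2 := by
      by_contra hq2
      have := Nat.mul_le_mul hinn (show 3 ≤ q by omega)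
      omega
    have hr2 : Nat.card ψ.range = 60 ∨ Nat.card ψ.range = 120 := by interval_cases q <;> omega
    rcases hr2 with e | e <;> rw [e] at h1 <;> omega
  -- `N = K × M`
  have hKM : ∀ x ∈ K, (x : G) ∈ M → x = 1 := fun x hx hm =>
    Subtype.ext (hMcen _ hm fun m' hm' => hKcomm x hx m' hm')
  let F : K × M →* N :=
    { toFun := fun p => p.1.1 * ⟨p.2.1, hMN p.2.2⟩
      map_one' := Subtype.ext (by simp)
      map_mul' := fun p q => Subtype.ext (by
        show (p.1.1 : G) * q.1.1 * ((p.2.1 : G) * q.2.1) = (p.1.1 : G) * p.2.1 * ((q.1.1 : G) * q.2.1)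
        rw [mul_assoc, ← mul_assoc (q.1.1 : G), (hKcomm _ q.1.2 _ p.2.2).eq]
        simp only [mul_assoc]) }
  have hF : Function.Bijective F := by
    refine (Nat.bijective_iff_injective_and_card F).2 ⟨?_, by rw [Nat.card_prod, hK12, hp.card_M, hcardN]⟩
    refine (injective_iff_map_eq_one F).2 fun p hp' => ?_
    have e : (p.1.1 : G) * p.2.1 = 1 := congrArg Subtype.val hp'
    have h1 : p.1.1 = 1 := hKM _ p.1.2 (by rw [mul_eq_one_iff_eq_inv.1 e]; exact inv_mem p.2.2)
    refine Prod.ext (Subtype.ext h1) (Subtype.ext ?_)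
    rw [h1] at e
    simpa using e
  -- `K ≅ A₄`
  have hKC : ∀ x ∈ K, Commute (x : G) t → (x : G) ∈ V := by
    intro x hx hxt
    obtain ⟨v, hv, m, hm, e⟩ := hp.decomp x (mem_centralizer_of_commute hxt)
    have hm1 := hMcen m hm fun m' hm' => by
      have h1 : Commute (v⁻¹ * (x : G)) m' := (hp.comm v hv m' hm').inv_left.mul_left (hKcomm x hx m' hm')
      rwa [e, inv_mul_cancel_left] at h1
    rw [e, hm1, mul_one]
    exact hv
  have hVK' : ∀ v ∈ V, ∃ k : K, ((k : N) : G) = v := fun v hv => ⟨⟨⟨v, hVN hv⟩, hVK hv⟩, rfl⟩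
  have hsmall : ∀ S : Subgroup K, S.Normal → (∀ s ∈ S, ((s : N) : G) ∈ V → s = 1) →
      ∀ s ∈ S, s = 1 := by
    intro S hS hSV s hs
    refine hSV s hs (hKC _ s.2 ?_)
    obtain ⟨k, hk⟩ := hVK' t hp.tV
    have h1 : s * k * s⁻¹ * k⁻¹ ∈ S := by
      rw [mul_assoc s, mul_assoc]
      exact mul_mem hs (hS.conj_mem _ (inv_mem hs) k)
    have h2 : ((s * k * s⁻¹ * k⁻¹ : K) : G) ∈ V := by
      show ((s : N) : G) * ((k : N) : G) * ((s : N) : G)⁻¹ * ((k : N) : G)⁻¹ ∈ V
      rw [hk]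
      exact mul_mem ((Subgroup.mem_normalizer_iff.1 (s : N).2 t).1 hp.tV) (inv_mem hp.tV)
    have h3 := congrArg (fun r : K => ((r : N) : G)) (hSV _ h1 h2)
    have h4 : ((s : N) : G) * t * ((s : N) : G)⁻¹ * t⁻¹ = 1 := by simpa [hk] using h3
    exact mul_inv_eq_iff_eq_mul.1 (mul_inv_eq_one.1 h4)
  obtain ⟨eK⟩ := Cfsg.Agent.Lib.DicksonId.nonempty_alt_four (G := K) hK12
    (fun S hS h3 => by
      haveI : Fact (Nat.Prime 3) := ⟨Nat.prime_three⟩
      have hall := hsmall S hS fun s hs hsV => by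
        have h1 : orderOf s ∣ 3 := h3 ▸ Subgroup.orderOf_dvd_natCard _ hs
        have h2 : orderOf s ∣ 2 := orderOf_dvd_of_pow_eq_one (Subtype.ext (Subtype.ext (by
          rw [pow_two]; exact hp.Vsq _ hsV)))
        exact orderOf_eq_one_iff.1 (Nat.eq_one_of_dvd_coprimes (by norm_num) h1 h2)
      rw [(Subgroup.eq_bot_iff_forall S).2 hall, Subgroup.card_bot] at h3
      omega)
    (fun S hS h2 => by
      haveI := hS
      obtain ⟨c, hc⟩ := exists_prime_orderOf_dvd_card' (G := S) 2 (by rw [h2])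
      have hc1 : (c : K) ≠ 1 := fun e => by
        rw [← Subgroup.orderOf_coe, e, orderOf_one] at hc; omega
      have hcen : ∀ k : K, Commute k (c : K) := by
        intro k
        have hmem := hS.conj_mem (c : K) c.2 k
        haveI : Fintype S := Fintype.ofFinite _
        have hval : ∀ s ∈ S, s = 1 ∨ s = (c : K) := by
          intro s hs
          by_contra hne
          rw [not_or] at hne
          have hsub : ({1, (c : K), s} : Set K) ⊆ (S : Set K) := by
            rintro r (rfl | rfl | rfl)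
            exacts [one_mem S, c.2, hs]
          have h1 := Set.ncard_le_ncard hsub (Set.toFinite _)
          rw [Set.ncard_eq_three.2 ⟨1, (c : K), s, hc1.symm, Ne.symm hne.1, Ne.symm hne.2, rfl⟩,
            ← Nat.card_coe_set_eq] at h1
          have : Nat.card ↥(S : Set K) = 2 := h2
          omega
        rcases hval _ hmem with e | e
        · exact absurd (conj_eq_one_iff.1 e) hc1
        · exact mul_inv_eq_iff_eq_mul.1 e
      obtain ⟨k, hk⟩ := hVK' t hp.tV
      have hct : Commute ((c : N) : G) t := by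
        have := congrArg (fun r : K => ((r : N) : G)) (hcen k).eq.symm
        show ((c : N) : G) * t = t * ((c : N) : G)
        simpa [hk] using this
      have hcV' : ((c : N) : G) ∈ V := hKC _ (c : K).2 hct
      obtain ⟨-, hCc⟩ := hp.conjV _ hcV' (fun e => hc1 (Subtype.ext (Subtype.ext e)))
      have hle : ∀ r : K, ((r : N) : G) ∈ V := fun r => hKC _ r.2 (commute_of_mem (hCc ▸
        mem_centralizer_of_commute (by
          have := congrArg (fun r : K => ((r : N) : G)) (hcen r).eq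
          exact this : Commute ((r : N) : G) ((c : N) : G))))
      have := Nat.card_le_card_of_injective (fun r : K => (⟨((r : N) : G), hle r⟩ : V))
        (fun a b e => Subtype.ext (Subtype.ext (congrArg Subtype.val e :)))
      rw [hK12, hp.cardV] at this
      omega)
  exact ⟨(MulEquiv.ofBijective F hF).symm.trans (MulEquiv.prodCongr eK eM)⟩

end TPair

theorem Setting.second_involution [Finite G] {z : G} {Q : Subgroup G} {u : Fin 5 → G} {t₀ t : G}
    (h : Setting z Q u t₀) (ht : orderOf t = 2) (htz : ¬ IsConj t z) :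
    ∃ V M : Subgroup G, TPair t V M := by
  obtain ⟨V, M0, hs⟩ := h.exists_str
  obtain ⟨g, rfl⟩ := isConj_iff.1 ((h.classes t ht).resolve_left fun e => htz e.symm)
  exact ⟨_, _, (hs.tpair h).map (MulAut.conj g)⟩

end Cfsg.Agent.Lib.HallJanko
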