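import Mathlib
import Cfsg.Agent.Lib.HallJanko.Cent
import Cfsg.Agent.Lib.Involutions.Thompson

/-!
# Counting the pairs in Thompson's order formula for groups of Hall-Janko type

`a(z) = 960` inside `C(z)` and `a(t) = 195` inside `C(t) = V × A₅`.

Owner: helper8.
-/

set_option autoImplicit false

namespace Cfsg.Agent.Lib.HallJanko.OrderCount

open Cfsg.Agent.Lib.LargeExtraspecial.Basic Cfsg.Agent.Lib.HallJanko.Model
open Cfsg.Agent.Lib.Involutions.Basic

variable {G : Type*} [Group G] [Finite G] {z : G} {Q : Subgroup G} {u : Fin 5 → G}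

theorem u_ne_one (h : Five z Q u) (i : Fin 5) : u i ≠ 1 := fun e =>
  Five.allBut_ne_zero i (by rw [← h.phi_u, e, h.phi_one])

theorem u_ne_z (h : Five z Q u) (i : Fin 5) : u i ≠ z := fun e =>
  Five.allBut_ne_zero i (by rw [← h.phi_u, e, h.phi_z])

/-- The non-central involutions of `Q`. -/
abbrev NInv (z : G) (Q : Subgroup G) : Type _ := {q : G // q ∈ Q ∧ q * q = 1 ∧ q ≠ 1 ∧ q ≠ z}

theorem card_nInv (h : Five z Q u) : Nat.card (NInv z Q) = 10 := by
  have hz : ∀ i, Commute (u i) z := fun i => h.es.comm _ (h.mem i)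
  let f : Fin 5 × Bool → NInv z Q := fun p =>
    if p.2 then ⟨u p.1 * z, mul_mem (h.mem _) h.es.mem,
      by rw [show u p.1 * z * (u p.1 * z) = u p.1 * (z * u p.1) * z by group, ← (hz p.1).eq,
        ← mul_assoc, h.sq, one_mul, h.es.sq],
      fun e => u_ne_z h p.1 (by rw [eq_inv_of_mul_eq_one_left e, h.es.zinv]),
      fun e => u_ne_one h p.1 (mul_eq_right.1 e)⟩
    else ⟨u p.1, h.mem _, h.sq _, u_ne_one h _, u_ne_z h _⟩
  have hphi : ∀ p, phi u (f p).1 = allBut p.1 := by
    rintro ⟨i, _ | _⟩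
    · exact h.phi_u i
    · show phi u (u i * z) = allBut i
      rw [h.phi_mul (h.mem i) h.es.mem, h.phi_u, h.phi_z, add_zero]
  have hf : Function.Bijective f := by
    constructor
    · rintro ⟨i, a⟩ ⟨j, b⟩ e
      obtain rfl : i = j := allBut_injective i j (by
        have h1 := hphi ⟨i, a⟩
        have h2 := hphi ⟨j, b⟩
        rw [e] at h1
        exact h1.symm.trans h2)
      have e' := congrArg Subtype.val e
      cases a <;> cases b
      · rfl
      · exact absurd (mul_eq_left.1 (show u i * z = u i from e'.symm)) h.es.ne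
      · exact absurd (mul_eq_left.1 (show u i * z = u i from e')) h.es.ne
      · rfl
    · rintro ⟨q, hq, hq2, hq1, hqz⟩
      rcases h.singular hq hq2 with e | e | ⟨i, e | e⟩
      · exact absurd e hq1
      · exact absurd e hqz
      · exact ⟨(i, false), Subtype.ext e.symm⟩
      · exact ⟨(i, true), Subtype.ext e.symm⟩
  rw [← Nat.card_eq_of_bijective f hf]
  simp

/-- Commuting non-central involutions of `Q` agree modulo the centre. -/
theorem eq_or_of_commute (h : Five z Q u) {a b : G} (ha : a ∈ Q) (ha2 : a * a = 1) (ha1 : a ≠ 1)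
    (haz : a ≠ z) (hb : b ∈ Q) (hb2 : b * b = 1) (hb1 : b ≠ 1) (hbz : b ≠ z) (hab : Commute a b) :
    b = a ∨ b = a * z := by
  have key : ∀ q ∈ Q, q * q = 1 → q ≠ 1 → q ≠ z → ∃ i, phi u q = allBut i := by
    intro q hq hq2 hq1 hqz
    rcases h.singular hq hq2 with e | e | ⟨i, e | e⟩
    · exact absurd e hq1
    · exact absurd e hqz
    · exact ⟨i, e ▸ h.phi_u i⟩
    · exact ⟨i, by rw [e, h.phi_mul (h.mem i) h.es.mem, h.phi_u, h.phi_z, add_zero]⟩
  obtain ⟨i, hi⟩ := key a ha ha2 ha1 haz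
  obtain ⟨j, hj⟩ := key b hb hb2 hb1 hbz
  have hij : i = j := by
    by_contra hne
    have e0 : chi a b = 0 := chi_eq_zero.2 hab
    have h1 : ∀ q ∈ Q, ∀ k, phi u q = allBut k → q = u k ∨ q = u k * z := fun q hq k hk => by
      rcases (h.phi_eq_iff (h.mem k) hq).1 (by rw [h.phi_u, hk]) with e | e
      · exact Or.inl e
      · exact Or.inr e
    have e1 : chi (u i) (u j) = 0 := by
      rcases h1 a ha i hi with rfl | rfl <;> rcases h1 b hb j hj with rfl | rfl
      · exact e0
      · rwa [h.es.chi_mul_right (h.mem i) (h.mem j) h.es.mem, h.es.chi_center_right (h.mem i), add_zero] at e0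
      · rwa [h.es.chi_mul_left (h.mem i) h.es.mem (h.mem j), h.es.chi_comm (q := z),
          h.es.chi_center_right (h.mem j), add_zero] at e0
      · rwa [h.es.chi_mul_left (h.mem i) h.es.mem (mul_mem (h.mem j) h.es.mem),
          h.es.chi_mul_right (h.mem i) (h.mem j) h.es.mem, h.es.chi_center_right (h.mem i), add_zero,
          h.es.chi_comm (q := z), h.es.chi_center_right (mul_mem (h.mem j) h.es.mem), add_zero] at e0
    rw [h.anti i j hne] at e1
    exact one_ne_zero e1
  subst hij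
  exact (h.phi_eq_iff ha hb).1 (hi.trans hj.symm)

theorem ncard_comm (h : Five z Q u) {v : G} (hv : v ∈ Subgroup.centralizer ({z} : Set G))
    (hv2 : v * v = 1) (hvQ : v ∉ Q) : Nat.card {q : NInv z Q // Commute q.1 v} = 2 := by
  classical
  obtain ⟨-, hK, -⟩ := h.orbit hv hv2 hvQ
  set K := Q ⊓ Subgroup.centralizer ({v} : Set G) with hKdef
  have hzv : Commute z v := (h.toBase.commute_of_mem_centralizer hv).symm
  have hzK : z ∈ K := ⟨h.es.mem, Subgroup.mem_centralizer_singleton_iff.2 hzv.eq⟩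
  have hex := (h.cent_invol hv hv2 hvQ).2
  letI : Fintype K := Fintype.ofFinite _
  have e : {q : NInv z Q // Commute q.1 v} ≃ {k : K // k ∈ ({1, ⟨z, hzK⟩} : Finset K)ᶜ} :=
    { toFun := fun q => ⟨⟨q.1.1, q.1.2.1, Subgroup.mem_centralizer_singleton_iff.2 q.2.eq⟩, by
        simp only [Finset.mem_compl, Finset.mem_insert, Finset.mem_singleton, not_or]
        exact ⟨fun e => q.1.2.2.2.1 (congrArg Subtype.val e),
          fun e => q.1.2.2.2.2 (congrArg Subtype.val e)⟩⟩
      invFun := fun k => ⟨⟨k.1.1, k.1.2.1,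
        hex k.1.1 ⟨h.toBase.z_mem_centralizer k.1.2.1, k.1.2.2⟩, by
          have := k.2
          simp only [Finset.mem_compl, Finset.mem_insert, Finset.mem_singleton, not_or] at this
          exact ⟨fun e => this.1 (Subtype.ext e), fun e => this.2 (Subtype.ext e)⟩⟩,
        Subgroup.mem_centralizer_singleton_iff.1 k.1.2.2⟩
      left_inv := fun q => rfl
      right_inv := fun k => rfl }
  rw [Nat.card_congr e, Nat.card_eq_fintype_card, Fintype.card_coe, Finset.card_compl,
    ← Nat.card_eq_fintype_card, hK, Finset.card_pair]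
  intro hc
  exact h.es.ne (congrArg Subtype.val hc).symm

theorem card_outer (h : Five z Q u) {v₀ : G} (hv : v₀ ∈ Subgroup.centralizer ({z} : Set G))
    (hv2 : v₀ * v₀ = 1) (hvQ : v₀ ∉ Q) :
    Nat.card {v : G // v ∈ Subgroup.centralizer ({z} : Set G) ∧ v * v = 1 ∧ v ∉ Q} = 120 := by
  classical
  set C := Subgroup.centralizer ({z} : Set G) with hC
  set S := (Subgroup.centralizer ({v₀} : Set G)).subgroupOf C with hS
  have h16 : Nat.card S = 16 := by
    rw [← (h.cent_invol hv hv2 hvQ).1]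
    exact Nat.card_congr
      { toFun := fun x => ⟨x.1.1, x.1.2, x.2⟩
        invFun := fun x => ⟨⟨x.1, x.2.1⟩, x.2.2⟩
        left_inv := fun x => rfl
        right_inv := fun x => rfl }
  let T := {v : G // v ∈ C ∧ v * v = 1 ∧ v ∉ Q}
  have hmem : ∀ c : C, (c : G) * v₀ * (c : G)⁻¹ ∈ C ∧ (c : G) * v₀ * (c : G)⁻¹ * ((c : G) * v₀ * (c : G)⁻¹) = 1 ∧
      (c : G) * v₀ * (c : G)⁻¹ ∉ Q := by
    intro c
    refine ⟨mul_mem (mul_mem c.2 hv) (inv_mem c.2), ?_, fun e => hvQ ?_⟩
    · rw [show (c : G) * v₀ * (c : G)⁻¹ * ((c : G) * v₀ * (c : G)⁻¹) = (c : G) * (v₀ * v₀) * (c : G)⁻¹ by group,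
        hv2]; group
    · have := h.conj_mem (inv_mem c.2) e
      simpa [mul_assoc] using this
  let f : C ⧸ S → T := fun x => Quotient.liftOn' x (fun c => (⟨_, hmem c⟩ : T)) (by
    intro a b hab
    rw [QuotientGroup.leftRel_apply] at hab
    have hc : (a : G)⁻¹ * b * v₀ = v₀ * ((a : G)⁻¹ * b) :=
      Subgroup.mem_centralizer_singleton_iff.1 hab
    refine Subtype.ext ?_
    show (a : G) * v₀ * (a : G)⁻¹ = (b : G) * v₀ * (b : G)⁻¹
    calc (a : G) * v₀ * (a : G)⁻¹ = (a : G) * (v₀ * ((a : G)⁻¹ * b)) * (b : G)⁻¹ := by group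
      _ = (a : G) * ((a : G)⁻¹ * b * v₀) * (b : G)⁻¹ := by rw [hc]
      _ = _ := by group)
  have hf : Function.Bijective f := by
    constructor
    · intro x y hxy
      induction x using QuotientGroup.induction_on with
      | _ a =>
      induction y using QuotientGroup.induction_on with
      | _ b =>
        refine QuotientGroup.eq.2 (Subgroup.mem_centralizer_singleton_iff.2 ?_)
        have h1 : (a : G) * v₀ * (a : G)⁻¹ = (b : G) * v₀ * (b : G)⁻¹ := congrArg Subtype.val hxy
        push_cast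
        calc (a : G)⁻¹ * b * v₀ = (a : G)⁻¹ * ((b : G) * v₀ * (b : G)⁻¹) * b := by group
          _ = v₀ * ((a : G)⁻¹ * b) := by rw [← h1]; group
    · rintro ⟨v, hvC, hv2', hvQ'⟩
      obtain ⟨-, c, hc, hcv⟩ := h.sq_central hv hv2 hvQ hvC hvQ' (Or.inl hv2')
      exact ⟨QuotientGroup.mk ⟨c, hc⟩, Subtype.ext hcv⟩
  have h1 := Subgroup.card_mul_index S
  rw [h16, Subgroup.index_eq_card, Nat.card_eq_of_bijective f hf, h.cent] at h1
  show Nat.card T = 120
  omega

/-- `a(z) = 960`. -/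
theorem count_z (h : Five z Q u) {t : G}
    (hnc : ¬ IsConj z t) (ht : orderOf t = 2) (hQz : ∀ x ∈ Q, orderOf x = 2 → IsConj z x)
    (hCz : ∀ x ∈ Subgroup.centralizer ({z} : Set G), orderOf x = 2 → x ∉ Q → IsConj t x)
    {v₀ : G} (hv : v₀ ∈ Subgroup.centralizer ({z} : Set G)) (hv2 : v₀ * v₀ = 1) (hvQ : v₀ ∉ Q) :
    Nat.card {p : G × G // IsConj z p.1 ∧ IsConj t p.2 ∧ z ∈ Subgroup.zpowers (p.1 * p.2)} = 960 := by
  classical
  set C := Subgroup.centralizer ({z} : Set G) with hC
  let V := {v : G // v ∈ C ∧ v * v = 1 ∧ v ∉ Q}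
  let R := Σ v : V, {q : NInv z Q // ¬ Commute q.1 v.1}
  have hord : ∀ {a b : G}, orderOf a = 2 → IsConj a b → orderOf b = 2 := by
    intro a b ha hab
    obtain ⟨c, rfl⟩ := isConj_iff.1 hab
    rw [orderOf_conj_eq, ha]
  have hpow : ∀ {a b : G}, orderOf a = 2 → orderOf b = 2 → z ∈ Subgroup.zpowers (a * b) →
      a ∈ C ∧ b ∈ C := by
    intro a b ha hb hm
    obtain ⟨k, hk⟩ := Subgroup.mem_zpowers_iff.1 hm
    have hA : a * z * a⁻¹ = z := by
      have h1 : a * (a * b) * a⁻¹ = (a * b)⁻¹ := by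
        rw [invol_inv ha]; exact invert_mul (invol_mul_self ha) (invol_mul_self hb)
      rw [← hk, ← conj_zpow, h1, inv_zpow, hk, invol_inv h.ord]
    have hB : b * z * b⁻¹ = z := by
      have h1 : b * (a * b) * b⁻¹ = (a * b)⁻¹ := by
        rw [mul_inv_rev, invol_inv ha, invol_inv hb, mul_assoc, mul_assoc a b b, invol_mul_self hb, mul_one]
      rw [← hk, ← conj_zpow, h1, inv_zpow, hk, invol_inv h.ord]
    exact ⟨Subgroup.mem_centralizer_singleton_iff.2 (mul_inv_eq_iff_eq_mul.1 hA),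
      Subgroup.mem_centralizer_singleton_iff.2 (mul_inv_eq_iff_eq_mul.1 hB)⟩
  have hfwd : ∀ r : R, IsConj z r.2.1.1 ∧ IsConj t r.1.1 ∧ z ∈ Subgroup.zpowers (r.2.1.1 * r.1.1) := by
    rintro ⟨⟨v, hvC, hv2', hvQ'⟩, ⟨q, hq, hq2, hq1, hqz⟩, hnq⟩
    refine ⟨hQz q hq (invol_iff.2 ⟨hq2, hq1⟩),
      hCz v hvC (invol_iff.2 ⟨hv2', fun e => hvQ' (e ▸ one_mem Q)⟩) hvQ', ?_⟩
    have hvi : v⁻¹ = v := inv_eq_of_mul_eq_one_right hv2'
    set q' := v * q * v⁻¹ with hq'
    have hq'Q : q' ∈ Q := h.conj_mem hvC hq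
    have hq'2 : q' * q' = 1 := by
      rw [hq', show v * q * v⁻¹ * (v * q * v⁻¹) = v * (q * q) * v⁻¹ by group, hq2]; group
    have hq'1 : q' ≠ 1 := fun e => hq1 (conj_eq_one_iff.1 e)
    have hvz : Commute v z := h.toBase.commute_of_mem_centralizer hvC
    have hq'z : q' ≠ z := fun e =>
      hqz (mul_left_cancel (mul_right_cancel (e.trans (mul_inv_eq_iff_eq_mul.2 hvz).symm)))
    have hsq : (q * v) ^ 2 = q * q' := by rw [pow_two, hq', hvi]; group
    show z ∈ Subgroup.zpowers (q * v)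
    by_cases hcq : Commute q q'
    · rcases eq_or_of_commute h hq hq2 hq1 hqz hq'Q hq'2 hq'1 hq'z hcq with e | e
      · exact absurd ((mul_inv_eq_iff_eq_mul.1 e).symm : Commute q v) hnq
      · have : (q * v) ^ 2 = z := by rw [hsq, e, ← mul_assoc, hq2, one_mul]
        exact this ▸ Subgroup.npow_mem_zpowers _ 2
    · have hanti : q * q' * q⁻¹ = q' * z :=
        (h.es.conj q hq q' hq'Q).resolve_left fun e => hcq (mul_inv_eq_iff_eq_mul.1 e)
      have : (q * v) ^ 4 = z := by
        rw [show (4 : ℕ) = 2 * 2 from rfl, pow_mul, hsq, pow_two]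
        rw [inv_eq_of_mul_eq_one_right hq2] at hanti
        calc q * q' * (q * q') = q * q' * q * q' := by group
          _ = q' * z * q' := by rw [hanti]
          _ = z := by rw [mul_assoc, ← (h.es.comm _ hq'Q).eq, ← mul_assoc, hq'2, one_mul]
      exact this ▸ Subgroup.npow_mem_zpowers _ 4
  let f : R → {p : G × G // IsConj z p.1 ∧ IsConj t p.2 ∧ z ∈ Subgroup.zpowers (p.1 * p.2)} :=
    fun r => ⟨(r.2.1.1, r.1.1), hfwd r⟩
  have hf : Function.Bijective f := by
    constructor
    · rintro ⟨⟨v, hv⟩, ⟨q, hq⟩, hn⟩ ⟨⟨v', hv'⟩, ⟨q', hq'⟩, hn'⟩ e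
      simp only [f, Subtype.mk.injEq, Prod.mk.injEq] at e
      obtain ⟨rfl, rfl⟩ := e
      rfl
    · rintro ⟨⟨a, b⟩, ha, hb, hm⟩
      simp only at ha hb hm
      have hao := hord h.ord ha
      have hbo := hord ht hb
      obtain ⟨haC, hbC⟩ := hpow hao hbo hm
      have hbQ : b ∉ Q := fun e => hnc ((hQz b e hbo).trans hb.symm)
      have haQ : a ∈ Q := by
        by_contra e
        exact hnc (ha.trans (hCz a haC hao e).symm)
      have hne : ¬ Commute a b := by
        intro hab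
        have h2 : (a * b) ^ 2 = 1 := by
          rw [hab.mul_pow, pow_two, invol_mul_self hao, pow_two, invol_mul_self hbo, one_mul]
        have hzab : z = a * b := by
          obtain ⟨k, hk⟩ := Subgroup.mem_zpowers_iff.1 hm
          rcases Int.even_or_odd k with ⟨m, rfl⟩ | ⟨m, rfl⟩
          · rw [← two_mul, zpow_mul, zpow_ofNat, h2, one_zpow] at hk
            exact absurd hk.symm h.es.ne
          · rw [zpow_add, zpow_mul, zpow_ofNat, h2, one_zpow, one_mul, zpow_one] at hk
            exact hk.symm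
        refine hbQ ?_
        have : b = a⁻¹ * z := by rw [hzab, inv_mul_cancel_left]
        rw [this]; exact mul_mem (inv_mem haQ) h.es.mem
      have haz : a ≠ z := fun e => hne (e ▸ (h.toBase.commute_of_mem_centralizer hbC).symm)
      exact ⟨⟨⟨b, hbC, invol_mul_self hbo, hbQ⟩,
        ⟨a, haQ, invol_mul_self hao, invol_ne_one hao, haz⟩, hne⟩, rfl⟩
  rw [← Nat.card_eq_of_bijective f hf]
  haveI : Fintype V := Fintype.ofFinite _
  have hfib : ∀ v : V, Nat.card {q : NInv z Q // ¬ Commute q.1 v.1} = 8 := by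
    intro v
    haveI : Fintype (NInv z Q) := Fintype.ofFinite _
    have h1 := ncard_comm h v.2.1 v.2.2.1 v.2.2.2
    rw [Nat.card_eq_fintype_card] at h1 ⊢
    rw [Fintype.card_subtype_compl, h1, ← Nat.card_eq_fintype_card, card_nInv h]
  rw [Nat.card_sigma, Finset.sum_congr rfl (fun v _ => hfib v), Finset.sum_const, Finset.card_univ,
    ← Nat.card_eq_fintype_card, smul_eq_mul]
  show Nat.card {v : G // v ∈ C ∧ v * v = 1 ∧ v ∉ Q} * 8 = 960
  rw [card_outer h hv hv2 hvQ]

theorem card_alt_pairs :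
    Fintype.card {p : alternatingGroup (Fin 5) × alternatingGroup (Fin 5) //
      (p.1 * p.1 = 1 ∧ p.1 ≠ 1) ∧ p.2 * p.2 = 1 ∧ (p.1 * p.2) ^ 15 = 1} = 195 := by
  decide +kernel

/-- `a(t) = 195` for `C(t) = V × B` with `B ≅ A₅`. -/
theorem count_t {z t : G} (hz : orderOf z = 2) (ht : orderOf t = 2) (hnc : ¬ IsConj z t)
    (V B : Subgroup G) (hV : V ≤ Subgroup.centralizer ({t} : Set G))
    (hB : B ≤ Subgroup.centralizer ({t} : Set G)) (hcomm : ∀ a ∈ V, ∀ b ∈ B, Commute a b)
    (hdisj : V ⊓ B = ⊥) (hsup : V ⊔ B = Subgroup.centralizer ({t} : Set G))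
    (hV2 : ∀ v ∈ V, v * v = 1) (htV : t ∈ V) (e : B ≃* alternatingGroup (Fin 5))
    (hBz : ∀ x ∈ B, orderOf x = 2 → IsConj z x)
    (hCt : ∀ x ∈ Subgroup.centralizer ({t} : Set G), orderOf x = 2 → x ∉ B → IsConj t x) :
    Nat.card {p : G × G // IsConj z p.1 ∧ IsConj t p.2 ∧ t ∈ Subgroup.zpowers (p.1 * p.2)} = 195 := by
  classical
  have hC : ∀ x ∈ Subgroup.centralizer ({t} : Set G), ∃ a ∈ V, ∃ b ∈ B, x = a * b := by
    intro x hx
    rw [← hsup, ← SetLike.mem_coe, Subgroup.coe_mul_of_right_le_normalizer_left] at hx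
    · obtain ⟨a, ha, b, hb, rfl⟩ := hx
      exact ⟨a, ha, b, hb, rfl⟩
    · intro b hb
      rw [Subgroup.mem_normalizer_iff]
      intro v
      constructor
      · intro hv
        rw [← (hcomm v hv b hb).eq, mul_inv_cancel_right]; exact hv
      · intro hv
        have h1 := hcomm _ hv b hb
        have : v = b * v * b⁻¹ := by
          calc v = b⁻¹ * (b * v * b⁻¹ * b) := by group
            _ = b⁻¹ * (b * (b * v * b⁻¹)) := by rw [h1.eq]
            _ = b * v * b⁻¹ := by group
        rw [this]; exact hv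
  have hord : ∀ {a b : G}, orderOf a = 2 → IsConj a b → orderOf b = 2 := by
    intro a b ha hab
    obtain ⟨c, rfl⟩ := isConj_iff.1 hab
    rw [orderOf_conj_eq, ha]
  have htB : t ∉ B := fun hb => invol_ne_one ht (Subgroup.mem_bot.1 (hdisj ▸ Subgroup.mem_inf.2 ⟨htV, hb⟩))
  let P := {p : alternatingGroup (Fin 5) × alternatingGroup (Fin 5) //
      (p.1 * p.1 = 1 ∧ p.1 ≠ 1) ∧ p.2 * p.2 = 1 ∧ (p.1 * p.2) ^ 15 = 1}
  have htc : ∀ b ∈ B, Commute t b := fun b hb => hcomm t htV b hb
  have hfwd : ∀ p : P, IsConj z (e.symm p.1.1 : G) ∧ IsConj t (t * (e.symm p.1.2 : G)) ∧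
      t ∈ Subgroup.zpowers ((e.symm p.1.1 : G) * (t * (e.symm p.1.2 : G))) := by
    rintro ⟨⟨a, b⟩, ⟨ha, ha1⟩, hb, hab⟩
    have hb' : (e.symm b : G) * e.symm b = 1 := by
      rw [← Subgroup.coe_mul, ← map_mul, hb, map_one, Subgroup.coe_one]
    have ha' : (e.symm a : G) * e.symm a = 1 := by
      rw [← Subgroup.coe_mul, ← map_mul, ha, map_one, Subgroup.coe_one]
    have hc := htc _ (e.symm b).2
    refine ⟨hBz _ (e.symm a).2 (invol_iff.2 ⟨ha', fun h => ha1 ?_⟩),
      hCt _ (mul_mem (hV htV) (hB (e.symm b).2)) (invol_iff.2 ⟨?_, fun h => htB ?_⟩) (fun h => htB ?_), ?_⟩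
    · rwa [OneMemClass.coe_eq_one, EmbeddingLike.map_eq_one_iff] at h
    · rw [show t * (e.symm b : G) * (t * e.symm b) = t * ((e.symm b : G) * t) * e.symm b by group,
        ← hc.eq, ← mul_assoc, invol_mul_self ht, one_mul, hb']
    · rw [eq_inv_of_mul_eq_one_left h]; exact inv_mem (e.symm b).2
    · have := mul_mem h (inv_mem (e.symm b).2)
      rwa [mul_inv_cancel_right] at this
    · have h15 : ((e.symm a : G) * e.symm b) ^ 15 = 1 := by
        rw [← Subgroup.coe_mul, ← map_mul, ← Subgroup.coe_pow, ← map_pow, hab, map_one, Subgroup.coe_one]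
      have heq : (e.symm a : G) * (t * e.symm b) = t * ((e.symm a : G) * e.symm b) := by
        rw [← mul_assoc, ← (htc _ (e.symm a).2).eq, mul_assoc]
      have hpow : ((e.symm a : G) * (t * e.symm b)) ^ 15 = t := by
        rw [heq, ((htc _ (e.symm a).2).mul_right hc).mul_pow, h15, mul_one,
          show t ^ 15 = (t * t) ^ 7 * t by rw [← pow_two, ← pow_mul, ← pow_succ], invol_mul_self ht,
          one_pow, one_mul]
      have := Subgroup.npow_mem_zpowers ((e.symm a : G) * (t * e.symm b)) 15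
      rwa [hpow] at this
  let f : P → {p : G × G // IsConj z p.1 ∧ IsConj t p.2 ∧ t ∈ Subgroup.zpowers (p.1 * p.2)} :=
    fun p => ⟨((e.symm p.1.1 : G), t * (e.symm p.1.2 : G)), hfwd p⟩
  have hf : Function.Bijective f := by
    constructor
    · intro p q h
      have h1 := congrArg Subtype.val h
      simp only [f, Prod.mk.injEq, mul_right_inj, SetLike.coe_eq_coe, EmbeddingLike.apply_eq_iff_eq] at h1
      exact Subtype.ext (Prod.ext h1.1 h1.2)
    · rintro ⟨⟨a, w⟩, ha, hw, hm⟩
      simp only at ha hw hm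
      have hao := hord hz ha
      have hwo := hord ht hw
      obtain ⟨k, hk⟩ := Subgroup.mem_zpowers_iff.1 hm
      have hA : a * t * a⁻¹ = t := by
        have h1 : a * (a * w) * a⁻¹ = (a * w)⁻¹ := by
          rw [invol_inv hao]; exact invert_mul (invol_mul_self hao) (invol_mul_self hwo)
        rw [← hk, ← conj_zpow, h1, inv_zpow, hk, invol_inv ht]
      have hW : w * t * w⁻¹ = t := by
        have h1 : w * (a * w) * w⁻¹ = (a * w)⁻¹ := by
          rw [mul_inv_rev, invol_inv hao, invol_inv hwo, mul_assoc, mul_assoc a w w,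
            invol_mul_self hwo, mul_one]
        rw [← hk, ← conj_zpow, h1, inv_zpow, hk, invol_inv ht]
      have haC : a ∈ Subgroup.centralizer ({t} : Set G) :=
        Subgroup.mem_centralizer_singleton_iff.2 (mul_inv_eq_iff_eq_mul.1 hA)
      have hwC : w ∈ Subgroup.centralizer ({t} : Set G) :=
        Subgroup.mem_centralizer_singleton_iff.2 (mul_inv_eq_iff_eq_mul.1 hW)
      have haB : a ∈ B := by
        by_contra hc
        exact hnc (ha.trans (hCt a haC hao hc).symm)
      obtain ⟨v, hv, b, hb, rfl⟩ := hC w hwC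
      have hvb := hcomm v hv b hb
      have hab : Commute v (a * b) := (hcomm v hv a haB).mul_right hvb
      have hb2 : b * b = 1 := by
        have := invol_mul_self hwo
        rwa [show v * b * (v * b) = v * (b * v) * b by group, ← hvb.eq, ← mul_assoc, hV2 v hv,
          one_mul] at this
      have heq : a * (v * b) = v * (a * b) := by
        rw [← mul_assoc, ← (hcomm v hv a haB).eq, mul_assoc]
      rw [heq, hab.mul_zpow] at hk
      have hkB : (a * b) ^ k ∈ B := zpow_mem (mul_mem haB hb) k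
      have hsame : (v ^ k)⁻¹ * t = (a * b) ^ k := by rw [← hk, inv_mul_cancel_left]
      have hone : (a * b) ^ k = 1 := Subgroup.mem_bot.1 (hdisj ▸ Subgroup.mem_inf.2
        ⟨hsame ▸ mul_mem (inv_mem (zpow_mem hv k)) htV, hkB⟩)
      rw [hone, mul_one] at hk
      rcases Int.even_or_odd k with ⟨m, rfl⟩ | ⟨m, rfl⟩
      · rw [← two_mul, zpow_mul, zpow_two, hV2 v hv, one_zpow] at hk
        exact absurd hk.symm (invol_ne_one ht)
      · rw [zpow_add, zpow_mul, zpow_two, hV2 v hv, one_zpow, one_mul, zpow_one] at hk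
        subst hk
        have hodd : Odd (orderOf (a * b)) := by
          have h1 : ((orderOf (a * b) : ℕ) : ℤ) ∣ 2 * m + 1 := orderOf_dvd_iff_zpow_eq_one.2 hone
          rw [Nat.odd_iff]
          by_contra h2
          have h3 : 2 ∣ orderOf (a * b) := by omega
          have h4 : ((2 : ℕ) : ℤ) ∣ 2 * m + 1 := dvd_trans (Int.natCast_dvd_natCast.2 h3) h1
          omega
        have h60 : orderOf (⟨a * b, mul_mem haB hb⟩ : B) ∣ 60 := by
          have h1 := orderOf_dvd_natCard (⟨a * b, mul_mem haB hb⟩ : B)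
          rwa [Nat.card_congr e.toEquiv, Nat.card_eq_fintype_card,
            show Fintype.card (alternatingGroup (Fin 5)) = 60 by decide +kernel] at h1
        rw [← Subgroup.orderOf_coe] at h60
        have h15 : (⟨a * b, mul_mem haB hb⟩ : B) ^ 15 = 1 := by
          apply Subtype.ext
          rw [Subgroup.coe_pow, Subgroup.coe_one]
          refine orderOf_dvd_iff_pow_eq_one.1 ?_
          exact (Nat.Coprime.dvd_mul_left ((hodd.coprime_two_right).pow_right 2)).1
            (show orderOf (a * b) ∣ 2 ^ 2 * 15 from h60)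
        refine ⟨⟨(e ⟨a, haB⟩, e ⟨b, hb⟩), ⟨?_, ?_⟩, ?_, ?_⟩, ?_⟩
        · rw [← map_mul, show (⟨a, haB⟩ : B) * ⟨a, haB⟩ = 1 from Subtype.ext (invol_mul_self hao),
            map_one]
        · rw [ne_eq, EmbeddingLike.map_eq_one_iff]
          exact fun h => invol_ne_one hao (congrArg Subtype.val h)
        · rw [← map_mul, show (⟨b, hb⟩ : B) * ⟨b, hb⟩ = 1 from Subtype.ext hb2, map_one]
        · rw [← map_mul, ← map_pow]
          exact (congrArg e h15).trans (map_one e)
        · exact Subtype.ext (Prod.ext (by simp [f]) (by simp [f]))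
  rw [← Nat.card_eq_of_bijective f hf, Nat.card_eq_fintype_card]
  exact card_alt_pairs

end Cfsg.Agent.Lib.HallJanko.OrderCount
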