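import Mathlib
import Cfsg.Agent.Lib.HallJanko.SylowFive

/-!
# Hall-Janko type: elements of order three of `C(z)` are real

Owner: helper99.
-/

set_option autoImplicit false
set_option linter.style.haveILetI false

namespace Cfsg.Agent.Lib.HallJanko

open Cfsg.Agent.Lib.Involutions.Basic (invol_iff orderOf_conj_eq)

variable {G : Type*} [Group G] [Finite G] {z : G} {Q : Subgroup G} {u : Fin 5 → G} {t : G}

namespace Setting

/-- An element of odd prime order of `C(z)` whose image in `A₅` is inverted is real. -/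
theorem isConj_inv (h : Setting z Q u t) {p : ℕ} [hp : Fact p.Prime] (hp2 : p ≠ 2) {f : G}
    (hf : f ∈ Subgroup.centralizer ({z} : Set G)) (hfp : orderOf f = p) : IsConj f f⁻¹ := by
  classical
  have hcop : Nat.Coprime p 32 := by
    rw [show (32 : ℕ) = 2 ^ 5 by norm_num]
    exact ((Nat.coprime_primes hp.out Nat.prime_two).2 hp2).pow_right 5
  have hQdvd : ∀ x ∈ Q, orderOf x ∣ p → x = 1 := by
    intro x hx hd
    have h1 := Subgroup.orderOf_dvd_natCard Q hx
    rw [h.card] at h1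
    exact orderOf_eq_one_iff.1 (Nat.eq_one_of_dvd_coprimes hcop hd h1)
  obtain ⟨τ, hτ, hτσ⟩ := alt_inverted (h.pr f) (h.pr_sign hf)
  obtain ⟨c, hc, hcτ⟩ := h.exists_lift τ hτ
  set C := Subgroup.centralizer ({z} : Set G) with hC
  have hgC : c * f * c⁻¹ ∈ C := mul_mem (mul_mem hc hf) (inv_mem hc)
  let π : C →* Equiv.Perm (Fin 5) := h.perm
  have hπ : ∀ x : C, π x = h.pr x := fun x => (h.pr_eq x.2).symm
  set R : Subgroup C := Subgroup.zpowers (⟨f, hf⟩ : C) with hR
  set H : Subgroup C := Subgroup.comap π (R.map π) with hH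
  have hfH : (⟨f, hf⟩ : C) ∈ H := Subgroup.mem_comap.2 ⟨_, Subgroup.mem_zpowers _, rfl⟩
  have hgH : (⟨c * f * c⁻¹, hgC⟩ : C) ∈ H := by
    refine Subgroup.mem_comap.2 ⟨(⟨f, hf⟩ : C)⁻¹, inv_mem (Subgroup.mem_zpowers _), ?_⟩
    rw [map_inv, hπ, hπ, h.pr_mul (mul_mem hc hf) (inv_mem hc), h.pr_mul hc hf, h.pr_inv hc, hcτ, hτσ]
  have hcardH : Nat.card H = 32 * p := by
    have hkH : π.ker ≤ H := fun x hx => by
      refine Subgroup.mem_comap.2 ?_
      rw [MonoidHom.mem_ker.1 hx]; exact one_mem _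
    have h1 := Subgroup.card_mul_index (π.ker.subgroupOf H)
    have hker : π.ker = Q.subgroupOf C := by
      ext x
      exact ⟨fun hx => h.mem_of_perm_eq_one x hx, fun hx => h.perm_of_mem x hx⟩
    have h32 : Nat.card π.ker = 32 := by
      rw [hker, Nat.card_congr (Subgroup.subgroupOfEquivOfLe h.toBase.z_mem_centralizer).toEquiv, h.card]
    rw [Nat.card_congr (Subgroup.subgroupOfEquivOfLe hkH).toEquiv, h32] at h1
    have h2 : (π.ker.subgroupOf H).index = Nat.card (R.map π) := by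
      have e : π.ker.subgroupOf H = (π.domRestrict H).ker := by ext x; rfl
      rw [e, Subgroup.index_ker, MonoidHom.domRestrict_range, hH,
        Subgroup.map_comap_eq_self (Subgroup.map_le_range _ _)]
    have hRp : Nat.card R = p := by rw [hR, Nat.card_zpowers, ← Subgroup.orderOf_coe]; exact hfp
    have h5 : Nat.card (R.map π) = p := by
      have hd := Subgroup.card_map_dvd R π
      rw [hRp] at hd
      refine ((Nat.dvd_prime hp.out).1 hd).resolve_left fun e1 => ?_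
      have h0 : π ⟨f, hf⟩ ∈ R.map π := ⟨_, Subgroup.mem_zpowers _, rfl⟩
      rw [Subgroup.card_eq_one.1 e1, Subgroup.mem_bot, hπ] at h0
      have hq := hQdvd f (h.mem_of_pr hf h0) (by rw [hfp])
      rw [hq, orderOf_one] at hfp
      exact hp.out.ne_one hfp.symm
    rw [← h1, h2, h5]
  let Rf : Subgroup H := Subgroup.zpowers ⟨_, hfH⟩
  let Rg : Subgroup H := Subgroup.zpowers ⟨_, hgH⟩
  have hcf : Nat.card Rf = p := by
    rw [Nat.card_zpowers, ← Subgroup.orderOf_coe, ← Subgroup.orderOf_coe]; exact hfp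
  have hcg : Nat.card Rg = p := by
    rw [Nat.card_zpowers, ← Subgroup.orderOf_coe, ← Subgroup.orderOf_coe]
    exact (orderOf_conj_eq c f).trans hfp
  have hfac : (Nat.card H).factorization p = 1 := by
    rw [hcardH, Nat.factorization_mul (by norm_num) hp.out.ne_zero, Finsupp.add_apply,
      Nat.Prime.factorization_self hp.out, Nat.factorization_eq_zero_of_not_dvd]
    exact fun hd => hp.out.ne_one (Nat.eq_one_of_dvd_coprimes hcop dvd_rfl hd)
  let S1 : Sylow p H := Sylow.ofCard Rf (by rw [hcf, hfac, pow_one])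
  let S2 : Sylow p H := Sylow.ofCard Rg (by rw [hcg, hfac, pow_one])
  obtain ⟨w, hw⟩ := MulAction.exists_smul_eq H S2 S1
  have hmem2 : w * ⟨_, hgH⟩ * w⁻¹ ∈ Rf := by
    have : w * ⟨_, hgH⟩ * w⁻¹ ∈ (S1 : Subgroup H) := by
      rw [← hw, Sylow.coe_subgroup_smul]
      exact ⟨⟨_, hgH⟩, Subgroup.mem_zpowers _, rfl⟩
    exact this
  obtain ⟨k, hk⟩ := Subgroup.mem_zpowers_iff.1 hmem2
  have hk' : (w.1.1 : G) * (c * f * c⁻¹) * (w.1.1 : G)⁻¹ = f ^ k := by
    have := congrArg (fun x : H => ((x : C) : G)) hk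
    simp only [Subgroup.coe_zpow, Subgroup.coe_mul, Subgroup.coe_inv] at this
    exact this.symm
  have hwC : (w.1.1 : G) ∈ C := w.1.2
  obtain ⟨r, hr, hrw⟩ := Subgroup.mem_map.1 (Subgroup.mem_comap.1 w.2)
  obtain ⟨j, rfl⟩ := Subgroup.mem_zpowers_iff.1 hr
  rw [map_zpow, hπ, hπ] at hrw
  have h1' : h.pr (f ^ k) = h.pr f ^ k := by
    rw [← hπ ⟨f, hf⟩, ← map_zpow, hπ]
    rfl
  have hprk : h.pr f ^ k = (h.pr f)⁻¹ := by
    rw [← h1', ← hk', h.pr_mul (mul_mem hwC hgC) (inv_mem hwC),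
      h.pr_mul hwC hgC, h.pr_mul (mul_mem hc hf) (inv_mem hc),
      h.pr_mul hc hf, h.pr_inv hwC, h.pr_inv hc, hcτ, hτσ, ← hrw]
    exact (((Commute.refl (h.pr f)).zpow_left j).inv_right.eq ▸ mul_inv_cancel_right _ _)
  have hq : f ^ k * f ∈ Q := by
    refine h.mem_of_pr (mul_mem (zpow_mem hf k) hf) ?_
    rw [h.pr_mul (zpow_mem hf k) hf, h1', hprk, inv_mul_cancel]
  have h1 : f ^ k * f = 1 := hQdvd _ hq (by
    rw [← zpow_add_one]
    exact orderOf_dvd_of_pow_eq_one (by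
      rw [← hfp, ← zpow_natCast, ← zpow_mul, mul_comm, zpow_mul, zpow_natCast, pow_orderOf_eq_one, one_zpow]))
  refine isConj_iff.2 ⟨(w.1.1 : G) * c, ?_⟩
  rw [eq_inv_of_mul_eq_one_left h1] at hk'
  rw [← hk']; group

end Setting

end Cfsg.Agent.Lib.HallJanko
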