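import Cfsg.Agent.Lib.HallJanko.Cert
import Mathlib.GroupTheory.GroupAction.Blocks
import Mathlib.GroupTheory.Index
import Mathlib

/-!
A simple group of order 604800 on one hundred points.
-/

set_option autoImplicit false
set_option linter.unusedSectionVars false

namespace Cfsg.Agent.Lib.HallJanko

open Cfsg.Agent.Lib.Computation MulAction

/-- The representation. -/
noncomputable abbrev R : Rep (Equiv.Perm (Fin 100)) (Fin 100) := permRep 100 7 (by decide)

/-- The generators as permutations. -/
noncomputable def J : Subgroup (Equiv.Perm (Fin 100)) :=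
  Subgroup.closure (R.val '' {s | s ∈ j2_gens})

theorem card_J : Nat.card J = 604800 := by
  rw [J, R.card_closure j2_check]
  decide +kernel

/-- The generators of the point stabiliser. -/
noncomputable def stabGens : List Nat := R.topGens j2_chain.tail

/-- Follows a spanning tree. -/
def checkTree (gens : List Nat) : List Nat → List (Nat × Nat × Nat) → Bool
  | _, [] => true
  | seen, (x, p, j) :: l =>
    seen.elem p && (match gens[j]? with
      | some s => Nat.beq (getW 7 s p) x
      | none => false) && checkTree gens (x :: seen) l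

theorem checkTree_sound {gens : List Nat} (S : Set (Fin 100))
    (hS : ∀ s ∈ gens, ∀ p : Fin 100, p ∈ S → decodeP 100 7 s p ∈ S)
    (hok : ∀ s ∈ gens, okPerm 100 7 s = true) :
    ∀ (l : List (Nat × Nat × Nat)) (seen : List Nat),
      (∀ p ∈ seen, p < 100 ∧ Fin.ofNat 100 p ∈ S) → checkTree gens seen l = true →
      ∀ e ∈ l, Fin.ofNat 100 e.1 ∈ S
  | [], _, _, _, e, he => by simp at he
  | (x, p, j) :: l, seen, hseen, h, e, he => by
    simp only [checkTree, Bool.and_eq_true] at h
    obtain ⟨⟨hp, hj⟩, hl⟩ := h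
    cases hg : gens[j]? with
    | none => simp [hg] at hj
    | some s =>
      simp only [hg, Nat.beq_eq] at hj
      have hs := List.mem_of_getElem? hg
      obtain ⟨hp1, hp2⟩ := hseen p (List.elem_iff.mp hp)
      have hx : x < 100 ∧ Fin.ofNat 100 x ∈ S := by
        have hlt : x < 100 := hj ▸ okPerm_lt (hok s hs) hp1
        refine ⟨hlt, ?_⟩
        have := hS s hs _ hp2
        convert this using 1
        apply Fin.ext
        rw [decodeP_apply (hok s hs)]
        simp [Nat.mod_eq_of_lt hlt, Nat.mod_eq_of_lt hp1, hj]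
      rcases List.mem_cons.mp he with rfl | he
      · exact hx.2
      · exact checkTree_sound S hS hok l (x :: seen) (fun q hq => by
          rcases List.mem_cons.mp hq with rfl | hq
          exacts [hx, hseen q hq]) hl e he

theorem trees_ok : checkTree (R.topGens j2_chain.tail) [1] tree1 = true ∧
    checkTree (R.topGens j2_chain.tail) [37] tree2 = true ∧
    (1 :: tree1.map Prod.fst).Nodup ∧ (37 :: tree2.map Prod.fst).Nodup ∧
    ((1 :: tree1.map Prod.fst).length = 36 ∧ (37 :: tree2.map Prod.fst).length = 63) ∧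
    ((List.range 100).all fun p => Nat.beq p 0 || (1 :: tree1.map Prod.fst).elem p ||
      (37 :: tree2.map Prod.fst).elem p) = true ∧
    (R.topGens j2_chain.tail).all (fun s => okPerm 100 7 s && Nat.beq (getW 7 s 0) 0) = true := by
  decide +kernel

theorem gens_five : ∀ s ∈ j2_gens, okPerm 100 7 s = true ∧
    Nat.beq (mulP 100 7 s (mulP 100 7 s (mulP 100 7 s (mulP 100 7 s s))))
      (packW 7 (fun x => x) 100) = true := by decide +kernel

theorem head_base : (j2_chain.head?.map fun L => (L.base, L.orb.toList.length)) = some (0, 100) := by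
  decide +kernel

theorem transitive_J : IsPretransitive J (Fin 100) := by
  have hJ : J = R.grp j2_chain := R.closure_eq_grp j2_check
  obtain ⟨L, rest, hc⟩ : ∃ L rest, j2_chain = L :: rest := ⟨_, _, rfl⟩
  have hh := head_base
  rw [hc] at hh
  simp only [List.head?_cons, Option.map_some, Option.some.injEq, Prod.mk.injEq] at hh
  have hchk := R.checkChain_of_checkClosure j2_check
  rw [hc] at hchk hJ
  have key : ∀ i : Fin 100, ∃ g : J, g • (0 : Fin 100) = i := fun i => by
    obtain ⟨g, hg, he⟩ := exists_apply_base_eq (n := 100) (w := 7) (hw := by decide) hchk hh.2 i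
    rw [hh.1] at he
    exact ⟨⟨g, hJ ▸ hg⟩, he⟩
  constructor
  intro a b
  obtain ⟨g, rfl⟩ := key a
  obtain ⟨g', rfl⟩ := key b
  exact ⟨g' * g⁻¹, by rw [mul_smul, inv_smul_smul]⟩

theorem isSimple_J : IsSimpleGroup J := by
  haveI := transitive_J
  haveI : Nontrivial J := Finite.one_lt_card_iff_nontrivial.mp (by rw [card_J]; norm_num)
  refine IsSimpleGroup.mk fun N hN => ?_
  by_cases hbot : N = ⊥
  · exact Or.inl hbot
  refine Or.inr ?_
  set S : Set (Fin 100) := orbit N (0 : Fin 100) with hSdef
  obtain ⟨ht1, ht2, hn1, hn2, ⟨hl1, hl2⟩, hall, hgens⟩ := trees_ok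
  have hstab : ∀ s ∈ R.topGens j2_chain.tail, decodeP 100 7 s ∈ J ∧
      decodeP 100 7 s (0 : Fin 100) = 0 := by
    intro s hs
    obtain ⟨L, rest, hc⟩ : ∃ L rest, j2_chain = L :: rest := ⟨_, _, rfl⟩
    have hJ : J = R.grp j2_chain := R.closure_eq_grp j2_check
    have hchk := R.checkChain_of_checkClosure j2_check
    rw [hc] at hJ hchk hs
    simp only [List.tail_cons] at hs
    have := List.all_eq_true.mp hgens s (by rw [hc]; exact hs)
    simp only [Bool.and_eq_true, Nat.beq_eq] at this
    refine ⟨hJ ▸ R.grp_tail_le hchk (R.val_mem_grp hs), Fin.ext ?_⟩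
    rw [decodeP_apply this.1]
    exact this.2
  have hinv : ∀ s ∈ R.topGens j2_chain.tail, ∀ p : Fin 100, p ∈ S → decodeP 100 7 s p ∈ S := by
    intro s hs p hp
    obtain ⟨hsJ, hs0⟩ := hstab s hs
    obtain ⟨n, rfl⟩ := hp
    let k : J := ⟨_, hsJ⟩
    refine ⟨⟨k * n * k⁻¹, hN.conj_mem _ n.2 _⟩, ?_⟩
    show (k * (n : J) * k⁻¹) • (0 : Fin 100) = k • ((n : J) • (0 : Fin 100))
    have hk : k⁻¹ • (0 : Fin 100) = 0 := inv_smul_eq_iff.mpr hs0.symm
    rw [mul_smul, mul_smul, hk]
  have hok : ∀ s ∈ R.topGens j2_chain.tail, okPerm 100 7 s = true := fun s hs => by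
    have := List.all_eq_true.mp hgens s hs
    simp only [Bool.and_eq_true] at this
    exact this.1
  have h0 : (0 : Fin 100) ∈ S := mem_orbit_self _
  have hclass : ∀ (seed : ℕ) (t : List (Nat × Nat × Nat)),
      checkTree (R.topGens j2_chain.tail) [seed] t = true → seed < 100 →
      Fin.ofNat 100 seed ∈ S → ∀ q ∈ seed :: t.map Prod.fst, Fin.ofNat 100 q ∈ S := by
    intro seed t ht hlt hmem q hq
    rcases List.mem_cons.mp hq with rfl | hq
    · exact hmem
    · obtain ⟨e, he, rfl⟩ := List.mem_map.mp hq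
      exact checkTree_sound S hinv hok t [seed] (fun p hp => by
        rw [List.mem_singleton] at hp; subst hp; exact ⟨hlt, hmem⟩) ht e he
  -- stabiliser invariance makes each class all or nothing
  have hclosed : ∀ (seed : ℕ) (t : List (Nat × Nat × Nat)),
      checkTree (R.topGens j2_chain.tail) [seed] t = true → seed < 100 →
      ∀ q ∈ seed :: t.map Prod.fst, Fin.ofNat 100 q ∈ S → Fin.ofNat 100 seed ∈ S := by
    intro seed t ht hlt q hq hqS
    by_contra hns
    have hc : ∀ q ∈ seed :: t.map Prod.fst, Fin.ofNat 100 q ∈ Sᶜ := by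
      intro q hq
      rcases List.mem_cons.mp hq with rfl | hq
      · exact hns
      · obtain ⟨e, he, rfl⟩ := List.mem_map.mp hq
        refine checkTree_sound Sᶜ (fun s hs p hp hmem => hp ?_) hok t [seed] (fun p hp => by
          rw [List.mem_singleton] at hp; subst hp; exact ⟨hlt, hns⟩) ht e he
        have hfin := Set.eq_of_subset_of_ncard_le (s := decodeP 100 7 s '' S) (t := S)
          (by rintro _ ⟨r, hr, rfl⟩; exact hinv s hs r hr)
          (by rw [Set.ncard_image_of_injective _ (Equiv.injective _)])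
        rw [← hfin] at hmem
        obtain ⟨r, hr, he⟩ := hmem
        rwa [← (decodeP 100 7 s).injective he]
    exact hc q hq hqS
  have hcases : ∀ p : Fin 100, p = 0 ∨ (p : ℕ) ∈ 1 :: tree1.map Prod.fst ∨
      (p : ℕ) ∈ 37 :: tree2.map Prod.fst := by
    intro p
    have := List.all_eq_true.mp hall (p : ℕ) (List.mem_range.mpr p.2)
    simp only [Bool.or_eq_true, Nat.beq_eq] at this
    rcases this with (h | h) | h
    · exact Or.inl (Fin.ext h)
    · exact Or.inr (Or.inl (List.elem_iff.mp h))
    · exact Or.inr (Or.inr (List.elem_iff.mp h))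
  have hof : ∀ p : Fin 100, Fin.ofNat 100 (p : ℕ) = p := fun p => Fin.ext (Nat.mod_eq_of_lt p.2)
  have hcardL : ∀ l : List ℕ, l.Nodup → (∀ q ∈ l, q < 100) →
      ({p : Fin 100 | (p : ℕ) ∈ l}).ncard = l.length := by
    intro l hl hb
    rw [← List.toFinset_card_of_nodup hl, ← Set.ncard_image_of_injective _ Fin.val_injective,
      ← Set.ncard_coe_finset]
    congr 1
    ext q
    simp only [Set.mem_image, Set.mem_ofPred_eq, List.coe_toFinset]
    exact ⟨fun ⟨p, hp, e⟩ => e ▸ hp, fun hq => ⟨⟨q, hb q hq⟩, hq, rfl⟩⟩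
  have hb1 : ∀ q ∈ 1 :: tree1.map Prod.fst, q < 100 := by decide +kernel
  have hb2 : ∀ q ∈ 37 :: tree2.map Prod.fst, q < 100 := by decide +kernel
  have hdvd : S.ncard ∣ 100 := by
    have := (IsBlock.orbit_of_normal (N := N) (0 : Fin 100)).ncard_dvd_card ⟨0, h0⟩
    rwa [Nat.card_eq_fintype_card, Fintype.card_fin] at this
  have hSuniv : S = Set.univ := by
    by_cases c1 : Fin.ofNat 100 1 ∈ S <;> by_cases c2 : Fin.ofNat 100 37 ∈ S
    · refine Set.eq_univ_of_forall fun p => ?_
      rcases hcases p with rfl | h | h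
      · exact h0
      · exact hof p ▸ hclass 1 _ ht1 (by norm_num) c1 _ h
      · exact hof p ▸ hclass 37 _ ht2 (by norm_num) c2 _ h
    · exfalso
      have e : S = insert 0 {p : Fin 100 | (p : ℕ) ∈ 1 :: tree1.map Prod.fst} := by
        ext p
        constructor
        · intro hp
          rcases hcases p with rfl | h | h
          · exact Set.mem_insert _ _
          · exact Set.mem_insert_of_mem _ h
          · exact absurd (hclosed 37 _ ht2 (by norm_num) _ h ((hof p).symm ▸ hp)) c2
        · rintro (rfl | h)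
          · exact h0
          · exact hof p ▸ hclass 1 _ ht1 (by norm_num) c1 _ h
      have hlt : S.ncard = 37 := by
        rw [e, Set.ncard_insert_of_notMem, hcardL _ hn1 hb1, hl1]
        show (0 : ℕ) ∉ 1 :: tree1.map Prod.fst
        decide +kernel
      rw [hlt] at hdvd; norm_num at hdvd
    · exfalso
      have e : S = insert 0 {p : Fin 100 | (p : ℕ) ∈ 37 :: tree2.map Prod.fst} := by
        ext p
        constructor
        · intro hp
          rcases hcases p with rfl | h | h
          · exact Set.mem_insert _ _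
          · exact absurd (hclosed 1 _ ht1 (by norm_num) _ h ((hof p).symm ▸ hp)) c1
          · exact Set.mem_insert_of_mem _ h
        · rintro (rfl | h)
          · exact h0
          · exact hof p ▸ hclass 37 _ ht2 (by norm_num) c2 _ h
      have hlt : S.ncard = 64 := by
        rw [e, Set.ncard_insert_of_notMem, hcardL _ hn2 hb2, hl2]
        show (0 : ℕ) ∉ 37 :: tree2.map Prod.fst
        decide +kernel
      rw [hlt] at hdvd; norm_num at hdvd
    · exfalso
      apply hbot
      rw [Subgroup.eq_bot_iff_forall]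
      intro n hn
      refine Subtype.ext (Equiv.ext fun p => ?_)
      obtain ⟨a, ha⟩ := exists_smul_eq J (0 : Fin 100) p
      have hmem : (⟨a⁻¹ * n * a, by simpa using hN.conj_mem n hn a⁻¹⟩ : N) • (0 : Fin 100) ∈ S :=
        ⟨_, rfl⟩
      have h00 : (a⁻¹ * n * a) • (0 : Fin 100) = 0 := by
        rcases hcases ((a⁻¹ * n * a) • (0 : Fin 100)) with h | h | h
        · exact h
        · exact absurd (hclosed 1 _ ht1 (by norm_num) _ h ((hof _).symm ▸ hmem)) c1
        · exact absurd (hclosed 37 _ ht2 (by norm_num) _ h ((hof _).symm ▸ hmem)) c2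
      rw [mul_smul, mul_smul, ha, inv_smul_eq_iff, ha] at h00
      exact h00
  have h100 : 100 ∣ Nat.card N := by
    have h1 := index_stabilizer N (0 : Fin 100)
    rw [show (orbit N (0 : Fin 100)).ncard = 100 by
      rw [← hSdef, hSuniv, Set.ncard_univ, Nat.card_eq_fintype_card, Fintype.card_fin]] at h1
    exact (dvd_of_eq h1.symm).trans (Subgroup.index_dvd_card _)
  have hidx : N.index ∣ 6048 := by
    obtain ⟨c, hc⟩ := h100
    have := N.card_mul_index
    rw [hc, card_J] at this
    have h2 : 100 * (c * N.index) = 100 * 6048 := by rw [← mul_assoc, this]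
    exact Dvd.intro_left c (Nat.eq_of_mul_eq_mul_left (by norm_num) h2)
  have hmem : ∀ g : J, g ^ 5 = 1 → g ∈ N := by
    intro g hg
    rw [← QuotientGroup.eq_one_iff (N := N)]
    have h1 : orderOf (g : J ⧸ N) ∣ 5 :=
      orderOf_dvd_of_pow_eq_one (by rw [← QuotientGroup.mk_pow, hg]; rfl)
    have h2 : orderOf (g : J ⧸ N) ∣ 6048 := (orderOf_dvd_natCard _).trans hidx
    have := Nat.dvd_gcd h1 h2
    rw [show Nat.gcd 5 6048 = 1 by norm_num, Nat.dvd_one, orderOf_eq_one_iff] at this
    exact this
  rw [eq_top_iff]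
  rintro ⟨g, hg⟩ -
  have key : ∀ x (hx : x ∈ J), (⟨x, hx⟩ : J) ∈ N := by
    intro x hx
    induction hx using Subgroup.closure_induction with
    | mem y hy =>
      obtain ⟨s, hs, rfl⟩ := hy
      obtain ⟨ho, hb⟩ := gens_five s hs
      refine hmem _ (Subtype.ext ?_)
      have h2 := okPerm_mulP ho ho
      have h3 := okPerm_mulP ho h2
      have h4 := okPerm_mulP ho h3
      have e := congrArg (decodeP 100 7) (Nat.eq_of_beq_eq_true hb)
      rw [decodeP_mulP ho h4, decodeP_mulP ho h3, decodeP_mulP ho h2, decodeP_mulP ho ho] at e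
      show (decodeP 100 7 s) ^ 5 = 1
      rw [show decodeP 100 7 (packW 7 (fun x => x) 100) = 1 from R.val_one] at e
      rw [← e]; simp [pow_succ, mul_assoc]
    | one => exact N.one_mem
    | mul x y _ _ hx hy => exact N.mul_mem hx hy
    | inv x _ hx => exact N.inv_mem hx
  exact key g hg

end Cfsg.Agent.Lib.HallJanko
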