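import Mathlib
import Cfsg.Agent.Lib.OrthTwo.Binary
import Cfsg.Agent.Lib.DihedralCentralizer.Classify
import Cfsg.Agent.Lib.SylowNumbers.SimpleAux
import Cfsg.Agent.Lib.HallJanko.Real

/-!
# Hall-Janko type: the centralisers of the elements of order three

Owner: helper99.
-/

set_option autoImplicit false
set_option linter.style.haveILetI false

namespace Cfsg.Agent.Lib.HallJanko

open Cfsg.Agent.Lib.LargeExtraspecial.Basic Cfsg.Agent.Lib.HallJanko.Model
open Cfsg.Agent.Lib.Involutions.Basic (invol_iff orderOf_conj_eq)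
open Cfsg.Agent.Lib.Involutions.Thompson (card_class_mul)

variable {G : Type*} [Group G] [Finite G] {z : G} {Q : Subgroup G} {u : Fin 5 → G} {t : G}
variable {V M0 : Subgroup G}

/-- A simple group of order `168`: a subgroup of order `7` is self-centralising, with normalizer of order `21`. -/
theorem simple168_seven {L : Type*} [Group L] [Finite L] [IsSimpleGroup L] (hL : Nat.card L = 168) {x : L}
    (hx : orderOf x = 7) :
    (∀ y, Commute y x → y ∈ Subgroup.zpowers x) ∧ ∃ y : L, y * x * y⁻¹ ∈ Subgroup.zpowers x ∧ ¬ Commute y x ∧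
      y ^ 3 = 1 := by
  haveI : Fact (Nat.Prime 7) := ⟨by norm_num⟩
  haveI : Fact (Nat.Prime 3) := ⟨Nat.prime_three⟩
  have hfac : (Nat.card L).factorization 7 = 1 := by
    rw [hL, show (168 : ℕ) = 7 * 24 by norm_num, Nat.factorization_mul (by norm_num) (by norm_num),
      Finsupp.add_apply, Nat.Prime.factorization_self (by norm_num),
      Nat.factorization_eq_zero_of_not_dvd (by norm_num)]
  have hc7 : Nat.card (Subgroup.zpowers x) = 7 := by rw [Nat.card_zpowers, hx]
  let P : Sylow 7 L := Sylow.ofCard (Subgroup.zpowers x) (by rw [hc7, hfac, pow_one])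
  have hPx : (P : Subgroup L) = Subgroup.zpowers x := rfl
  set N := Subgroup.normalizer ((P : Subgroup L) : Set L) with hN
  set C := Subgroup.centralizer ((P : Subgroup L) : Set L) with hC
  have hidx : Nat.card (Sylow 7 L) * Nat.card N = 168 := by
    rw [← hL, ← Subgroup.card_mul_index N, mul_comm]
    congr 1
    exact P.card_eq_index_normalizer
  have hPN : (P : Subgroup L) ≤ N := Subgroup.le_normalizer
  have h7N : 7 ∣ Nat.card N := hc7 ▸ Subgroup.card_dvd_of_le (hPx ▸ hPN)
  have hne : Nat.card (Sylow 7 L) ≠ 1 := by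
    intro h1
    haveI : (P : Subgroup L).Normal := Subgroup.normalizer_eq_top_iff.1 (by
      rw [← Subgroup.index_eq_one]; exact P.card_eq_index_normalizer.symm.trans h1)
    rcases IsSimpleGroup.eq_bot_or_eq_top_of_normal (P : Subgroup L) inferInstance with e | e
    · rw [hPx] at e; rw [e, Subgroup.card_bot] at hc7; norm_num at hc7
    · rw [hPx] at e; rw [e, Subgroup.card_top, hL] at hc7; norm_num at hc7
  have hN21 : Nat.card N = 21 := by
    obtain ⟨m, hm⟩ := h7N
    have hmod := card_sylow_modEq_one 7 L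
    rw [hm] at hidx ⊢
    have hd : Nat.card (Sylow 7 L) ∣ 24 := ⟨m, by
      rw [← mul_assoc, mul_comm _ 7, mul_assoc] at hidx; omega⟩
    have hle := Nat.le_of_dvd (by norm_num) hd
    unfold Nat.ModEq at hmod
    generalize Nat.card (Sylow 7 L) = s at hidx hd hle hmod hne
    interval_cases s <;> omega
  have hnle := Cfsg.Agent.Lib.SylowNumbers.SimpleAux.not_normalizer_le_centralizer P
    (fun e => by rw [hPx] at e; rw [e, Subgroup.card_bot] at hc7; norm_num at hc7)
    (fun e => by rw [hPx] at e; rw [e, Subgroup.card_top, hL] at hc7; norm_num at hc7)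
  have hPC : (P : Subgroup L) ≤ C := fun a ha => Subgroup.mem_centralizer_iff.2 fun b hb => by
    obtain ⟨i, rfl⟩ := Subgroup.mem_zpowers_iff.1 (hPx ▸ ha : a ∈ Subgroup.zpowers x)
    obtain ⟨j, rfl⟩ := Subgroup.mem_zpowers_iff.1 (hPx ▸ hb : b ∈ Subgroup.zpowers x)
    exact ((Commute.refl x).zpow_zpow j i).eq
  have hCN : C ≤ N := fun a ha => by
    refine mem_normalizer_of_conj _ fun b hb => ?_
    rw [mul_inv_eq_iff_eq_mul.2 (Subgroup.mem_centralizer_iff.1 ha b hb).symm]
    exact hb
  have hC7 : C = (P : Subgroup L) := by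
    refine (Subgroup.eq_of_le_of_card_ge hPC ?_).symm
    have h1 : Nat.card C ∣ 21 := hN21 ▸ Subgroup.card_dvd_of_le hCN
    have h2 : 7 ∣ Nat.card C := hc7 ▸ (hPx ▸ Subgroup.card_dvd_of_le hPC : Nat.card (Subgroup.zpowers x) ∣ Nat.card C)
    have h3 : Nat.card C ≠ 21 := fun e => hnle
      (le_of_eq (Subgroup.eq_of_le_of_card_ge hCN (by rw [e, hN21])).symm)
    rw [hPx, hc7]
    have hle := Nat.le_of_dvd (by norm_num) h1
    generalize Nat.card C = c at h1 h2 h3 hle ⊢
    interval_cases c <;> omega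
  refine ⟨fun y hy => ?_, ?_⟩
  · rw [← hPx, ← hC7, hC, Subgroup.mem_centralizer_iff]
    intro b hb
    obtain ⟨j, rfl⟩ := Subgroup.mem_zpowers_iff.1 (hPx ▸ hb : b ∈ Subgroup.zpowers x)
    exact (hy.zpow_right j).eq.symm
  · obtain ⟨y, hy⟩ := exists_prime_orderOf_dvd_card' (G := N) 3 (by rw [hN21]; norm_num)
    have hxP : x ∈ (P : Subgroup L) := Subgroup.mem_zpowers x
    refine ⟨y, hPx ▸ (Subgroup.mem_normalizer_iff.1 y.2 x).1 hxP, fun hc => ?_,
      by rw [← hy, ← Subgroup.orderOf_coe]; exact pow_orderOf_eq_one _⟩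
    have hyC : (y : L) ∈ Subgroup.zpowers x := by
      rw [← hPx, ← hC7, hC, Subgroup.mem_centralizer_iff]
      intro b hb
      obtain ⟨j, rfl⟩ := Subgroup.mem_zpowers_iff.1 (hPx ▸ hb : b ∈ Subgroup.zpowers x)
      exact (hc.zpow_right j).eq.symm
    have h1 := Subgroup.orderOf_dvd_natCard _ hyC
    rw [Subgroup.orderOf_coe, hy, hc7] at h1
    norm_num at h1

namespace Setting

theorem no_seven_five (h : Setting z Q u t) {f : G} (hf : orderOf f = 5) :
    ¬ 7 ∣ Nat.card (Subgroup.centralizer ({f} : Set G)) := by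
  haveI : Fact (Nat.Prime 5) := ⟨by norm_num⟩
  obtain ⟨P⟩ : Nonempty (Sylow 5 G) := inferInstance
  obtain ⟨⟨f', -, hall⟩, -⟩ := h.sylow_five_full P
  rcases hall f hf with e | ⟨e, -⟩ <;> rw [e] <;> norm_num

/-- The centraliser of a subgroup of order seven is `7` times a power of three. -/
theorem cent_seven (h : Setting z Q u t) {d : G} (hd : orderOf d = 7) :
    ∃ k, k ≤ 3 ∧ Nat.card (Subgroup.centralizer ({d} : Set G)) = 7 * 3 ^ k := by
  set C := Subgroup.centralizer ({d} : Set G) with hC
  have hdvd : Nat.card C ∣ 7 * (2 ^ 7 * 3 ^ 3 * 5 ^ 2) := by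
    have := Subgroup.card_subgroup_dvd_card C
    rw [h.card_group] at this
    norm_num
    exact this
  have h2 : ¬ 2 ∣ Nat.card C := by
    intro h2
    haveI : Fact (Nat.Prime 2) := ⟨Nat.prime_two⟩
    obtain ⟨x, hx⟩ := exists_prime_orderOf_dvd_card' (G := C) 2 h2
    rw [← Subgroup.orderOf_coe] at hx
    have hdC : d ∈ Subgroup.centralizer ({(x : G)} : Set G) :=
      mem_centralizer_of_commute (commute_of_mem x.2).symm
    have h7 := Subgroup.orderOf_dvd_natCard _ hdC
    rw [hd] at h7
    rcases h.classes x hx with hc | hc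
    · rw [← card_centralizer_of_isConj hc, h.cent] at h7; norm_num at h7
    · rw [← card_centralizer_of_isConj hc, h.card_centralizer_t] at h7; norm_num at h7
  have h5 : ¬ 5 ∣ Nat.card C := by
    intro h5
    haveI : Fact (Nat.Prime 5) := ⟨by norm_num⟩
    obtain ⟨x, hx⟩ := exists_prime_orderOf_dvd_card' (G := C) 5 h5
    rw [← Subgroup.orderOf_coe] at hx
    refine h.no_seven_five hx ?_
    rw [← hd]
    exact Subgroup.orderOf_dvd_natCard _ (mem_centralizer_of_commute (commute_of_mem x.2).symm)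
  have h7 : 7 ∣ Nat.card C := hd ▸ Subgroup.orderOf_dvd_natCard _ (mem_centralizer_of_commute (Commute.refl d))
  obtain ⟨m, hm⟩ := h7
  rw [hm] at hdvd h2 h5 ⊢
  have hm1 : m ∣ 2 ^ 7 * 3 ^ 3 * 5 ^ 2 := Nat.dvd_of_mul_dvd_mul_left (by norm_num) hdvd
  have hc2 : Nat.Coprime m (2 ^ 7) := Nat.Coprime.pow_right 7
    ((Nat.Prime.coprime_iff_not_dvd Nat.prime_two).2 (fun q => h2 (q.mul_left 7))).symm
  have hc5 : Nat.Coprime m (5 ^ 2) := Nat.Coprime.pow_right 2
    ((Nat.Prime.coprime_iff_not_dvd (by norm_num)).2 (fun q => h5 (q.mul_left 7))).symm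
  have hm3 : m ∣ 3 ^ 3 := by
    have h1 : m ∣ 2 ^ 7 * 3 ^ 3 := hc5.dvd_of_dvd_mul_right hm1
    exact hc2.dvd_of_dvd_mul_left h1
  obtain ⟨k, hk, rfl⟩ := (Nat.dvd_prime_pow Nat.prime_three).1 hm3
  exact ⟨k, hk, rfl⟩

/-- The quotient `C(a) / ⟨a⟩` for `a ∈ C(z)` of order three has an involution with dihedral centraliser
of order eight and no subgroup of index two. -/
theorem quot_three (h : Setting z Q u t) {a : G} (ha : a ∈ Subgroup.centralizer ({z} : Set G))
    (ha3 : orderOf a = 3) :
    ∃ (_ : (Subgroup.zpowers (⟨a, mem_centralizer_of_commute (Commute.refl a)⟩ :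
        Subgroup.centralizer ({a} : Set G))).Normal) (w : Subgroup.centralizer ({a} : Set G) ⧸
          Subgroup.zpowers (⟨a, mem_centralizer_of_commute (Commute.refl a)⟩ :
            Subgroup.centralizer ({a} : Set G))),
      IsSimpleGroup (Subgroup.centralizer ({a} : Set G) ⧸
          Subgroup.zpowers (⟨a, mem_centralizer_of_commute (Commute.refl a)⟩ :
            Subgroup.centralizer ({a} : Set G))) ∧
      orderOf w = 2 ∧
      (Nat.card (Subgroup.centralizer ({a} : Set G) ⧸
          Subgroup.zpowers (⟨a, mem_centralizer_of_commute (Commute.refl a)⟩ :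
            Subgroup.centralizer ({a} : Set G))) = 168 ∨
        Nat.card (Subgroup.centralizer ({a} : Set G) ⧸
          Subgroup.zpowers (⟨a, mem_centralizer_of_commute (Commute.refl a)⟩ :
            Subgroup.centralizer ({a} : Set G))) = 360) := by
  classical
  haveI : Fact (Nat.Prime 2) := ⟨Nat.prime_two⟩
  obtain ⟨h24, i, j, hij, hia, hja⟩ := h.toFive.cent_three ha ha3
  set H := Subgroup.centralizer ({a} : Set G) with hH
  set B : H := ⟨a, mem_centralizer_of_commute (Commute.refl a)⟩ with hB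
  have hBc : ∀ x : H, Commute x B := fun x => Subtype.ext (commute_of_mem x.2).eq
  have hn : (Subgroup.zpowers B).Normal := by
    refine ⟨fun c hc x => ?_⟩
    obtain ⟨k, rfl⟩ := Subgroup.mem_zpowers_iff.1 hc
    rw [mul_inv_eq_iff_eq_mul.2 ((hBc x).zpow_right k).eq]
    exact Subgroup.zpow_mem_zpowers _ _
  haveI := hn
  have hB3 : ∀ c ∈ Subgroup.zpowers B, c ^ 3 = 1 := fun c hc => by
    obtain ⟨k, rfl⟩ := Subgroup.mem_zpowers_iff.1 hc
    rw [← zpow_natCast, zpow_comm, zpow_natCast, show B ^ 3 = 1 from Subtype.ext (by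
      rw [SubgroupClass.coe_pow, ← ha3]; exact pow_orderOf_eq_one a), one_zpow]
  let π := QuotientGroup.mk' (Subgroup.zpowers B)
  set zH : H := ⟨z, mem_centralizer_of_commute (h.z_comm ha)⟩ with hzH
  set s : H := ⟨u i, mem_centralizer_of_commute hia⟩ with hs
  set s' : H := ⟨u j, mem_centralizer_of_commute hja⟩ with hs'
  have hzz : zH * zH = 1 := Subtype.ext h.es.sq
  have hker : ∀ x : H, x * x = 1 → π x = 1 → x = 1 := fun x hx hπ => by
    have hm : x ∈ Subgroup.zpowers B := (QuotientGroup.eq_one_iff x).1 hπ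
    have h3 := hB3 x hm
    rwa [pow_succ, pow_two, hx, one_mul] at h3
  set w := π zH with hw
  have hw1 : w ≠ 1 := fun e => h.es.ne (congrArg Subtype.val (hker zH hzz e))
  have hw2 : orderOf w = 2 := invol_iff.2 ⟨by rw [hw, ← map_mul, hzz, map_one], hw1⟩
  -- the centraliser of `w`
  have hCw : Subgroup.centralizer ({w} : Set (H ⧸ Subgroup.zpowers B)) =
      (Subgroup.centralizer ({zH} : Set H)).map π := by
    ext x
    constructor
    · intro hx
      obtain ⟨y, rfl⟩ := QuotientGroup.mk'_surjective _ x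
      refine ⟨y, mem_centralizer_of_commute ?_, rfl⟩
      exact Quot.commute_of_quot (p := 3) (by decide) (Subgroup.zpowers B) hB3 hzz (fun c hc => by
        obtain ⟨k, rfl⟩ := Subgroup.mem_zpowers_iff.1 hc
        exact (hBc _).zpow_right k) (commute_of_mem hx)
    · rintro ⟨y, hy, rfl⟩
      exact mem_centralizer_of_commute ((commute_of_mem hy).map π)
  have hcard8 : Nat.card (Subgroup.centralizer ({w} : Set (H ⧸ Subgroup.zpowers B))) = 8 := by
    set X := Subgroup.centralizer ({zH} : Set H) with hX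
    have hX24 : Nat.card X = 24 := by
      rw [← h24]
      refine Nat.card_congr
        { toFun := fun x => ⟨(x.1 : G), mem_centralizer_of_commute (congrArg Subtype.val
            (Subgroup.mem_centralizer_singleton_iff.1 x.2) : (x.1 : G) * z = z * x.1), x.1.2⟩
          invFun := fun x => ⟨⟨x.1, x.2.2⟩, Subgroup.mem_centralizer_singleton_iff.2
            (Subtype.ext (commute_of_mem x.2.1).eq)⟩
          left_inv := fun x => rfl
          right_inv := fun x => rfl }
    have hBX : Subgroup.zpowers B ≤ X := Subgroup.zpowers_le.2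
      (mem_centralizer_of_commute (hBc zH).symm)
    have h3 : Nat.card (Subgroup.zpowers B) = 3 := by
      rw [Nat.card_zpowers, ← Subgroup.orderOf_coe]; exact ha3
    have h1 : Nat.card (π.domRestrict X).ker = 3 := by
      have hk : (π.domRestrict X).ker = (Subgroup.zpowers B).subgroupOf X := by
        ext x
        exact QuotientGroup.eq_one_iff (x : H)
      rw [hk, Nat.card_congr (Subgroup.subgroupOfEquivOfLe hBX).toEquiv, h3]
    have h2 := Subgroup.card_mul_index (π.domRestrict X).ker
    rw [Subgroup.index_ker, h1, MonoidHom.domRestrict_range, hX24] at h2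
    rw [hCw]
    omega
  -- it is dihedral
  set Cw := Subgroup.centralizer ({w} : Set (H ⧸ Subgroup.zpowers B)) with hCwdef
  have hzu : ∀ k, Commute z (u k) := fun k => (h.es.comm _ (h.mem k)).symm
  have hsC : π s ∈ Cw := mem_centralizer_of_commute
    ((show Commute s zH from Subtype.ext (hzu i).eq.symm).map π)
  have hs'C : π s' ∈ Cw := mem_centralizer_of_commute
    ((show Commute s' zH from Subtype.ext (hzu j).eq.symm).map π)
  set S : Cw := ⟨π s, hsC⟩ with hS
  set R : Cw := ⟨π s * π s', mul_mem hsC hs'C⟩ with hR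
  have hss : s * s = 1 := Subtype.ext (h.sq i)
  have hs's' : s' * s' = 1 := Subtype.ext (h.sq j)
  have hr2 : π s * π s' * (π s * π s') = w := by
    rw [← map_mul, ← map_mul, hw]
    congr 1
    exact Subtype.ext (h.sq_mul hij)
  have hR4 : orderOf R = 4 := by
    have h4 : orderOf R = 2 ^ (1 + 1) := orderOf_eq_prime_pow (fun e => hw1 (by
      have e' := congrArg Subtype.val e
      rw [pow_one, pow_two] at e'
      exact hr2 ▸ e')) (Subtype.ext (by
      rw [SubgroupClass.coe_pow, show (2 : ℕ) ^ (1 + 1) = 2 * 2 from rfl, pow_mul, pow_two, pow_two]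
      show π s * π s' * (π s * π s') * (π s * π s' * (π s * π s')) = 1
      rw [hr2]
      exact (invol_iff.1 hw2).1))
    exact h4
  have hSS : S * S = 1 := Subtype.ext (by show π s * π s = 1; rw [← map_mul, hss, map_one])
  have hinv : S * R * S = R⁻¹ := by
    refine eq_inv_of_mul_eq_one_left (Subtype.ext ?_)
    show π s * (π s * π s') * π s * (π s * π s') = 1
    rw [← map_mul, ← map_mul, ← map_mul, ← map_mul]
    rw [show s * (s * s') * s * (s * s') = (s * s) * s' * (s * s) * s' by group, hss, one_mul, mul_one, hs's',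
      map_one]
  have hSR : ∀ k : ℤ, S ≠ R ^ k := by
    intro k e
    have hc : Commute S R := e ▸ (Commute.refl R).zpow_left k
    rw [hc.eq, mul_assoc, hSS, mul_one] at hinv
    have h2 : R ^ 2 = 1 := by rw [pow_two]; nth_rw 2 [hinv]; exact mul_inv_cancel R
    have := orderOf_dvd_of_pow_eq_one h2
    rw [hR4] at this
    norm_num at this
  obtain ⟨eD⟩ : Nonempty (Cw ≃* DihedralGroup 4) := by
    refine Cfsg.Agent.Lib.OrthTwo.Binary.dihedral_of hR4 hSS hSR hinv fun g => ?_
    let F : Bool × Fin 4 → Cw := fun p => (if p.1 then S else 1) * R ^ (p.2 : ℕ)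
    have hF : Function.Injective F := by
      rintro ⟨b, k⟩ ⟨b', k'⟩ e
      have hk : ∀ k k' : Fin 4, R ^ (k : ℕ) = R ^ (k' : ℕ) → k = k' := fun k k' e => by
        have := pow_eq_pow_iff_modEq.1 e
        rw [hR4] at this
        unfold Nat.ModEq at this
        ext; omega
      cases b <;> cases b' <;> simp only [F, if_true, if_false, one_mul, Bool.false_eq_true] at e
      · rw [hk k k' e]
      · exact absurd (show S = R ^ ((k : ℤ) - (k' : ℤ)) by
          rw [zpow_sub, zpow_natCast, zpow_natCast, e, mul_inv_cancel_right]) (hSR _)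
      · exact absurd (show S = R ^ ((k' : ℤ) - (k : ℤ)) by
          rw [zpow_sub, zpow_natCast, zpow_natCast, ← e, mul_inv_cancel_right]) (hSR _)
      · rw [hk k k' (mul_left_cancel e)]
    have hb : Function.Bijective F := (Nat.bijective_iff_injective_and_card F).2
      ⟨hF, by rw [hcard8, Nat.card_eq_fintype_card]; rfl⟩
    obtain ⟨⟨b, k⟩, e⟩ := hb.2 g
    refine ⟨(k : ℕ), ?_⟩
    rw [← e, zpow_natCast]
    cases b
    · exact Or.inl (one_mul _)
    · exact Or.inr rfl
  -- fusion
  have hnoidx : ∀ K : Subgroup (H ⧸ Subgroup.zpowers B), K.index ≠ 2 := by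
    intro K hK
    haveI : K.Normal := Subgroup.normal_of_index_eq_two hK
    have hwK : w ∈ K := by
      rw [← hr2]
      exact Subgroup.mul_self_mem_of_index_two hK _
    have hswap : ∀ k : Fin 5, Commute (u k) a → ∃ p : H, (p : G) * z * (p : G)⁻¹ = z * u k := by
      intro k hka
      obtain ⟨g, hg⟩ := isConj_iff.1 (h.isConj k)
      set a' := g⁻¹ * a * g with ha'
      set v := g⁻¹ * z * g with hv
      have hback : ∀ {x y : G}, Commute x y → Commute (g⁻¹ * x * g) (g⁻¹ * y * g) := fun {x y} hxy => by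
        simpa [MulAut.conj_apply] using hxy.map (MulAut.conj g⁻¹)
      have hz' : g⁻¹ * u k * g = z := by rw [← hg]; group
      have ha'C : a' ∈ Subgroup.centralizer ({z} : Set G) := mem_centralizer_of_commute (by
        have := hback hka.symm
        rwa [hz'] at this)
      have hvC : v ∈ Subgroup.centralizer ({z} : Set G) := mem_centralizer_of_commute (by
        have := hback (hzu k)
        rwa [hz'] at this)
      have hvc : IsConj z v := isConj_iff.2 ⟨g⁻¹, by rw [inv_inv]⟩
      have hvz : v ≠ z := fun e => h.toFive.u_ne_z k (by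
        have h1 : z = g * z * g⁻¹ := by nth_rw 2 [← e]; rw [hv]; group
        exact hg.symm.trans h1.symm)
      obtain ⟨⟨m, b⟩, hm⟩ := (h.conj_cases_z hvc hvC).resolve_left hvz
      have ha'3 : orderOf a' = 3 := by
        rw [ha']
        simpa using (orderOf_conj_eq g⁻¹ a).trans ha3
      obtain ⟨-, p, q, hpq, hp, hq⟩ := h.toFive.cent_three ha'C ha'3
      obtain ⟨l, hlm, hla⟩ : ∃ l, l ≠ m ∧ Commute (u l) a' := by
        by_cases hpm : p = m
        · exact ⟨q, fun e => hpq (hpm.trans e.symm), hq⟩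
        · exact ⟨p, hpm, hp⟩
      have hconj : u l * v * (u l)⁻¹ = v * z := by
        have h1 := h.toBase.chi_one (h.mem l) (h.mem m) (h.anti l m hlm)
        rw [hm]
        cases b
        · exact h1
        · show u l * (u m * z) * (u l)⁻¹ = u m * z * z
          rw [show u l * (u m * z) * (u l)⁻¹ = u l * u m * (u l)⁻¹ * (u l * z * (u l)⁻¹) by group, h1,
            mul_inv_eq_iff_eq_mul.2 ((hzu l).eq.symm)]
      refine ⟨⟨g * u l * g⁻¹, mem_centralizer_of_commute (by
        have := hla.map (MulAut.conj g)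
        simpa [ha', mul_assoc] using this)⟩, ?_⟩
      show g * u l * g⁻¹ * z * (g * u l * g⁻¹)⁻¹ = z * u k
      calc g * u l * g⁻¹ * z * (g * u l * g⁻¹)⁻¹ = g * (u l * v * (u l)⁻¹) * g⁻¹ := by rw [hv]; group
        _ = (g * v * g⁻¹) * (g * z * g⁻¹) := by rw [hconj]; group
        _ = z * u k := by rw [hg, hv]; group
    have hconjK : ∀ k l : Fin 5, k ≠ l → Commute (u k) a → Commute (u l) a →
        ∀ (hk : u k ∈ H), π ⟨u k, hk⟩ ∈ K := by
      intro k l hkl hka hla hk
      obtain ⟨p, hp⟩ := hswap k hka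
      set q : H := ⟨u l, mem_centralizer_of_commute hla⟩ * p with hq
      have hqz : q * zH * q⁻¹ = ⟨u k, hk⟩ := Subtype.ext (by
        show u l * (p : G) * z * (u l * (p : G))⁻¹ = u k
        rw [show u l * (p : G) * z * (u l * (p : G))⁻¹ = u l * ((p : G) * z * (p : G)⁻¹) * (u l)⁻¹ by group, hp,
          show u l * (z * u k) * (u l)⁻¹ = (u l * z * (u l)⁻¹) * (u l * u k * (u l)⁻¹) by group,
          mul_inv_eq_iff_eq_mul.2 ((hzu l).eq.symm),
          h.toBase.chi_one (h.mem l) (h.mem k) (h.anti l k hkl.symm), ← mul_assoc, (hzu k).eq,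
          h.toBase.mul_z_mul_z])
      rw [← hqz, map_mul, map_mul, map_inv]
      exact Subgroup.Normal.conj_mem inferInstance _ hwK _
    have hle : Cw ≤ K := by
      intro x hx
      have hgen : (S : H ⧸ Subgroup.zpowers B) ∈ K ∧ (R : H ⧸ Subgroup.zpowers B) ∈ K :=
        ⟨hconjK i j hij hia hja _, mul_mem (hconjK i j hij hia hja _) (hconjK j i hij.symm hja hia _)⟩
      let F : Bool × Fin 4 → Cw := fun p => (if p.1 then S else 1) * R ^ (p.2 : ℕ)
      have hb : Function.Surjective F := by
        intro g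
        obtain ⟨d, rfl⟩ := eD.symm.surjective g
        -- all elements are `r ^ k` or `s r ^ k`
        have hinj : Function.Injective F := by
          rintro ⟨b, k⟩ ⟨b', k'⟩ e
          have hk : ∀ k k' : Fin 4, R ^ (k : ℕ) = R ^ (k' : ℕ) → k = k' := fun k k' e => by
            have := pow_eq_pow_iff_modEq.1 e
            rw [hR4] at this
            unfold Nat.ModEq at this
            ext; omega
          cases b <;> cases b' <;> simp only [F, if_true, if_false, one_mul, Bool.false_eq_true] at e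
          · rw [hk k k' e]
          · exact absurd (show S = R ^ ((k : ℤ) - (k' : ℤ)) by
              rw [zpow_sub, zpow_natCast, zpow_natCast, e, mul_inv_cancel_right]) (hSR _)
          · exact absurd (show S = R ^ ((k' : ℤ) - (k : ℤ)) by
              rw [zpow_sub, zpow_natCast, zpow_natCast, ← e, mul_inv_cancel_right]) (hSR _)
          · rw [hk k k' (mul_left_cancel e)]
        exact ((Nat.bijective_iff_injective_and_card F).2
          ⟨hinj, by rw [hcard8, Nat.card_eq_fintype_card]; rfl⟩).2 _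
      obtain ⟨⟨b, k⟩, e⟩ := hb ⟨x, hx⟩
      rw [← show ((F (b, k) : Cw) : H ⧸ Subgroup.zpowers B) = x from congrArg Subtype.val e]
      simp only [F, Subgroup.coe_mul, SubgroupClass.coe_pow]
      refine mul_mem ?_ (pow_mem hgen.2 _)
      cases b
      · exact one_mem _
      · exact hgen.1
    obtain ⟨T, hT⟩ := Cfsg.Agent.Lib.DihedralCentralizer.exists_sylow hw2 eD
    have h2 : 2 ∣ (T : Subgroup (H ⧸ Subgroup.zpowers B)).index := by
      rw [hT, ← hK]
      exact Subgroup.index_dvd_of_le hle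
    exact T.not_dvd_index h2
  obtain ⟨hsimp, hord⟩ := Cfsg.Agent.Lib.DihedralCentralizer.simple_order hw2 eD hnoidx
  exact ⟨hn, w, hsimp, hw2, hord⟩

/-- The centraliser of an element of order three of `C(z)` has order `1080`. -/
theorem cent_three_z (h : Setting z Q u t) {a : G} (ha : a ∈ Subgroup.centralizer ({z} : Set G))
    (ha3 : orderOf a = 3) : Nat.card (Subgroup.centralizer ({a} : Set G)) = 1080 := by
  classical
  haveI : Fact (Nat.Prime 7) := ⟨by norm_num⟩
  haveI : Fact (Nat.Prime 3) := ⟨Nat.prime_three⟩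
  obtain ⟨hn, w, hsimp, -, hord⟩ := h.quot_three ha ha3
  set H := Subgroup.centralizer ({a} : Set G) with hH
  set B : H := ⟨a, mem_centralizer_of_commute (Commute.refl a)⟩ with hB
  haveI := hn
  have hB3 : Nat.card (Subgroup.zpowers B) = 3 := by
    rw [Nat.card_zpowers, ← Subgroup.orderOf_coe]; exact ha3
  have hHcard : Nat.card H = 3 * Nat.card (H ⧸ Subgroup.zpowers B) := by
    rw [← hB3, ← Subgroup.index_eq_card, Subgroup.card_mul_index]
  rcases hord with h168 | h360
  swap
  · rw [hHcard, h360]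
  exfalso
  obtain ⟨d, hd⟩ := exists_prime_orderOf_dvd_card' (G := H) 7 (by rw [hHcard, h168]; norm_num)
  have hd7 : orderOf (d : G) = 7 := by rw [Subgroup.orderOf_coe]; exact hd
  obtain ⟨k, hk, hC⟩ := h.cent_seven hd7
  let π := QuotientGroup.mk' (Subgroup.zpowers B)
  have hker : ∀ x : H, π x = 1 → (x : G) ∈ Subgroup.zpowers a ∧ x ^ 3 = 1 := by
    intro x hx
    obtain ⟨i, hi⟩ := Subgroup.mem_zpowers_iff.1 ((QuotientGroup.eq_one_iff x).1 hx)
    refine ⟨Subgroup.mem_zpowers_iff.2 ⟨i, by rw [← hi]; rfl⟩, ?_⟩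
    rw [← hi, ← zpow_natCast, zpow_comm, zpow_natCast, show B ^ 3 = 1 from Subtype.ext (by
      rw [SubgroupClass.coe_pow, ← ha3]; exact pow_orderOf_eq_one a), one_zpow]
  have hpd : orderOf (π d) = 7 := by
    have h1 : orderOf (π d) ∣ 7 := hd ▸ orderOf_map_dvd π d
    refine ((Nat.dvd_prime (by norm_num : Nat.Prime 7)).1 h1).resolve_left fun e => ?_
    have h3 := orderOf_dvd_of_pow_eq_one (hker d (orderOf_eq_one_iff.1 e)).2
    rw [hd] at h3
    norm_num at h3
  obtain ⟨hself, y, hyx, hync, hy3⟩ := simple168_seven h168 hpd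
  set C := Subgroup.centralizer ({(d : G)} : Set G) with hCd
  have haC : a ∈ C := mem_centralizer_of_commute (commute_of_mem d.2).symm
  -- the lift of `y` normalises `⟨d⟩` without centralising it
  obtain ⟨y', rfl⟩ := QuotientGroup.mk'_surjective (Subgroup.zpowers B) y
  obtain ⟨i, hi⟩ := Subgroup.mem_zpowers_iff.1 hyx
  set c := (d ^ i)⁻¹ * (y' * d * y'⁻¹) with hc
  have hcB : π c = 1 := by
    rw [hc, map_mul, map_inv, map_zpow, map_mul, map_mul, map_inv, hi, inv_mul_cancel]
  have hcd : Commute c d := Subtype.ext (by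
    obtain ⟨j, hj⟩ := Subgroup.mem_zpowers_iff.1 (hker c hcB).1
    show (c : G) * d = d * c
    rw [← hj]
    exact ((commute_of_mem d.2).symm.zpow_left j).eq)
  have he : y' * d * y'⁻¹ = d ^ i * c := (mul_inv_cancel_left _ _).symm
  have hc1 : c = 1 := by
    have hd1 : d ^ 7 = 1 := hd ▸ pow_orderOf_eq_one d
    have h7 : (d ^ i * c) ^ 7 = 1 := by
      rw [← he, conj_pow, hd1, mul_one, mul_inv_cancel]
    rw [(hcd.symm.zpow_left i).mul_pow, show (d ^ i) ^ 7 = 1 by
      rw [← zpow_natCast, zpow_comm, zpow_natCast, hd1, one_zpow], one_mul] at h7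
    have := pow_gcd_eq_one.2 ⟨h7, (hker c hcB).2⟩
    simpa using this
  rw [hc1, mul_one] at he
  have hyN : (y' : G) ∈ Subgroup.normalizer ((Subgroup.zpowers (d : G)) : Set G) := by
    refine mem_normalizer_of_conj _ fun x hx => ?_
    obtain ⟨j, rfl⟩ := Subgroup.mem_zpowers_iff.1 hx
    rw [← conj_zpow, show (y' : G) * d * (y' : G)⁻¹ = (d : G) ^ i from by
      simpa using congrArg Subtype.val he]
    exact zpow_mem (Subgroup.zpow_mem_zpowers _ _) _
  have hCeq : Subgroup.centralizer (Subgroup.zpowers (d : G) : Set G) = C := by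
    rw [hCd, Subgroup.zpowers_eq_closure, Subgroup.centralizer_closure]
  have hyC : (y' : G) ∉ C := fun e => hync (Commute.map (show Commute y' d from
    Subtype.ext (commute_of_mem e).eq) π)
  set N := Subgroup.normalizer ((Subgroup.zpowers (d : G)) : Set G) with hN
  have hCN : C ≤ N := hCeq ▸ Subgroup.centralizer_le_normalizer _
  have he6 : (C.subgroupOf N).index ∣ 6 := by
    have h1 := Cfsg.Agent.Lib.SylowNumbers.SimpleAux.relIndex_centralizer_dvd_totient (Subgroup.zpowers (d : G))
      inferInstance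
    rw [hCeq, Nat.card_zpowers, hd7, Nat.totient_prime (by norm_num)] at h1
    exact h1
  have hNcard : Nat.card N = 7 * 3 ^ k * (C.subgroupOf N).index := by
    rw [← hC, ← Subgroup.card_mul_index (C.subgroupOf N),
      Nat.card_congr (Subgroup.subgroupOfEquivOfLe hCN).toEquiv]
  have h3e : 3 ∣ (C.subgroupOf N).index := by
    haveI : (C.subgroupOf N).Normal := by
      refine ⟨fun x hx g => ?_⟩
      refine Subgroup.mem_subgroupOf.2 (mem_centralizer_of_commute ?_)
      obtain ⟨j, hj⟩ := Subgroup.mem_zpowers_iff.1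
        ((Subgroup.mem_normalizer_iff.1 (inv_mem g.2) _).1 (Subgroup.mem_zpowers (d : G)))
      have h2 := ((commute_of_mem (Subgroup.mem_subgroupOf.1 hx)).zpow_right j).map (MulAut.conj (g : G))
      simpa [hj, mul_assoc] using h2
    have ho : orderOf (QuotientGroup.mk' (C.subgroupOf N) ⟨y', hyN⟩) = 3 := by
      refine orderOf_eq_prime ?_ fun e => hyC
        (Subgroup.mem_subgroupOf.1 ((QuotientGroup.eq_one_iff (⟨y', hyN⟩ : N)).1 e))
      rw [← map_pow]
      refine (QuotientGroup.eq_one_iff _).2 ?_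
      have hy3' : π (y' ^ 3) = 1 := by rw [map_pow]; exact hy3
      obtain ⟨j, hj⟩ := Subgroup.mem_zpowers_iff.1 (hker _ hy3').1
      show (y' : G) ^ 3 ∈ C
      rw [SubgroupClass.coe_pow] at hj
      rw [← hj]
      exact zpow_mem haC j
    rw [← ho, Subgroup.index_eq_card]
    exact orderOf_dvd_natCard _
  -- congruence
  have hfac : (Nat.card G).factorization 7 = 1 := by
    rw [h.card_group, show (604800 : ℕ) = 7 * 86400 by norm_num, Nat.factorization_mul (by norm_num) (by norm_num),
      Finsupp.add_apply, Nat.Prime.factorization_self (by norm_num),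
      Nat.factorization_eq_zero_of_not_dvd (by norm_num)]
  let P : Sylow 7 G := Sylow.ofCard (Subgroup.zpowers (d : G)) (by rw [Nat.card_zpowers, hd7, hfac, pow_one])
  have hidx : Nat.card (Sylow 7 G) * Nat.card N = 604800 := by
    rw [← h.card_group, ← Subgroup.card_mul_index N, mul_comm]
    congr 1
    exact P.card_eq_index_normalizer
  have hmod := card_sylow_modEq_one 7 G
  have hk1 : k ≠ 0 := by
    intro e
    have h1 := Subgroup.orderOf_dvd_natCard C haC
    rw [ha3, hC, e] at h1
    norm_num at h1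
  have hk2 : k = 2 := by
    rw [hNcard] at hidx
    have hle := Nat.le_of_dvd (by norm_num) he6
    unfold Nat.ModEq at hmod
    generalize Nat.card (Sylow 7 G) = s at hidx hmod
    generalize (C.subgroupOf N).index = e at hidx he6 h3e hle
    interval_cases e <;> interval_cases k <;> omega
  -- a Sylow `3`-subgroup of `C(d)` lies in `C(a)`
  obtain ⟨T, hT⟩ := (IsPGroup.of_card (p := 3) (G := Subgroup.zpowers (⟨a, haC⟩ : C)) (n := 1)
    (by rw [Nat.card_zpowers, ← Subgroup.orderOf_coe, pow_one]; exact ha3)).exists_le_sylow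
  have hT9 : Nat.card (T : Subgroup C) = 3 ^ 2 := by
    have hf : (7 * 3 ^ 2).factorization 3 = 2 := by
      rw [Nat.factorization_mul (by norm_num) (by norm_num), Finsupp.add_apply,
        Nat.factorization_eq_zero_of_not_dvd (by norm_num), Nat.factorization_pow, Finsupp.smul_apply,
        Nat.Prime.factorization_self Nat.prime_three]
      rfl
    rw [Sylow.card_eq_multiplicity, hC, hk2, hf]
  haveI := IsPGroup.isMulCommutative_of_card_eq_prime_sq (p := 3) (G := (T : Subgroup C)) hT9
  have hTa : ∀ x ∈ (T : Subgroup C), (x : G) ∈ Subgroup.zpowers a := by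
    intro x hx
    have hcx : Commute (x : G) a := congrArg (fun y : (T : Subgroup C) => ((y : C) : G))
      (mul_comm' (⟨x, hx⟩ : (T : Subgroup C)) ⟨⟨a, haC⟩, hT (Subgroup.mem_zpowers _)⟩)
    set xH : H := ⟨x, mem_centralizer_of_commute hcx⟩ with hxH
    have hxd : Commute xH d := Subtype.ext (commute_of_mem x.2).eq
    obtain ⟨j, hj⟩ := Subgroup.mem_zpowers_iff.1 (hself (π xH) (hxd.map π))
    have hx9 : x ^ 9 = 1 := congrArg Subtype.val (show (⟨x, hx⟩ : (T : Subgroup C)) ^ 9 = 1 by
      rw [show (9 : ℕ) = Nat.card (T : Subgroup C) by rw [hT9]; rfl]; exact pow_card_eq_one')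
    have h9 : π xH ^ 9 = 1 := by
      rw [← map_pow, show xH ^ 9 = 1 from Subtype.ext (by
        have := congrArg Subtype.val hx9
        simpa using this), map_one]
    have h7 : π xH ^ 7 = 1 := by
      rw [← hj, ← zpow_natCast, zpow_comm, zpow_natCast, show π d ^ 7 = 1 by
        rw [← hpd]; exact pow_orderOf_eq_one _, one_zpow]
    have h1 := pow_gcd_eq_one.2 ⟨h9, h7⟩
    exact (hker xH (by simpa using h1)).1
  have h3 : Nat.card (T : Subgroup C) ≤ 3 := by
    refine (Nat.card_le_card_of_injective (fun x : (T : Subgroup C) => (⟨((x : C) : G), hTa x x.2⟩ : Subgroup.zpowers a))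
      (fun p q e => Subtype.ext (Subtype.ext (congrArg (fun y : Subgroup.zpowers a => (y : G)) e)))).trans
      (le_of_eq ?_)
    rw [Nat.card_zpowers, ha3]
  rw [hT9] at h3
  norm_num at h3

theorem nine_dvd_cent (h : Setting z Q u t) {b : G} (hb : orderOf b = 3) :
    9 ∣ Nat.card (Subgroup.centralizer ({b} : Set G)) := by
  haveI : Fact (Nat.Prime 3) := ⟨Nat.prime_three⟩
  obtain ⟨P, hP⟩ := (IsPGroup.of_card (G := Subgroup.zpowers b) (n := 1)
    (by rw [Nat.card_zpowers, hb, pow_one])).exists_le_sylow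
  have h27 : Nat.card (P : Subgroup G) = 27 := by
    rw [Sylow.card_eq_multiplicity, h.card_group, show (604800 : ℕ) = 3 ^ 3 * 22400 by norm_num,
      Nat.factorization_mul (by norm_num) (by norm_num), Finsupp.add_apply, Nat.factorization_pow,
      Finsupp.smul_apply, Nat.Prime.factorization_self (by norm_num),
      Nat.factorization_eq_zero_of_not_dvd (by norm_num)]
    rfl
  haveI : Nontrivial (P : Subgroup G) := Finite.one_lt_card_iff_nontrivial.1 (by rw [h27]; norm_num)
  haveI := P.2.center_nontrivial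
  set K := (P : Subgroup G) ⊓ Subgroup.centralizer ({b} : Set G) with hK
  obtain ⟨n, hn⟩ := (P.2.to_le (inf_le_left : K ≤ P)).exists_card_eq
  have hbK : b ∈ K := ⟨hP (Subgroup.mem_zpowers b), mem_centralizer_of_commute (Commute.refl b)⟩
  suffices h2 : 2 ≤ n by
    refine dvd_trans ?_ (Subgroup.card_dvd_of_le (inf_le_right : K ≤ _))
    rw [hn]
    exact pow_dvd_pow 3 h2
  by_contra hn2
  have hK3 : Subgroup.zpowers b = K := Subgroup.eq_of_le_of_card_ge (Subgroup.zpowers_le.2 hbK) (by
    rw [hn, Nat.card_zpowers, hb]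
    calc 3 ^ n ≤ 3 ^ 1 := Nat.pow_le_pow_right (by norm_num) (by omega)
      _ = 3 := rfl)
  obtain ⟨⟨c, hc⟩, hc1⟩ := exists_ne (1 : Subgroup.center (P : Subgroup G))
  have hcall : ∀ x ∈ (P : Subgroup G), Commute x (c : G) := fun x hx =>
    congrArg Subtype.val (Subgroup.mem_center_iff.1 hc ⟨x, hx⟩)
  have hcK : (c : G) ∈ K := ⟨c.2, mem_centralizer_of_commute (hcall b hbK.1).symm⟩
  rw [← hK3] at hcK
  have hbc : b ∈ Subgroup.zpowers (c : G) := by
    rw [Subgroup.eq_of_le_of_card_ge (Subgroup.zpowers_le.2 hcK) (by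
      rw [Nat.card_zpowers, Nat.card_zpowers, hb]
      have hd : orderOf (c : G) ∣ 3 := by
        have := Subgroup.orderOf_dvd_natCard _ hcK
        rwa [Nat.card_zpowers, hb] at this
      rcases (Nat.dvd_prime Nat.prime_three).1 hd with e | e
      · exact absurd (Subtype.ext (Subtype.ext (orderOf_eq_one_iff.1 e))) hc1
      · rw [e])]
    exact Subgroup.mem_zpowers b
  obtain ⟨j, hj⟩ := Subgroup.mem_zpowers_iff.1 hbc
  have hPK : (P : Subgroup G) ≤ K := fun x hx => ⟨hx, mem_centralizer_of_commute (hj ▸ (hcall x hx).zpow_right j)⟩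
  have := Subgroup.card_le_of_le hPK
  rw [h27, ← hK3, Nat.card_zpowers, hb] at this
  omega

end Setting

namespace TStr

/-- The centraliser of an element of order three of `M₀` has order `36`. -/
theorem cent_three (h : Setting z Q u t) (hs : TStr z t V M0) {b : G} (hb : b ∈ M0) (hb3 : orderOf b = 3) :
    Nat.card (Subgroup.centralizer ({b} : Set G)) = 36 := by
  classical
  haveI : Fact (Nat.Prime 3) := ⟨Nat.prime_three⟩
  haveI : Fact (Nat.Prime 5) := ⟨by norm_num⟩
  obtain ⟨hn, W, hW4, hWsq, hWc⟩ := hs.quot_facts h hb (Or.inl rfl) hb3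
  set H := Subgroup.centralizer ({b} : Set G) with hH
  set B : H := ⟨b, mem_centralizer_of_commute (Commute.refl b)⟩ with hB
  haveI := hn
  have hB3 : Nat.card (Subgroup.zpowers B) = 3 := by
    rw [Nat.card_zpowers, ← Subgroup.orderOf_coe]; exact hb3
  have hHcard : Nat.card H = 3 * Nat.card (H ⧸ Subgroup.zpowers B) := by
    rw [← hB3, ← Subgroup.index_eq_card, Subgroup.card_mul_index]
  have h9 := h.nine_dvd_cent hb3
  rw [← hH, hHcard] at h9
  have h3L : 3 ∣ Nat.card (H ⧸ Subgroup.zpowers B) :=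
    Nat.dvd_of_mul_dvd_mul_left (by norm_num) (show 3 * 3 ∣ _ from h9)
  rcases Quot.klein_cases W hW4 hWsq hWc with h4 | hnorm | he60
  · rw [h4] at h3L; norm_num at h3L
  · -- the action on the four-group
    let φ : (H ⧸ Subgroup.zpowers B) →* Equiv.Perm {w : W // w ≠ 1} :=
      { toFun := fun x =>
          { toFun := fun w => ⟨⟨x * w.1.1 * x⁻¹, hnorm.conj_mem _ w.1.2 x⟩, fun e => w.2 (Subtype.ext
              (conj_eq_one_iff.1 (congrArg Subtype.val e)))⟩
            invFun := fun w => ⟨⟨x⁻¹ * w.1.1 * x, by simpa using hnorm.conj_mem _ w.1.2 x⁻¹⟩,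
              fun e => w.2 (Subtype.ext (by
                have e' : x⁻¹ * w.1.1 * x = 1 := congrArg Subtype.val e
                calc w.1.1 = x * (x⁻¹ * w.1.1 * x) * x⁻¹ := by group
                  _ = 1 := by rw [e']; group))⟩
            left_inv := fun w => Subtype.ext (Subtype.ext (by
              show x⁻¹ * (x * w.1.1 * x⁻¹) * x = _; group))
            right_inv := fun w => Subtype.ext (Subtype.ext (by
              show x * (x⁻¹ * w.1.1 * x) * x⁻¹ = _; group)) }
        map_one' := Equiv.ext fun w => Subtype.ext (Subtype.ext (by simp))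
        map_mul' := fun x y => Equiv.ext fun w => Subtype.ext (Subtype.ext (by
          show x * y * w.1.1 * (x * y)⁻¹ = x * (y * w.1.1 * y⁻¹) * x⁻¹; group)) }
    haveI : Nontrivial W := Finite.one_lt_card_iff_nontrivial.1 (by rw [hW4]; norm_num)
    obtain ⟨w, hw⟩ := exists_ne (1 : W)
    have hkW : φ.ker ≤ W := fun x hx => hWc w w.2 (fun e => hw (Subtype.ext e)) x
      (mul_inv_eq_iff_eq_mul.1 (congrArg (fun σ : Equiv.Perm {w : W // w ≠ 1} => ((σ ⟨w, hw⟩).1 : H ⧸ Subgroup.zpowers B))
        (MonoidHom.mem_ker.1 hx)))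
    have hk : Nat.card φ.ker ∣ 4 := hW4 ▸ Subgroup.card_dvd_of_le hkW
    have h6 : Nat.card φ.range ∣ 6 := by
      have h3 : Nat.card {w : W // w ≠ 1} = 3 := by
        haveI : Fintype W := Fintype.ofFinite _
        rw [Nat.card_eq_fintype_card, Fintype.card_subtype_compl, Fintype.card_subtype_eq,
          ← Nat.card_eq_fintype_card, hW4]
      have := Subgroup.card_subgroup_dvd_card φ.range
      rwa [Nat.card_perm, h3] at this
    have hL24 : Nat.card (H ⧸ Subgroup.zpowers B) ∣ 24 := by
      rw [← Subgroup.card_mul_index φ.ker, Subgroup.index_ker]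
      exact Nat.mul_dvd_mul hk h6
    -- the Sylow `2`-subgroup is `W`
    haveI : Fact (Nat.Prime 2) := ⟨Nat.prime_two⟩
    have hWp : IsPGroup 2 W := IsPGroup.of_card (n := 2) (by rw [hW4]; norm_num)
    obtain ⟨T, hT⟩ := hWp.exists_le_sylow
    have hTW : (T : Subgroup (H ⧸ Subgroup.zpowers B)) = W := by
      haveI : Nontrivial (T : Subgroup (H ⧸ Subgroup.zpowers B)) :=
        ⟨⟨⟨w, hT w.2⟩, 1, fun e => hw (Subtype.ext (congrArg Subtype.val e :))⟩⟩
      haveI := T.2.center_nontrivial
      obtain ⟨⟨c, hc⟩, hc1⟩ := exists_ne (1 : Subgroup.center (T : Subgroup (H ⧸ Subgroup.zpowers B)))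
      have hcall : ∀ x ∈ (T : Subgroup (H ⧸ Subgroup.zpowers B)), Commute x (c : H ⧸ Subgroup.zpowers B) :=
        fun x hx => congrArg Subtype.val (Subgroup.mem_center_iff.1 hc ⟨x, hx⟩)
      have hc1' : (c : H ⧸ Subgroup.zpowers B) ≠ 1 := fun e => hc1 (Subtype.ext (Subtype.ext e))
      have hcW := hWc w w.2 (fun e => hw (Subtype.ext e)) c (hcall w (hT w.2)).symm
      exact le_antisymm (fun x hx => hWc _ hcW hc1' x (hcall x hx)) hT
    have h12 : Nat.card (H ⧸ Subgroup.zpowers B) = 12 := by
      have hidx := T.not_dvd_index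
      have hcm := Subgroup.card_mul_index (T : Subgroup (H ⧸ Subgroup.zpowers B))
      rw [hTW, hW4] at hcm
      rw [hTW] at hidx
      obtain ⟨m, hm⟩ := hL24
      have hle24 := Nat.le_of_dvd (by norm_num : 0 < 24) ⟨m, hm⟩
      rw [← hcm] at h3L hm hle24 ⊢
      have hle : W.index ≤ 6 := by omega
      generalize W.index = k at hidx h3L hm hle ⊢
      interval_cases k <;> omega
    rw [hHcard, h12]
  · exfalso
    obtain ⟨e⟩ := he60
    have h60 : Nat.card (H ⧸ Subgroup.zpowers B) = 60 := by
      rw [Nat.card_congr e.toEquiv, Nat.card_eq_fintype_card]; rfl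
    have hH180 : Nat.card H = 180 := by rw [hHcard, h60]
    obtain ⟨P⟩ : Nonempty (Sylow 5 G) := inferInstance
    obtain ⟨⟨f', hf'300, hall⟩, -⟩ := h.sylow_five_full P
    have key : ∀ (c : G) (n : ℕ), orderOf c = 3 → Nat.card (Subgroup.centralizer ({c} : Set G)) = n → 5 ∣ n →
        ∃ g : G, g * c * g⁻¹ ∈ Subgroup.centralizer ({f'} : Set G) := by
      intro c n hc hn hdvd
      obtain ⟨f, hf⟩ := exists_prime_orderOf_dvd_card' (G := Subgroup.centralizer ({c} : Set G)) 5 (hn ▸ hdvd)
      have hf5 : orderOf (f : G) = 5 := by rw [Subgroup.orderOf_coe]; exact hf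
      have hcf : c ∈ Subgroup.centralizer ({(f : G)} : Set G) :=
        mem_centralizer_of_commute (commute_of_mem f.2).symm
      rcases hall f hf5 with e50 | ⟨-, g, hg⟩
      · have h1 := Subgroup.orderOf_dvd_natCard _ hcf
        rw [hc, e50] at h1
        norm_num at h1
      · exact ⟨g, mem_centralizer_of_commute ((hg c).1 (commute_of_mem hcf))⟩
    obtain ⟨g1, hg1⟩ := key b 180 hb3 hH180 (by norm_num)
    obtain ⟨a, ha⟩ := exists_prime_orderOf_dvd_card' (G := Subgroup.centralizer ({z} : Set G)) 3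
      (by rw [h.cent]; norm_num)
    have ha3 : orderOf (a : G) = 3 := by rw [Subgroup.orderOf_coe]; exact ha
    have ha1080 := h.cent_three_z a.2 ha3
    obtain ⟨g2, hg2⟩ := key a 1080 ha3 ha1080 (by norm_num)
    set F := Subgroup.centralizer ({f'} : Set G) with hF
    set x : F := ⟨_, hg1⟩ with hx
    set y : F := ⟨_, hg2⟩ with hy
    have hx3 : orderOf x = 3 := by
      rw [← Subgroup.orderOf_coe]; exact (orderOf_conj_eq g1 b).trans hb3
    have hy3 : orderOf y = 3 := by
      rw [← Subgroup.orderOf_coe]; exact (orderOf_conj_eq g2 (a : G)).trans ha3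
    have hfac : (Nat.card F).factorization 3 = 1 := by
      rw [hf'300, show (300 : ℕ) = 3 * 100 by norm_num, Nat.factorization_mul (by norm_num) (by norm_num),
        Finsupp.add_apply, Nat.Prime.factorization_self (by norm_num),
        Nat.factorization_eq_zero_of_not_dvd (by norm_num)]
    let S1 : Sylow 3 F := Sylow.ofCard (Subgroup.zpowers x) (by rw [Nat.card_zpowers, hx3, hfac, pow_one])
    let S2 : Sylow 3 F := Sylow.ofCard (Subgroup.zpowers y) (by rw [Nat.card_zpowers, hy3, hfac, pow_one])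
    obtain ⟨c, hc⟩ := MulAction.exists_smul_eq F S1 S2
    have hm : c * x * c⁻¹ ∈ (S2 : Subgroup F) := by
      rw [← hc, Sylow.coe_subgroup_smul]
      exact ⟨x, Subgroup.mem_zpowers x, rfl⟩
    obtain ⟨i, hi⟩ := Subgroup.mem_zpowers_iff.1 hm
    have hi' : ((y : G)) ^ i = (c : G) * (x : G) * (c : G)⁻¹ := by
      have := congrArg Subtype.val hi
      simpa using this
    have hne : ((y : G)) ^ i ≠ 1 := by
      rw [hi']
      intro e1
      have h1 := conj_eq_one_iff.1 e1
      have h2 : orderOf (x : G) = 3 := (orderOf_conj_eq g1 b).trans hb3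
      rw [h1, orderOf_one] at h2
      norm_num at h2
    have hbx : IsConj b ((y : G) ^ i) := by
      rw [hi']
      exact (isConj_iff.2 ⟨g1, rfl⟩ : IsConj b (x : G)).trans (isConj_iff.2 ⟨c, rfl⟩)
    have h1 := card_centralizer_of_isConj hbx
    rw [centralizer_zpowers_pow Nat.prime_three ((orderOf_conj_eq g2 (a : G)).trans ha3) hne,
      ← card_centralizer_of_isConj (isConj_iff.2 ⟨g2, rfl⟩ : IsConj (a : G) (y : G)), ha1080, ← hH, hH180] at h1
    omega

end TStr

end Cfsg.Agent.Lib.HallJanko
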