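import Mathlib
import Cfsg.Prelude.Def_Transfer
import Cfsg.Agent.Lib.Classif.Order360
import Cfsg.Agent.Lib.Resistant67.Cube
import Cfsg.Agent.Lib.PGroups.Frattini
import Cfsg.Agent.Lib.HallJanko.ThreeCent

/-!
# Hall-Janko type: the Sylow 3-subgroups

Owner: helper99.
-/

set_option autoImplicit false
set_option linter.style.haveILetI false

namespace Cfsg.Agent.Lib.HallJanko

open Cfsg.Agent.Lib.LargeExtraspecial.Basic Cfsg.Agent.Lib.HallJanko.Model
open Cfsg.Agent.Lib.Involutions.Basic (orderOf_conj_eq)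
open Cfsg.Agent.Lib.Involutions.Thompson (card_class_mul)

variable {G : Type*} [Group G] [Finite G] {z : G} {Q : Subgroup G} {u : Fin 5 → G} {t : G}
variable {V M0 : Subgroup G}

namespace Setting

theorem sylow_three_card (h : Setting z Q u t) (P : Sylow 3 G) : Nat.card (P : Subgroup G) = 27 := by
  haveI : Fact (Nat.Prime 3) := ⟨Nat.prime_three⟩
  rw [Sylow.card_eq_multiplicity, h.card_group, show (604800 : ℕ) = 3 ^ 3 * 22400 by norm_num,
    Nat.factorization_mul (by norm_num) (by norm_num), Finsupp.add_apply, Nat.factorization_pow,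
    Finsupp.smul_apply, Nat.Prime.factorization_self (by norm_num),
    Nat.factorization_eq_zero_of_not_dvd (by norm_num)]
  rfl

/-- Every element of `3`-power order is conjugate into any given Sylow `3`-subgroup. -/
theorem exists_conj_mem_three (P : Sylow 3 G) {c : G} (hc : orderOf c = 3) :
    ∃ g : G, g * c * g⁻¹ ∈ (P : Subgroup G) := by
  haveI : Fact (Nat.Prime 3) := ⟨Nat.prime_three⟩
  obtain ⟨R, hR⟩ := (IsPGroup.of_card (p := 3) (G := Subgroup.zpowers c) (n := 1)
    (by rw [Nat.card_zpowers, hc, pow_one])).exists_le_sylow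
  obtain ⟨g, hg⟩ := MulAction.exists_smul_eq G R P
  refine ⟨g, ?_⟩
  rw [← hg, Sylow.coe_subgroup_smul]
  exact ⟨c, hR (Subgroup.mem_zpowers c), rfl⟩

/-- A Sylow `3`-subgroup is not abelian. -/
theorem sylow_three_noncomm (h : Setting z Q u t) (P : Sylow 3 G) :
    ∃ x y : (P : Subgroup G), x * y ≠ y * x := by
  haveI : Fact (Nat.Prime 3) := ⟨Nat.prime_three⟩
  obtain ⟨V, M0, hs⟩ := h.exists_str
  obtain ⟨b, hb, hb3⟩ := hs.exists_orderOf 3 (by norm_num)
  obtain ⟨g, hg⟩ := exists_conj_mem_three P hb3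
  by_contra hc
  simp only [not_exists, not_not] at hc
  have hle : (P : Subgroup G) ≤ Subgroup.centralizer ({g * b * g⁻¹} : Set G) := fun x hx =>
    mem_centralizer_of_commute (congrArg Subtype.val (hc ⟨x, hx⟩ ⟨_, hg⟩) : x * (g * b * g⁻¹) = g * b * g⁻¹ * x)
  have h1 := Subgroup.card_dvd_of_le hle
  rw [← card_centralizer_of_isConj (isConj_iff.2 ⟨g, rfl⟩ : IsConj b (g * b * g⁻¹)),
    TStr.cent_three h hs hb hb3, h.sylow_three_card P] at h1
  norm_num at h1

/-- The Sylow `3`-subgroup with centre in `C(z)` and its normaliser. -/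
theorem exists_sylow_three (h : Setting z Q u t) :
    ∃ (P : Sylow 3 G) (a : G), orderOf a = 3 ∧ a ∈ Subgroup.centralizer ({z} : Set G) ∧ a ∈ (P : Subgroup G) ∧
      (∀ x ∈ (P : Subgroup G), Commute x a) ∧
      (∀ c ∈ (P : Subgroup G), (∀ x ∈ (P : Subgroup G), Commute x c) → c ∈ Subgroup.zpowers a) ∧
      Nat.card (Subgroup.normalizer ((P : Subgroup G) : Set G)) = 216 := by
  classical
  haveI : Fact (Nat.Prime 3) := ⟨Nat.prime_three⟩
  obtain ⟨⟨a, haC⟩, ha⟩ := exists_prime_orderOf_dvd_card' (G := Subgroup.centralizer ({z} : Set G)) 3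
    (by rw [h.cent]; norm_num)
  have ha3 : orderOf a = 3 := by rw [← ha, ← Subgroup.orderOf_coe]
  have hH1080 := h.cent_three_z haC ha3
  set H := Subgroup.centralizer ({a} : Set G) with hH
  set B : H := ⟨a, mem_centralizer_of_commute (Commute.refl a)⟩ with hB
  obtain ⟨hn, w, hsimp, hw2, -⟩ := h.quot_three haC ha3
  haveI : (Subgroup.zpowers B).Normal := hn
  haveI : IsSimpleGroup (H ⧸ Subgroup.zpowers B) := hsimp
  have hB3 : Nat.card (Subgroup.zpowers B) = 3 := by
    rw [Nat.card_zpowers, ← Subgroup.orderOf_coe]; exact ha3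
  have hL : Nat.card (H ⧸ Subgroup.zpowers B) = 360 := by
    have h1 := Subgroup.card_mul_index (Subgroup.zpowers B)
    rw [hB3, hH1080, Subgroup.index_eq_card] at h1
    omega
  have hnc : ¬ IsMulCommutative (H ⧸ Subgroup.zpowers B) := by
    intro hc
    haveI := hc
    haveI : (Subgroup.zpowers w).Normal := ⟨fun x hx g => by
      rw [mul_comm' g x, mul_inv_cancel_right]; exact hx⟩
    have hw : Nat.card (Subgroup.zpowers w) = 2 := by rw [Nat.card_zpowers, hw2]
    rcases IsSimpleGroup.eq_bot_or_eq_top_of_normal (Subgroup.zpowers w) inferInstance with e | e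
    · rw [e, Subgroup.card_bot] at hw; omega
    · rw [e, Subgroup.card_top, hL] at hw; omega
  have h10 := Cfsg.Agent.Lib.Classif.Order360.card_sylow_three hnc hL
  -- the Sylow subgroup of `C(a)`
  obtain ⟨S⟩ : Nonempty (Sylow 3 H) := inferInstance
  have hS27 : Nat.card (S : Subgroup H) = 27 := by
    rw [Sylow.card_eq_multiplicity, hH1080, show (1080 : ℕ) = 3 ^ 3 * 40 by norm_num,
      Nat.factorization_mul (by norm_num) (by norm_num), Finsupp.add_apply, Nat.factorization_pow,
      Finsupp.smul_apply, Nat.Prime.factorization_self (by norm_num),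
      Nat.factorization_eq_zero_of_not_dvd (by norm_num)]
    rfl
  have hBS : Subgroup.zpowers B ≤ (S : Subgroup H) :=
    (IsPGroup.of_card (p := 3) (n := 1) (by rw [hB3, pow_one])).le_sylow_of_normal S
  set P' := (S : Subgroup H).map H.subtype with hP'
  have hP'27 : Nat.card P' = 27 := by
    rw [hP', Subgroup.card_map_of_injective H.subtype_injective, hS27]
  have hfac : (Nat.card G).factorization 3 = 3 := by
    rw [h.card_group, show (604800 : ℕ) = 3 ^ 3 * 22400 by norm_num,
      Nat.factorization_mul (by norm_num) (by norm_num), Finsupp.add_apply, Nat.factorization_pow,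
      Finsupp.smul_apply, Nat.Prime.factorization_self (by norm_num),
      Nat.factorization_eq_zero_of_not_dvd (by norm_num)]
    rfl
  let P : Sylow 3 G := Sylow.ofCard P' (by rw [hP'27, hfac]; norm_num)
  have hPH : (P : Subgroup G) ≤ H := Subgroup.map_subtype_le _
  have hPS : ∀ x : H, (x : G) ∈ (P : Subgroup G) ↔ x ∈ (S : Subgroup H) := fun x =>
    ⟨fun ⟨y, hy, e⟩ => (Subtype.ext e : y = x) ▸ hy, fun hx => ⟨x, hx, rfl⟩⟩
  have haP : a ∈ (P : Subgroup G) := (hPS B).2 (hBS (Subgroup.mem_zpowers B))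
  have hPa : ∀ x ∈ (P : Subgroup G), Commute x a := fun x hx => commute_of_mem (hPH hx)
  have hcen : ∀ c ∈ (P : Subgroup G), (∀ x ∈ (P : Subgroup G), Commute x c) → c ∈ Subgroup.zpowers a := by
    intro c hc hcc
    obtain ⟨hZ, -⟩ := Cfsg.Agent.Lib.Resistant67.card_center_of_cube (E := (P : Subgroup G)) (p := 3)
      (by rw [h.sylow_three_card P]; norm_num) (h.sylow_three_noncomm P)
    have hle : Subgroup.zpowers (⟨a, haP⟩ : (P : Subgroup G)) ≤ Subgroup.center _ :=
      Subgroup.zpowers_le.2 (Subgroup.mem_center_iff.2 fun x => Subtype.ext (hPa x x.2).eq)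
    have heq := Subgroup.eq_of_le_of_card_ge hle (by
      rw [hZ, Nat.card_zpowers, Subgroup.orderOf_mk, ha3])
    have hm : (⟨c, hc⟩ : (P : Subgroup G)) ∈ Subgroup.zpowers (⟨a, haP⟩ : (P : Subgroup G)) := by
      rw [heq]; exact Subgroup.mem_center_iff.2 fun x => Subtype.ext (hcc x x.2).eq
    obtain ⟨i, hi⟩ := Subgroup.mem_zpowers_iff.1 hm
    exact Subgroup.mem_zpowers_iff.2 ⟨i, by simpa using congrArg Subtype.val hi⟩
  refine ⟨P, a, ha3, haC, haP, hPa, hcen, ?_⟩
  set N := Subgroup.normalizer ((P : Subgroup G) : Set G) with hN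
  -- `N ∩ C(a)` has order `108`
  have h108 : Nat.card (H.subgroupOf N) = 108 := by
    have e1 : Nat.card (H.subgroupOf N) = Nat.card (Subgroup.normalizer ((S : Subgroup H) : Set H)) := by
      refine Nat.card_congr
        { toFun := fun x => ⟨⟨(x.1 : G), x.2⟩, Subgroup.mem_normalizer_iff.2 fun y => by
            rw [← hPS y, ← hPS]
            exact Subgroup.mem_normalizer_iff.1 x.1.2 (y : G)⟩
          invFun := fun x => ⟨⟨(x.1 : G), mem_normalizer_of_conj _ fun y hy => ?_⟩, x.1.2⟩
          left_inv := fun x => rfl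
          right_inv := fun x => rfl }
      exact (hPS _).2 ((Subgroup.mem_normalizer_iff.1 x.2 (⟨y, hPH hy⟩ : H)).1 ((hPS _).1 hy))
    rw [e1]
    set π := QuotientGroup.mk' (Subgroup.zpowers B) with hπ
    have hsur : Function.Surjective π := QuotientGroup.mk'_surjective _
    have hker : π.ker ≤ (S : Subgroup H) := by rw [hπ, QuotientGroup.ker_mk']; exact hBS
    set S' := (S : Subgroup H).map π with hS'
    have hcomap : S'.comap π = (S : Subgroup H) := Subgroup.comap_map_eq_self hker
    have hidxS : S'.index = 40 := by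
      rw [← Subgroup.index_comap_of_surjective S' hsur, hcomap]
      have h1 := Subgroup.card_mul_index (S : Subgroup H)
      rw [hS27, hH1080] at h1
      omega
    have hS'9 : Nat.card S' = 9 := by
      have h1 := Subgroup.card_mul_index S'
      rw [hidxS, hL] at h1
      omega
    have hfac' : (Nat.card (H ⧸ Subgroup.zpowers B)).factorization 3 = 2 := by
      rw [hL, show (360 : ℕ) = 3 ^ 2 * 40 by norm_num, Nat.factorization_mul (by norm_num) (by norm_num),
        Finsupp.add_apply, Nat.factorization_pow, Finsupp.smul_apply, Nat.Prime.factorization_self (by norm_num),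
        Nat.factorization_eq_zero_of_not_dvd (by norm_num)]
      rfl
    let S₁ : Sylow 3 (H ⧸ Subgroup.zpowers B) := Sylow.ofCard S' (by rw [hS'9, hfac']; norm_num)
    have hidx : (Subgroup.normalizer (S' : Set (H ⧸ Subgroup.zpowers B))).index = 10 :=
      S₁.card_eq_index_normalizer.symm.trans h10
    have e2 := Subgroup.comap_normalizer_eq_of_surjective S' hsur
    rw [hcomap] at e2
    have h2 := Subgroup.card_mul_index (Subgroup.normalizer ((S : Subgroup H) : Set H))
    rw [← e2, Subgroup.index_comap_of_surjective _ hsur, hidx, hH1080] at h2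
    rw [← e2]
    omega
  -- an element of `N` inverts `a`
  obtain ⟨g, hg⟩ := isConj_iff.1 (h.isConj_inv (p := 3) (by norm_num) haC ha3)
  have hginv : ∀ x ∈ H, g * x * g⁻¹ ∈ H := fun x hx => by
    have h1 : Commute (g * x * g⁻¹) (g * a * g⁻¹) := (Commute.conj_iff g).2 (commute_of_mem hx)
    rw [hg] at h1
    exact mem_centralizer_of_commute (Commute.inv_right_iff.1 h1)
  have hgP : ((g • P : Sylow 3 G) : Subgroup G) ≤ H := by
    rw [Sylow.coe_subgroup_smul]
    rintro _ ⟨x, hx, rfl⟩
    exact hginv x (hPH hx)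
  obtain ⟨k, hk⟩ := MulAction.exists_smul_eq H ((g • P).subtype hgP) (P.subtype hPH)
  rw [Sylow.smul_subtype] at hk
  replace hk := Sylow.subtype_injective hk
  have hxN : (k : G) * g ∈ N := by
    have h1 : ((k : G) * g) • P = P := by rw [mul_smul]; exact hk
    exact Sylow.smul_eq_iff_mem_normalizer.1 h1
  have hxH : (k : G) * g ∉ H := by
    intro e
    have hgH : g ∈ H := by
      have := mul_mem (inv_mem k.2) e
      rwa [inv_mul_cancel_left] at this
    have hga : g * a * g⁻¹ = a := by rw [(commute_of_mem hgH).eq, mul_inv_cancel_right]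
    rw [hga] at hg
    have h2 : a ^ 2 = 1 := by rw [pow_two]; nth_rw 2 [hg]; exact mul_inv_cancel a
    have := orderOf_dvd_of_pow_eq_one h2
    rw [ha3] at this
    norm_num at this
  -- the index
  set X := Subgroup.zpowers a with hX
  have hCX : Subgroup.centralizer (X : Set G) = H := by
    rw [hX, hH, Subgroup.zpowers_eq_closure, Subgroup.centralizer_closure]
  have hNX : N ≤ Subgroup.normalizer (X : Set G) := by
    intro x hx
    refine mem_normalizer_of_conj _ fun y hy => ?_
    have hmem : x * a * x⁻¹ ∈ X := by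
      refine hcen _ ((Subgroup.mem_normalizer_iff.1 hx a).1 haP) fun p hp => ?_
      have hp' : x⁻¹ * p * x ∈ (P : Subgroup G) := by
        have := (Subgroup.mem_normalizer_iff.1 (inv_mem hx) p).1 hp
        rwa [inv_inv] at this
      have := (Commute.conj_iff x).2 (hPa _ hp')
      rwa [show x * (x⁻¹ * p * x) * x⁻¹ = p by group] at this
    obtain ⟨i, rfl⟩ := Subgroup.mem_zpowers_iff.1 hy
    rw [← conj_zpow]
    exact zpow_mem hmem i
  have hrel2 : H.relIndex (Subgroup.normalizer (X : Set G)) ∣ 2 := by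
    have h1 := Cfsg.Agent.Lib.SylowNumbers.SimpleAux.relIndex_centralizer_dvd_totient X
      (by rw [hX]; infer_instance)
    rw [hCX, hX, Nat.card_zpowers, ha3, Nat.totient_prime Nat.prime_three] at h1
    exact h1
  have hne0 : H.relIndex (Subgroup.normalizer (X : Set G)) ≠ 0 := fun e => by
    rw [e] at hrel2; norm_num at hrel2
  have hle2 : H.relIndex N ≤ 2 :=
    (Subgroup.relIndex_le_of_le_right hNX hne0).trans (Nat.le_of_dvd (by norm_num) hrel2)
  have hne1 : H.relIndex N ≠ 1 := fun e => hxH (Subgroup.relIndex_eq_one.1 e hxN)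
  have h3 := Subgroup.card_mul_index (H.subgroupOf N)
  have hdef : H.relIndex N = (H.subgroupOf N).index := rfl
  have hne0' : (H.subgroupOf N).index ≠ 0 := Subgroup.index_ne_zero_of_finite
  rw [h108] at h3
  have : (H.subgroupOf N).index = 2 := by omega
  rw [← h3, this]

theorem card_sylow_three_group (h : Setting z Q u t) : Nat.card (Sylow 3 G) = 2800 := by
  haveI : Fact (Nat.Prime 3) := ⟨Nat.prime_three⟩
  obtain ⟨P, a, -, -, -, -, -, h216⟩ := h.exists_sylow_three
  have h1 := Subgroup.card_mul_index (Subgroup.normalizer ((P : Subgroup G) : Set G))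
  have h2 : Nat.card (Sylow 3 G) = (Subgroup.normalizer ((P : Subgroup G) : Set G)).index := P.card_eq_index_normalizer
  rw [h216, h.card_group, ← h2] at h1
  omega

/-- An element of `M₀` of order three lies in at least four Sylow `3`-subgroups. -/
theorem four_sylow (h : Setting z Q u t) (hs : TStr z t V M0) {b : G} (hb : b ∈ M0) (hb3 : orderOf b = 3) :
    4 ≤ Nat.card {P : Sylow 3 G // b ∈ (P : Subgroup G)} := by
  classical
  haveI : Fact (Nat.Prime 3) := ⟨Nat.prime_three⟩
  set C := Subgroup.centralizer ({b} : Set G) with hC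
  have h36 : Nat.card C = 36 := TStr.cent_three h hs hb hb3
  set B : C := ⟨b, mem_centralizer_of_commute (Commute.refl b)⟩ with hB
  haveI hBn : (Subgroup.zpowers B).Normal := ⟨fun c hc x => by
    obtain ⟨k, rfl⟩ := Subgroup.mem_zpowers_iff.1 hc
    rw [mul_inv_eq_iff_eq_mul.2 ((show Commute x B from Subtype.ext (commute_of_mem x.2).eq).zpow_right k).eq]
    exact Subgroup.zpow_mem_zpowers _ _⟩
  have hBp : IsPGroup 3 (Subgroup.zpowers B) := IsPGroup.of_card (n := 1) (by
    rw [Nat.card_zpowers, ← Subgroup.orderOf_coe, pow_one]; exact hb3)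
  have hE9 : ∀ E : Sylow 3 C, Nat.card (E : Subgroup C) = 9 := fun E => by
    rw [Sylow.card_eq_multiplicity, h36, show (36 : ℕ) = 3 ^ 2 * 4 by norm_num,
      Nat.factorization_mul (by norm_num) (by norm_num), Finsupp.add_apply, Nat.factorization_pow,
      Finsupp.smul_apply, Nat.Prime.factorization_self (by norm_num),
      Nat.factorization_eq_zero_of_not_dvd (by norm_num)]
    rfl
  -- `C` has no normal Sylow `3`-subgroup
  have hne : ∀ E : Sylow 3 C, ¬ (E : Subgroup C).Normal := by
    intro E hEn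
    have hVC : V ≤ C := fun v hv => mem_centralizer_of_commute (hs.comm v hv b hb)
    set E' := (E : Subgroup C).map C.subtype with hE'
    have hE'9 : Nat.card E' = 9 := by
      rw [hE', Subgroup.card_map_of_injective C.subtype_injective, hE9]
    have hbE : b ∈ E' := ⟨B, hBp.le_sylow_of_normal E (Subgroup.mem_zpowers B), rfl⟩
    have hcomm : ∀ x ∈ E', ∀ y ∈ E', Commute x y := fun x hx y hy => by
      haveI := IsPGroup.isMulCommutative_of_card_eq_prime_sq (p := 3) (G := E') (by rw [hE'9]; norm_num)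
      exact congrArg Subtype.val (mul_comm' (⟨x, hx⟩ : E') ⟨y, hy⟩)
    have hEV : ∀ v ∈ V, ∀ x ∈ E', v * x * v⁻¹ ∈ E' := by
      rintro v hv _ ⟨x, hx, rfl⟩
      exact ⟨⟨v, hVC hv⟩ * x * ⟨v, hVC hv⟩⁻¹, hEn.conj_mem x hx _, rfl⟩
    have hp9 : ∀ x ∈ E', x ^ 9 = 1 := fun x hx => by
      have h1 := Subgroup.orderOf_dvd_natCard _ hx
      rw [hE'9] at h1
      exact orderOf_dvd_iff_pow_eq_one.1 h1
    have hb1 : b ≠ 1 := fun e => by rw [e, orderOf_one] at hb3; omega
    -- fixed elements lie in `⟨b⟩`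
    have hfix : ∀ v ∈ V, v ≠ 1 → ∀ x ∈ E', x * (v * x * v⁻¹) ∈ Subgroup.zpowers b := by
      intro v hv hv1 x hx
      set y := x * (v * x * v⁻¹) with hy
      have hyE : y ∈ E' := mul_mem hx (hEV v hv x hx)
      have hvi : v⁻¹ = v := inv_eq_of_mul_eq_one_left (hs.Vsq v hv)
      have hfy : v * y * v⁻¹ = y := by
        have h2 : v * (v * x * v⁻¹) * v⁻¹ = x := by
          rw [hvi, ← mul_assoc, ← mul_assoc, hs.Vsq v hv, one_mul, mul_assoc, hs.Vsq v hv, mul_one]
        rw [hy, ← conj_mul, h2]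
        exact (hcomm _ (hEV v hv x hx) x hx).eq
      have hyv : Commute y v := (mul_inv_eq_iff_eq_mul.1 hfy).symm
      obtain ⟨-, hCv⟩ := hs.centralizer_eq h hv hv1
      have hyt : y ∈ Subgroup.centralizer ({t} : Set G) := hCv ▸ mem_centralizer_of_commute hyv
      obtain ⟨w, hw, c, hc, hyc⟩ := hs.cent_elt hb hb1 (Or.inl hb3) hyt (hcomm y hyE b hbE)
      have hcE : c ∈ E' := (Subgroup.zpowers_le.2 hbE) hc
      have hwE : w ∈ E' := by
        have := mul_mem hyE (inv_mem hcE)
        rwa [hyc, mul_inv_cancel_right] at this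
      have hw1 : w = 1 := by
        have h9 := hp9 w hwE
        rwa [show (9 : ℕ) = 2 * 4 + 1 from rfl, pow_succ, pow_mul, pow_two, hs.Vsq w hw, one_pow, one_mul] at h9
      rw [hyc, hw1, one_mul]
      exact hc
    haveI : Nontrivial V := Finite.one_lt_card_iff_nontrivial.1 (by rw [hs.cardV]; norm_num)
    obtain ⟨⟨v₁, hv₁⟩, hv₁1⟩ := exists_ne (1 : V)
    obtain ⟨v₂, hv₂, hv₂1, hv₂2⟩ : ∃ v ∈ V, v ≠ 1 ∧ v ≠ v₁ := by
      by_contra hc
      have hsub : (V : Set G) ⊆ {1, v₁} := fun v hv => by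
        by_contra hv'
        simp only [Set.mem_insert_iff, Set.mem_singleton_iff, not_or] at hv'
        exact hc ⟨v, hv, hv'.1, hv'.2⟩
      have h1 := Set.ncard_le_ncard hsub (Set.toFinite _)
      have h2 : ({1, v₁} : Set G).ncard ≤ 2 := (Set.ncard_insert_le _ _).trans (by rw [Set.ncard_singleton])
      have h3 : (V : Set G).ncard = 4 := by rw [← Nat.card_coe_set_eq]; exact hs.cardV
      omega
    have hv₁1' : v₁ ≠ 1 := fun e => hv₁1 (Subtype.ext e)
    have hv₃1 : v₂ * v₁ ≠ 1 := fun e => hv₂2 (by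
      rw [mul_eq_one_iff_eq_inv.1 e, inv_eq_of_mul_eq_one_left (hs.Vsq v₁ hv₁)])
    have hle : E' ≤ Subgroup.zpowers b := by
      intro x hx
      have h1 := hfix v₁ hv₁ hv₁1' x hx
      have hx' := hEV v₁ hv₁ x hx
      have h2 := hfix v₂ hv₂ hv₂1 _ hx'
      have h3 := hfix _ (mul_mem hv₂ hv₁) hv₃1 x hx
      have hconj : v₂ * v₁ * x * (v₂ * v₁)⁻¹ = v₂ * (v₁ * x * v₁⁻¹) * v₂⁻¹ := by group
      rw [hconj] at h3
      have h4 := mul_mem h3 (inv_mem h2)
      have h5 : x * (v₂ * (v₁ * x * v₁⁻¹) * v₂⁻¹) * (v₁ * x * v₁⁻¹ * (v₂ * (v₁ * x * v₁⁻¹) * v₂⁻¹))⁻¹ =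
          x * (v₁ * x * v₁⁻¹)⁻¹ := by group
      rw [h5] at h4
      have h6 := mul_mem h4 h1
      have h7 : x * (v₁ * x * v₁⁻¹)⁻¹ * (x * (v₁ * x * v₁⁻¹)) = x ^ 2 := by
        rw [(hcomm x hx _ hx').eq, ← mul_assoc, inv_mul_cancel_right, pow_two]
      rw [h7] at h6
      have := pow_mem h6 5
      rwa [← pow_mul, show 2 * 5 = 9 + 1 from rfl, pow_succ, hp9 x hx, one_mul] at this
    have := Subgroup.card_le_of_le hle
    rw [hE'9, Nat.card_zpowers, hb3] at this
    omega
  have h4 : 4 ≤ Nat.card (Sylow 3 C) := by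
    have hmod := card_sylow_modEq_one 3 C
    have h0 : 0 < Nat.card (Sylow 3 C) := Nat.card_pos
    have h1 : Nat.card (Sylow 3 C) ≠ 1 := fun e => by
      obtain ⟨E⟩ : Nonempty (Sylow 3 C) := inferInstance
      haveI : Subsingleton (Sylow 3 C) := (Nat.card_eq_one_iff_unique.1 e).1
      exact hne E (Sylow.normal_of_subsingleton E)
    unfold Nat.ModEq at hmod
    omega
  refine h4.trans ?_
  have hex : ∀ E : Sylow 3 C, ∃ P : Sylow 3 G, (E : Subgroup C).map C.subtype ≤ (P : Subgroup G) := fun E =>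
    (E.2.map C.subtype).exists_le_sylow
  choose f hf using hex
  refine Nat.card_le_card_of_injective (fun E => ⟨f E, hf E ⟨B, hBp.le_sylow_of_normal E (Subgroup.mem_zpowers B), rfl⟩⟩) ?_
  intro E E' e
  have e' : f E = f E' := congrArg Subtype.val e
  have hp : IsPGroup 3 ((f E : Subgroup G).comap C.subtype) := (f E).2.comap_of_injective _ C.subtype_injective
  have he1 : ((f E : Subgroup G).comap C.subtype) = (E : Subgroup C) :=
    E.3 hp fun x hx => hf E ⟨x, hx, rfl⟩
  have he2 : ((f E : Subgroup G).comap C.subtype) = (E' : Subgroup C) :=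
    E'.3 hp fun x hx => e' ▸ hf E' ⟨x, hx, rfl⟩
  exact Sylow.ext (he1.symm.trans he2)

/-- The noncentral elements of a Sylow `3`-subgroup are conjugate to an element of order three of `M₀`. -/
theorem noncentral_conj (h : Setting z Q u t) (hs : TStr z t V M0) {b : G} (hb : b ∈ M0) (hb3 : orderOf b = 3)
    (P : Sylow 3 G) {x : G} (hx : x ∈ (P : Subgroup G)) (hnc : ¬ ∀ y ∈ (P : Subgroup G), Commute y x) :
    IsConj b x := by
  classical
  haveI : Fact (Nat.Prime 3) := ⟨Nat.prime_three⟩
  set K := {c : G // IsConj b c} with hK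
  haveI : Fintype (Sylow 3 G) := Fintype.ofFinite _
  haveI : Fintype K := Fintype.ofFinite _
  have hKcard : Nat.card K = 16800 := by
    have h1 := card_class_mul (G := G) b
    rw [TStr.cent_three h hs hb hb3, h.card_group] at h1
    have : Nat.card K = Nat.card {c : G // IsConj b c} := rfl
    omega
  let eT : (Σ P : Sylow 3 G, {c : K // c.1 ∈ (P : Subgroup G)}) ≃ (Σ c : K, {P : Sylow 3 G // c.1 ∈ (P : Subgroup G)}) :=
    { toFun := fun p => ⟨p.2.1, ⟨p.1, p.2.2⟩⟩
      invFun := fun p => ⟨p.2.1, ⟨p.1, p.2.2⟩⟩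
      left_inv := fun p => rfl
      right_inv := fun p => rfl }
  have hlow : 4 * 16800 ≤ Nat.card (Σ c : K, {P : Sylow 3 G // c.1 ∈ (P : Subgroup G)}) := by
    rw [Nat.card_sigma, ← hKcard, mul_comm, Nat.card_eq_fintype_card (α := K), ← smul_eq_mul]
    refine Finset.card_nsmul_le_sum _ _ _ fun c _ => ?_
    obtain ⟨g, hg⟩ := isConj_iff.1 c.2
    refine (h.four_sylow hs hb hb3).trans (Nat.card_le_card_of_injective
      (fun P => ⟨g • P.1, by rw [← hg, Sylow.coe_subgroup_smul]; exact ⟨b, P.2, rfl⟩⟩) ?_)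
    intro P P' e
    exact Subtype.ext (smul_left_cancel g (congrArg Subtype.val e))
  have hup : ∀ R : Sylow 3 G, Nat.card {c : K // c.1 ∈ (R : Subgroup G)} ≤ 24 ∧
      ∀ y : G, y ∈ (R : Subgroup G) → (¬ ∀ q ∈ (R : Subgroup G), Commute q y) → ¬ IsConj b y →
        Nat.card {c : K // c.1 ∈ (R : Subgroup G)} ≤ 23 := by
    intro R
    obtain ⟨hZ, -⟩ := Cfsg.Agent.Lib.Resistant67.card_center_of_cube (E := (R : Subgroup G)) (p := 3)
      (by rw [h.sylow_three_card R]; norm_num) (h.sylow_three_noncomm R)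
    haveI : Fintype (R : Subgroup G) := Fintype.ofFinite _
    set Z : Finset (R : Subgroup G) := Finset.univ.filter (fun c => c ∈ Subgroup.center (R : Subgroup G)) with hZdef
    have hZc : Z.card = 3 := by
      refine Eq.trans ?_ hZ
      rw [Nat.card_eq_fintype_card, Fintype.card_subtype]
    have hRc : Fintype.card (R : Subgroup G) = 27 := by
      rw [← Nat.card_eq_fintype_card, h.sylow_three_card R]
    let j : {c : K // c.1 ∈ (R : Subgroup G)} → (R : Subgroup G) := fun c => ⟨c.1.1, c.2⟩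
    have hjinj : Function.Injective j := fun p q e =>
      Subtype.ext (Subtype.ext (congrArg Subtype.val e :))
    have hjout : ∀ c, j c ∉ Z := by
      intro c hc
      have hcc := (Finset.mem_filter.1 hc).2
      have hle : (R : Subgroup G) ≤ Subgroup.centralizer ({c.1.1} : Set G) := fun q hq =>
        mem_centralizer_of_commute (congrArg Subtype.val (Subgroup.mem_center_iff.1 hcc ⟨q, hq⟩) : q * c.1.1 = c.1.1 * q)
      have h1 := Subgroup.card_dvd_of_le hle
      rw [← card_centralizer_of_isConj c.1.2, TStr.cent_three h hs hb hb3, h.sylow_three_card R] at h1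
      norm_num at h1
    haveI : Fintype {c : K // c.1 ∈ (R : Subgroup G)} := Fintype.ofFinite _
    have key : ∀ s : Finset (R : Subgroup G), (∀ c, j c ∉ s) →
        Nat.card {c : K // c.1 ∈ (R : Subgroup G)} + s.card ≤ 27 := by
      intro s hs'
      rw [Nat.card_eq_fintype_card, ← hRc, ← Finset.card_univ, ← Finset.card_image_of_injective _ hjinj,
        ← Finset.card_union_of_disjoint]
      · exact Finset.card_le_univ _
      · rw [Finset.disjoint_left]
        intro q hq
        obtain ⟨c, -, rfl⟩ := Finset.mem_image.1 hq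
        exact hs' c
    refine ⟨by have := key Z hjout; omega, fun y hy hync hyb => ?_⟩
    have hyZ : (⟨y, hy⟩ : (R : Subgroup G)) ∉ Z := fun e => hync fun q hq =>
      congrArg Subtype.val (Subgroup.mem_center_iff.1 (Finset.mem_filter.1 e).2 ⟨q, hq⟩)
    have := key (insert ⟨y, hy⟩ Z) fun c e => by
      rcases Finset.mem_insert.1 e with e | e
      · have e' : c.1.1 = y := congrArg Subtype.val e
        have h1 : IsConj b c.1.1 := c.1.2
        exact hyb (e' ▸ h1)
      · exact hjout c e
    rw [Finset.card_insert_of_notMem hyZ] at this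
    omega
  by_contra hxb
  have hsum : ∑ R : Sylow 3 G, Nat.card {c : K // c.1 ∈ (R : Subgroup G)} < ∑ _R : Sylow 3 G, 24 :=
    Finset.sum_lt_sum (fun R _ => (hup R).1) ⟨P, Finset.mem_univ _, by
      have := (hup P).2 x hx hnc hxb; omega⟩
  rw [← Nat.card_sigma, Nat.card_congr eT, Finset.sum_const, Finset.card_univ, ← Nat.card_eq_fintype_card,
    h.card_sylow_three_group, smul_eq_mul] at hsum
  omega

theorem sylow_three_structure (h : Setting z Q u t) (P : Sylow 3 G) :
    Cfsg.IsExtraspecial 3 (P : Subgroup G) ∧ Nat.card P = 27 ∧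
      Nat.card (Subgroup.normalizer ((P : Subgroup G) : Set G)) = 216 ∧
      ∃ a b : G, orderOf a = 3 ∧ orderOf b = 3 ∧ ¬ IsConj a b ∧
        ∀ c : G, orderOf c = 3 → IsConj c a ∨ IsConj c b := by
  haveI : Fact (Nat.Prime 3) := ⟨Nat.prime_three⟩
  obtain ⟨V, M0, hs⟩ := h.exists_str
  obtain ⟨b, hb, hb3⟩ := hs.exists_orderOf 3 (by norm_num)
  obtain ⟨P0, a, ha3, haC, haP, hPa, hcen, h216⟩ := h.exists_sylow_three
  have hab : ¬ IsConj a b := fun e => by
    have h1 := card_centralizer_of_isConj e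
    rw [h.cent_three_z haC ha3, TStr.cent_three h hs hb hb3] at h1
    omega
  have hP0 : ∀ x ∈ (P0 : Subgroup G), x = 1 ∨ IsConj b x ∨ IsConj a x := by
    intro x hx
    by_cases hc : ∀ y ∈ (P0 : Subgroup G), Commute y x
    · obtain ⟨i, rfl⟩ := Subgroup.mem_zpowers_iff.1 (hcen x hx hc)
      rw [← zpow_mod_orderOf, ha3]
      have h0 := Int.emod_nonneg i (show ((3 : ℕ) : ℤ) ≠ 0 by norm_num)
      have h3 := Int.emod_lt_of_pos i (show (0 : ℤ) < ((3 : ℕ) : ℤ) by norm_num)
      generalize i % ((3 : ℕ) : ℤ) = r at h0 h3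
      obtain rfl | rfl | rfl : r = 0 ∨ r = 1 ∨ r = 2 := by omega
      · exact Or.inl (zpow_zero a)
      · exact Or.inr (Or.inr (by rw [zpow_one]))
      · refine Or.inr (Or.inr ?_)
        have h1 : a ^ (2 : ℤ) = a⁻¹ := by
          refine eq_inv_of_mul_eq_one_left ?_
          have := pow_orderOf_eq_one a
          rw [ha3] at this
          rw [← this, show (2 : ℤ) = ((2 : ℕ) : ℤ) from rfl, zpow_natCast, ← pow_succ]
        rw [h1]
        exact h.isConj_inv (p := 3) (by norm_num) haC ha3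
    · exact Or.inr (Or.inl (h.noncentral_conj hs hb hb3 P0 hx hc))
  have hexp : ∀ x : (P : Subgroup G), x ^ 3 = 1 := by
    intro x
    obtain ⟨g, hg⟩ := MulAction.exists_smul_eq G P P0
    have hm : g * (x : G) * g⁻¹ ∈ (P0 : Subgroup G) := by
      rw [← hg, Sylow.coe_subgroup_smul]; exact ⟨x, x.2, rfl⟩
    refine Subtype.ext (?_ : (x : G) ^ 3 = 1)
    refine (conj_eq_one_iff (a := g)).1 ?_
    rw [← conj_pow]
    rcases hP0 _ hm with e | e | e
    · rw [e, one_pow]
    · obtain ⟨k, hk⟩ := isConj_iff.1 e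
      rw [← hk, conj_pow, ← hb3, pow_orderOf_eq_one, mul_one, mul_inv_cancel]
    · obtain ⟨k, hk⟩ := isConj_iff.1 e
      rw [← hk, conj_pow, ← ha3, pow_orderOf_eq_one, mul_one, mul_inv_cancel]
  have h27 := h.sylow_three_card P
  have hc27 : Nat.card (P : Subgroup G) = 3 ^ 3 := by rw [h27]; norm_num
  have hne := h.sylow_three_noncomm P
  obtain ⟨hZ, -⟩ := Cfsg.Agent.Lib.Resistant67.card_center_of_cube hc27 hne
  have hcle : commutator (P : Subgroup G) ≤ Subgroup.center _ := by
    rw [commutator_def, Subgroup.commutator_le]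
    intro p _ q _
    exact Cfsg.Agent.Lib.Resistant67.commutatorElement_mem_center_of_cube hc27 hne p q
  have hceq : commutator (P : Subgroup G) = Subgroup.center _ := by
    refine (Nat.prime_three.eq_one_or_self_of_dvd _ (hZ ▸ Subgroup.card_dvd_of_le hcle)).elim ?_
      (fun e => Subgroup.eq_of_le_of_card_ge hcle (by rw [hZ, e]))
    intro e
    exfalso
    obtain ⟨p, q, hpq⟩ := hne
    refine hpq (commutatorElement_eq_one_iff_mul_comm.1 ?_)
    have hm := Subgroup.commutator_mem_commutator (H₁ := (⊤ : Subgroup (P : Subgroup G)))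
      (H₂ := ⊤) (Subgroup.mem_top p) (Subgroup.mem_top q)
    rw [← commutator_def, Subgroup.eq_bot_of_card_eq _ e] at hm
    exact Subgroup.mem_bot.1 hm
  have hfr : frattini (P : Subgroup G) = Subgroup.center _ :=
    le_antisymm (Cfsg.Agent.Lib.PGroups.frattini_le_of_pow_commutator (p := 3) _
        (fun x => by rw [hexp]; exact one_mem _) hcle)
      (hceq ▸ Cfsg.Agent.Lib.PGroups.commutator_le_frattini (p := 3) P.2)
  refine ⟨⟨⟨P.2, hfr, hceq⟩, hZ⟩, h27, ?_, a, b, ha3, hb3, hab, fun c hc => ?_⟩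
  · have h1 := Subgroup.card_mul_index (Subgroup.normalizer ((P : Subgroup G) : Set G))
    have h2 : Nat.card (Sylow 3 G) = (Subgroup.normalizer ((P : Subgroup G) : Set G)).index := P.card_eq_index_normalizer
    rw [← h2, h.card_sylow_three_group, h.card_group] at h1
    omega
  · obtain ⟨g, hg⟩ := exists_conj_mem_three P0 hc
    have hcg : IsConj c (g * c * g⁻¹) := isConj_iff.2 ⟨g, rfl⟩
    rcases hP0 _ hg with e | e | e
    · exfalso
      have := orderOf_conj_eq g c
      rw [e, orderOf_one, hc] at this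
      omega
    · exact Or.inr (hcg.trans e.symm)
    · exact Or.inl (hcg.trans e.symm)

end Setting

end Cfsg.Agent.Lib.HallJanko
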