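import Mathlib
import Cfsg.Agent.Lib.HallJanko.SylowThree

/-!
# Hall-Janko type: the Sylow 7-subgroups

Owner: helper99.
-/

set_option autoImplicit false
set_option linter.style.haveILetI false

namespace Cfsg.Agent.Lib.HallJanko

open Cfsg.Agent.Lib.LargeExtraspecial.Basic Cfsg.Agent.Lib.HallJanko.Model
open Cfsg.Agent.Lib.Involutions.Basic (orderOf_conj_eq)

variable {G : Type*} [Group G] [Finite G] {z : G} {Q : Subgroup G} {u : Fin 5 → G} {t : G}

namespace Setting

/-- The centralisers of the elements of order three have order `1080` or `36`. -/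
theorem cent_three_cases (h : Setting z Q u t) {c : G} (hc : orderOf c = 3) :
    Nat.card (Subgroup.centralizer ({c} : Set G)) = 1080 ∨
      Nat.card (Subgroup.centralizer ({c} : Set G)) = 36 := by
  haveI : Fact (Nat.Prime 3) := ⟨Nat.prime_three⟩
  obtain ⟨V, M0, hs⟩ := h.exists_str
  obtain ⟨b, hb, hb3⟩ := hs.exists_orderOf 3 (by norm_num)
  obtain ⟨P, a, ha3, haC, -, -, hcen, -⟩ := h.exists_sylow_three
  obtain ⟨g, hg⟩ := exists_conj_mem_three P hc
  have hcg : IsConj c (g * c * g⁻¹) := isConj_iff.2 ⟨g, rfl⟩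
  rw [card_centralizer_of_isConj hcg]
  by_cases hz : ∀ x ∈ (P : Subgroup G), Commute x (g * c * g⁻¹)
  · left
    obtain ⟨i, hi⟩ := Subgroup.mem_zpowers_iff.1 (hcen _ hg hz)
    have hne : a ^ i ≠ 1 := by
      rw [hi]
      intro e
      have := orderOf_conj_eq g c
      rw [e, orderOf_one, hc] at this
      omega
    rw [← hi, centralizer_zpowers_pow Nat.prime_three ha3 hne]
    exact h.cent_three_z haC ha3
  · right
    rw [← card_centralizer_of_isConj (h.noncentral_conj hs hb hb3 P hg hz)]
    exact TStr.cent_three h hs hb hb3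

theorem sylow_seven_structure (h : Setting z Q u t) (D : Sylow 7 G) :
    Subgroup.centralizer ((D : Subgroup G) : Set G) = D ∧
      Nat.card (Subgroup.normalizer ((D : Subgroup G) : Set G)) = 42 ∧
      ¬ IsMulCommutative (Subgroup.normalizer ((D : Subgroup G) : Set G)) := by
  haveI : Fact (Nat.Prime 7) := ⟨by norm_num⟩
  have hD7 : Nat.card (D : Subgroup G) = 7 := by
    rw [Sylow.card_eq_multiplicity, h.card_group, show (604800 : ℕ) = 7 * 86400 by norm_num,
      Nat.factorization_mul (by norm_num) (by norm_num), Finsupp.add_apply,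
      Nat.Prime.factorization_self (by norm_num), Nat.factorization_eq_zero_of_not_dvd (by norm_num)]
    rfl
  obtain ⟨⟨d, hdD⟩, hd⟩ := exists_prime_orderOf_dvd_card' (G := (D : Subgroup G)) 7 (by rw [hD7])
  have hd7 : orderOf d = 7 := by rw [← hd, ← Subgroup.orderOf_coe]
  have hDd : (D : Subgroup G) = Subgroup.zpowers d :=
    (Subgroup.eq_of_le_of_card_ge (Subgroup.zpowers_le.2 hdD) (by rw [hD7, Nat.card_zpowers, hd7])).symm
  have hCeq : Subgroup.centralizer ((D : Subgroup G) : Set G) = Subgroup.centralizer ({d} : Set G) := by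
    rw [hDd, Subgroup.zpowers_eq_closure, Subgroup.centralizer_closure]
  obtain ⟨k, -, hk⟩ := h.cent_seven hd7
  have hk0 : k = 0 := by
    by_contra hk0
    haveI : Fact (Nat.Prime 3) := ⟨Nat.prime_three⟩
    obtain ⟨c, hc⟩ := exists_prime_orderOf_dvd_card' (G := Subgroup.centralizer ({d} : Set G)) 3 (by
      rw [hk]; exact (dvd_pow_self 3 hk0).mul_left 7)
    have hc3 : orderOf (c : G) = 3 := by rw [Subgroup.orderOf_coe]; exact hc
    have h1 := Subgroup.orderOf_dvd_natCard _
      (mem_centralizer_of_commute (commute_of_mem c.2).symm : d ∈ Subgroup.centralizer ({(c : G)} : Set G))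
    rw [hd7] at h1
    rcases h.cent_three_cases hc3 with e | e <;> rw [e] at h1 <;> norm_num at h1
  rw [hk0, pow_zero, mul_one] at hk
  have hC : Subgroup.centralizer ((D : Subgroup G) : Set G) = D := by
    rw [hCeq]
    refine (Subgroup.eq_of_le_of_card_ge ?_ (by rw [hk, hD7])).symm
    rw [hDd]
    exact Subgroup.zpowers_le.2 (mem_centralizer_of_commute (Commute.refl _))
  set N := Subgroup.normalizer ((D : Subgroup G) : Set G) with hN
  have he6 : (D : Subgroup G).relIndex N ∣ 6 := by
    haveI : IsCyclic (D : Subgroup G) := isCyclic_of_prime_card hD7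
    have h1 := Cfsg.Agent.Lib.SylowNumbers.SimpleAux.relIndex_centralizer_dvd_totient (D : Subgroup G) inferInstance
    rw [hC, hD7, Nat.totient_prime (by norm_num)] at h1
    exact h1
  have hNcard : Nat.card N = 7 * (D : Subgroup G).relIndex N := by
    rw [← Subgroup.card_mul_index ((D : Subgroup G).subgroupOf N),
      Nat.card_congr (Subgroup.subgroupOfEquivOfLe (Subgroup.le_normalizer (H := (D : Subgroup G)))).toEquiv, hD7]
    rfl
  have h42 : Nat.card N = 42 := by
    have h1 := Subgroup.card_mul_index N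
    have h2 : Nat.card (Sylow 7 G) = N.index := D.card_eq_index_normalizer
    have hmod := card_sylow_modEq_one 7 G
    rw [← h2, h.card_group, hNcard] at h1
    rw [hNcard]
    have hle := Nat.le_of_dvd (by norm_num) he6
    unfold Nat.ModEq at hmod
    generalize Nat.card (Sylow 7 G) = s at h1 hmod
    generalize (D : Subgroup G).relIndex N = e at h1 he6 hle ⊢
    interval_cases e <;> omega
  refine ⟨hC, h42, fun hcm => ?_⟩
  haveI := hcm
  have hle : N ≤ Subgroup.centralizer ((D : Subgroup G) : Set G) := fun x hx =>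
    Subgroup.mem_centralizer_iff.2 fun y hy => congrArg Subtype.val
      (mul_comm' (⟨y, Subgroup.le_normalizer hy⟩ : N) ⟨x, hx⟩)
  rw [hC] at hle
  have := Subgroup.card_le_of_le hle
  rw [h42, hD7] at this
  omega

end Setting

end Cfsg.Agent.Lib.HallJanko
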